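import Cfsg.Agent.H57.SzSylowAut
import Cfsg.Agent.H57.SzSolvable

/-!
Automorphisms of the Suzuki groups: every one is inner times a field automorphism.
-/

set_option autoImplicit false

namespace H57

variable {F : Type*} [Field F] [Fintype F] {m : ℕ}

/-- Applying a field automorphism to the entries of a matrix in `SL₄`. -/
noncomputable def fieldSL (σ : F ≃+* F) :
    Matrix.SpecialLinearGroup (Fin 4) F →* Matrix.SpecialLinearGroup (Fin 4) F :=
  Matrix.SpecialLinearGroup.map (σ : F →+* F)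

theorem fieldSL_gen (hF : Fintype.card F = 2 ^ (2 * m + 1)) (σ : F ≃+* F) :
    (∀ a b, fieldSL σ (tSL m a b) = tSL m (σ a) (σ b)) ∧
      (∀ k : Fˣ, fieldSL σ (dSL m k) = dSL m (Units.map (σ : F →* F) k)) ∧
        fieldSL σ (wSL hF) = wSL hF := by
  refine ⟨fun a b => ?_, fun k => ?_, ?_⟩
  · apply Matrix.SpecialLinearGroup.ext
    intro i j
    show σ (tMat m a b i j) = tMat m (σ a) (σ b) i j
    fin_cases i <;> fin_cases j <;> simp [tMat, oF, galAut_commute_th]
  · apply Matrix.SpecialLinearGroup.ext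
    intro i j
    show σ (dMat m (k : F) i j) = dMat m ((Units.map (σ : F →* F) k : Fˣ) : F) i j
    fin_cases i <;> fin_cases j <;> simp [dMat]
  · apply Matrix.SpecialLinearGroup.ext
    intro i j
    show σ (Cfsg.suzukiForm F i j) = Cfsg.suzukiForm F i j
    fin_cases i <;> fin_cases j <;> simp [Cfsg.suzukiForm]

theorem fieldSL_mem (hm : 1 ≤ m) (hF : Fintype.card F = 2 ^ (2 * m + 1)) (σ : F ≃+* F)
    (g : Cfsg.Sz F m) : fieldSL σ g.1 ∈ Cfsg.Sz F m := by
  obtain ⟨ht, hd, hw⟩ := fieldSL_gen hF σ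
  rcases sz_cases hm hF g with ⟨a, b, k, rfl⟩ | ⟨a, b, c, d, k, rfl⟩
  · show fieldSL σ (tSL m a b * dSL m k) ∈ _
    rw [map_mul, ht, hd]
    exact mul_mem (tSL_mem hF _ _) (dSL_mem hF _)
  · show fieldSL σ (tSL m a b * wSL hF * (tSL m c d * dSL m k)) ∈ _
    rw [map_mul, map_mul, map_mul, ht, ht, hd, hw]
    exact mul_mem (mul_mem (tSL_mem hF _ _) (wSL_mem hF)) (mul_mem (tSL_mem hF _ _) (dSL_mem hF _))

/-- The field automorphisms of the Suzuki group. -/
noncomputable def fieldAut (hm : 1 ≤ m) (hF : Fintype.card F = 2 ^ (2 * m + 1)) (σ : F ≃+* F) :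
    MulAut (Cfsg.Sz F m) where
  toFun g := ⟨fieldSL σ g.1, fieldSL_mem hm hF σ g⟩
  invFun g := ⟨fieldSL σ.symm g.1, fieldSL_mem hm hF σ.symm g⟩
  left_inv g := by
    apply Subtype.ext
    apply Matrix.SpecialLinearGroup.ext
    intro i j
    exact σ.symm_apply_apply _
  right_inv g := by
    apply Subtype.ext
    apply Matrix.SpecialLinearGroup.ext
    intro i j
    exact σ.apply_symm_apply _
  map_mul' g h := Subtype.ext (map_mul _ _ _)

theorem fieldAut_tEl (hm : 1 ≤ m) (hF : Fintype.card F = 2 ^ (2 * m + 1)) (σ : F ≃+* F) (a b : F) :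
    fieldAut hm hF σ (tEl hF a b) = tEl hF (σ a) (σ b) :=
  Subtype.ext ((fieldSL_gen hF σ).1 a b)

theorem fieldAut_mul (hm : 1 ≤ m) (hF : Fintype.card F = 2 ^ (2 * m + 1)) (σ τ : F ≃+* F) :
    fieldAut hm hF (σ * τ) = fieldAut (m := m) hm hF σ * fieldAut hm hF τ := by
  apply MulEquiv.ext
  intro g
  apply Subtype.ext
  apply Matrix.SpecialLinearGroup.ext
  intro i j
  rfl

theorem conj_dEl_tEl (hF : Fintype.card F = 2 ^ (2 * m + 1)) (k : Fˣ) (a b : F) :
    dEl hF k * tEl hF a b * (dEl hF k)⁻¹ = tEl hF ((k : F) * a) (th m (k : F) * k * b) := by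
  rw [dEl_tEl, mul_inv_cancel_right]

/-- An element `T(a,b) D(l)` with `l ≠ 1` is conjugate to `D(l)` by an element of the unipotent group. -/
theorem exists_conj_diag (hF : Fintype.card F = 2 ^ (2 * m + 1)) (a b : F) {l : Fˣ} (hl : l ≠ 1) :
    ∃ c d, tEl hF c d * (tEl hF a b * dEl hF l) * (tEl hF c d)⁻¹ = dEl hF l := by
  have hl' : (1 + (l : F)) ≠ 0 := fun h => hl (Units.ext ((add_eq_zero_iff hF).mp h).symm)
  have hl'' : 1 + th m (l : F) * l ≠ 0 := fun h =>
    hl (Units.ext (th_mul_self_eq_one hF ((add_eq_zero_iff hF).mp h).symm))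
  set c := a / (1 + (l : F)) with hc
  set e := b + th m c * a + th m (l : F) * l * (th m c * c) + th m (c + a) * ((l : F) * c) with he
  refine ⟨c, e / (1 + th m (l : F) * l), ?_⟩
  rw [mul_inv_eq_iff_eq_mul, dEl_tEl, ← mul_assoc, tEl_mul]
  congr 2
  · have : c * (1 + (l : F)) = a := div_mul_cancel₀ _ hl'
    linear_combination (-1 : F) * this + c * two_eq_zero hF
  · have h1 : e / (1 + th m (l : F) * l) * (1 + th m (l : F) * l) = e := div_mul_cancel₀ _ hl''
    have h2 : c * (1 + (l : F)) = a := div_mul_cancel₀ _ hl'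
    have h3 : c + a = (l : F) * c := by linear_combination (-1 : F) * h2 + c * two_eq_zero hF
    rw [h3, th_mul] at he
    have h4 : b + th m c * a = e := by
      rw [he]; linear_combination (-(th m (l : F) * l * (th m c * c))) * two_eq_zero hF
    linear_combination (e / (1 + th m (l : F) * l)) * two_eq_zero hF + h4 - h1

theorem map_tSub_conj (hF : Fintype.card F = 2 ^ (2 * m + 1)) (a b : F) :
    (tSub (m := m) hF).map (MulAut.conj (tEl hF a b)).toMonoidHom = tSub hF :=
  map_eq_of_mem_normalizer (Subgroup.le_normalizer (tEl_mem_tSub hF a b))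

theorem map_aut_conj {G : Type*} [Group G] (α : MulAut G) (A : Subgroup G) (g : G) :
    (A.map (MulAut.conj g).toMonoidHom).map α.toMonoidHom =
      (A.map α.toMonoidHom).map (MulAut.conj (α g)).toMonoidHom := by
  rw [Subgroup.map_map, Subgroup.map_map]
  congr 1
  ext x
  simp

/-- An automorphism fixing the unipotent subgroup and the torus pointwise is trivial. -/
theorem aut_eq_one (hm : 1 ≤ m) (hF : Fintype.card F = 2 ^ (2 * m + 1))
    (β : MulAut (Cfsg.Sz F m)) (hT : ∀ a b, β (tEl hF a b) = tEl hF a b)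
    (hD : ∀ k, β (dEl hF k) = dEl hF k) : β = 1 := by
  classical
  haveI := sz_simple hm hF
  set T := tSub (m := m) hF
  have hfix : T.map β.toMonoidHom = T := by
    ext x
    constructor
    · rintro ⟨y, ⟨a, b, rfl⟩, rfl⟩
      exact ⟨a, b, hT a b⟩
    · rintro ⟨a, b, rfl⟩
      exact ⟨_, ⟨a, b, rfl⟩, hT a b⟩
  have hTW : T.map (MulAut.conj (wEl hF)).toMonoidHom ≠ T := by
    intro e
    have h := (normalizer_tSub hm hF).le (mem_normalizer_of_map_eq e)
    rw [MulAction.mem_stabilizer_iff, wEl_infty] at h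
    exact ovPt_ne_infty 0 0 h
  obtain ⟨k0, hk0⟩ : ∃ k : Fˣ, k ≠ 1 := by
    obtain ⟨x, h0, hx⟩ := th_ne_id hm hF
    exact ⟨Units.mk0 x h0, fun h => hx (by
      rw [show x = 1 from congrArg Units.val h, th_one])⟩
  have hBT : ∀ g : Cfsg.Sz F m, g • Cfsg.suzukiPointInfinity F = Cfsg.suzukiPointInfinity F →
      T.map (MulAut.conj g).toMonoidHom = T := fun g hg =>
    map_eq_of_mem_normalizer ((normalizer_tSub hm hF).ge hg)
  have hW : T.map (MulAut.conj (β (wEl hF))).toMonoidHom = T.map (MulAut.conj (wEl hF)).toMonoidHom := by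
    set g := β (wEl hF)
    have hne : T.map (MulAut.conj g).toMonoidHom ≠ T := by
      intro e
      apply hTW
      apply Subgroup.map_injective (f := β.toMonoidHom) β.injective
      rw [map_aut_conj, hfix]
      exact e
    have hnorm : ∀ k : Fˣ, g⁻¹ * dEl hF k * g ∈ Subgroup.normalizer (T : Set (Cfsg.Sz F m)) := by
      intro k
      have e : g⁻¹ * dEl hF k * g = β (dEl hF k⁻¹) := by
        rw [show g = β (wEl hF) from rfl, ← hD k, ← map_inv, ← map_mul, ← map_mul,
          inv_eq_of_mul_eq_one_right (wEl_mul_self hF), wEl_dEl]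
      rw [e, hD, normalizer_tSub hm hF]
      exact dEl_infty hF _
    have hfixp : dEl hF k0 • (g • Cfsg.suzukiPointInfinity F) = g • Cfsg.suzukiPointInfinity F := by
      have h := (normalizer_tSub hm hF).le (hnorm k0)
      rw [MulAction.mem_stabilizer_iff, mul_smul, mul_smul, inv_smul_eq_iff] at h
      exact h
    rcases dEl_fixed hm hF hk0 (sz_smul_mem g infty_mem) hfixp with hi | hz
    · exact absurd (hBT g hi) hne
    · have h : T.map (MulAut.conj (wEl hF * g)).toMonoidHom = T :=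
        hBT _ (by rw [mul_smul, hz, wEl_ovPt_zero])
      conv_rhs => rw [← h]
      rw [conj_conj_map, ← mul_assoc, wEl_mul_self, one_mul]
  have hall : ∀ g : Cfsg.Sz F m, g⁻¹ * β g ∈ Subgroup.normalizer (T : Set (Cfsg.Sz F m)) := by
    intro g
    apply mem_normalizer_of_map_eq
    have key : T.map (MulAut.conj (β g)).toMonoidHom = T.map (MulAut.conj g).toMonoidHom := by
      rcases sz_cases hm hF g with ⟨a, b, k, rfl⟩ | ⟨a, b, c, d, k, rfl⟩
      · rw [map_mul, hT, hD]
      · have hs : T.map (MulAut.conj (tEl hF c d * dEl hF k)).toMonoidHom = T :=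
          hBT _ (by rw [mul_smul, dEl_infty, tEl_infty])
        rw [map_mul β, map_mul β, map_mul β, hT, hT, hD,
          ← conj_conj_map T (tEl hF c d * dEl hF k), hs,
          ← conj_conj_map T (tEl hF c d * dEl hF k), hs,
          ← conj_conj_map T (β (wEl hF)), hW, conj_conj_map]
    rw [← conj_conj_map T (β g), key, conj_conj_map, inv_mul_cancel]
    ext x
    simp [mem_map_conj_iff]
  have hcore : ∀ x : Cfsg.Sz F m, x⁻¹ * β x ∈ (Subgroup.normalizer (T : Set (Cfsg.Sz F m))).normalCore := by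
    intro x h
    have e : h * (x⁻¹ * β x) * h⁻¹ = ((x * h⁻¹)⁻¹ * β (x * h⁻¹)) * (h⁻¹⁻¹ * β h⁻¹)⁻¹ := by
      rw [map_mul]; group
    show h * (x⁻¹ * β x) * h⁻¹ ∈ _
    rw [e]
    exact mul_mem (hall _) (inv_mem (hall _))
  have hbot : (Subgroup.normalizer (T : Set (Cfsg.Sz F m))).normalCore = ⊥ := by
    refine (IsSimpleGroup.eq_bot_or_eq_top_of_normal _ inferInstance).resolve_right fun h => hTW ?_
    refine map_eq_of_mem_normalizer (Subgroup.normalCore_le _ ?_)
    rw [h]
    exact Subgroup.mem_top _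
  apply MulEquiv.ext
  intro g
  have h := hcore g
  rw [hbot, Subgroup.mem_bot, inv_mul_eq_one] at h
  rw [MulAut.one_apply]
  exact h.symm

theorem aut_decomp (hm : 1 ≤ m) (hF : Fintype.card F = 2 ^ (2 * m + 1)) (α : MulAut (Cfsg.Sz F m)) :
    ∃ (g : Cfsg.Sz F m) (σ : F ≃+* F), α = MulAut.conj g * fieldAut hm hF σ := by
  classical
  haveI : Fact (Nat.Prime 2) := ⟨Nat.prime_two⟩
  set T := tSub (m := m) hF
  obtain ⟨s, hs⟩ : ∃ s, (T.map α.toMonoidHom).map (MulAut.conj s).toMonoidHom = T := by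
    let P : Sylow 2 (Cfsg.Sz F m) := α • tSylow hm hF
    obtain ⟨s, hs⟩ := MulAction.exists_smul_eq (Cfsg.Sz F m) P (tSylow hm hF)
    refine ⟨s, ?_⟩
    have h2 := congrArg (fun Q : Sylow 2 (Cfsg.Sz F m) => (Q : Subgroup (Cfsg.Sz F m))) hs
    simp only [Sylow.coe_subgroup_smul, P, coe_tSylow] at h2
    exact h2
  obtain ⟨g0, hg0⟩ := IsCyclic.exists_zpow_surjective (G := Fˣ)
  have hg01 : g0 ≠ 1 := by
    rintro rfl
    obtain ⟨x, h0, hx⟩ := th_ne_id hm hF
    obtain ⟨n, hn⟩ := hg0 (Units.mk0 x h0)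
    simp only [one_zpow] at hn
    exact hx (by rw [show x = 1 from (congrArg Units.val hn).symm, th_one])
  set α1 := MulAut.conj s * α with hα1
  have hT1 : T.map α1.toMonoidHom = T := by
    conv_rhs => rw [← hs]
    rw [Subgroup.map_map]
    congr 1
  have hval1 : ∀ a b, ∃ c d, α1 (tEl hF a b) = tEl hF c d := fun a b =>
    (hT1.le ⟨_, tEl_mem_tSub hF a b, rfl⟩ : α1 (tEl hF a b) ∈ T)
  obtain ⟨a0, b0, l, hl⟩ := fix_infty hm hF (α1 (dEl hF g0)) (by
    have h : α1 (dEl hF g0) ∈ Subgroup.normalizer (T : Set (Cfsg.Sz F m)) := by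
      apply mem_normalizer_of_map_eq
      conv_lhs => rw [← hT1]
      rw [← map_aut_conj, map_eq_of_mem_normalizer ((normalizer_tSub hm hF).ge (dEl_infty hF g0)),
        hT1]
    exact (normalizer_tSub hm hF).le h)
  have hl1 : l ≠ 1 := by
    rintro rfl
    rw [dEl_one, mul_one] at hl
    apply hg01
    apply dHom_injective (m := m) hF
    rw [map_one, dHom_apply, ← orderOf_eq_one_iff]
    have h1 : orderOf (dEl hF g0) ∣ 2 ^ 2 := by
      rw [← MulEquiv.orderOf_eq α1, hl]
      exact orderOf_dvd_of_pow_eq_one (tEl_pow_four hF _ _)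
    have h2 : orderOf (dEl hF g0) ∣ 2 ^ (2 * m + 1) - 1 := by
      rw [← card_dSub (m := m) hF]
      exact Subgroup.orderOf_dvd_natCard _ ⟨g0, rfl⟩
    refine Nat.eq_one_of_dvd_coprimes ((Nat.prime_two.coprime_iff_not_dvd.mpr ?_).pow_left 2) h1 h2
    have := q_even m
    have := Nat.one_le_two_pow (n := 2 * m + 1)
    omega
  obtain ⟨c, d, hcd⟩ := exists_conj_diag hF a0 b0 hl1
  set α2 := MulAut.conj (tEl hF c d) * α1 with hα2
  have hg2 : α2 (dEl hF g0) = dEl hF l := by
    rw [hα2, MulAut.mul_apply, hl, MulAut.conj_apply, hcd]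
  have hT2 : ∀ x : T, α2 x ∈ T := by
    rintro ⟨_, a, b, rfl⟩
    obtain ⟨e, f, hef⟩ := hval1 a b
    rw [hα2, MulAut.mul_apply, hef, MulAut.conj_apply]
    exact mul_mem (mul_mem (tEl_mem_tSub hF _ _) (tEl_mem_tSub hF _ _))
      (inv_mem (tEl_mem_tSub hF _ _))
  let f : T → T := fun x => ⟨α2 x, hT2 x⟩
  have hf : Function.Injective f := fun x y e =>
    Subtype.ext (α2.injective (congrArg Subtype.val e))
  let ψ : MulAut T := MulEquiv.ofBijective
    (MonoidHom.mk' f fun x y => Subtype.ext (map_mul α2 _ _))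
    (Finite.injective_iff_bijective.mp hf)
  obtain ⟨⟨k, σ, h⟩, hp⟩ := exists_sylAut hm hF ψ
  have hval : ∀ a b : F, α2 (tEl hF a b) = tEl hF ((k : F) * σ a) (th m (k : F) * k * σ b + h a) := by
    intro a b
    have e := congrArg Subtype.val (DFunLike.congr_fun hp (tCoord hF (a, b)))
    rw [sylAut_apply] at e
    exact e.symm
  -- equivariance with respect to the torus generator
  have hequiv : ∀ a b : F,
      α2 (tEl hF ((g0 : F) * a) (th m (g0 : F) * g0 * b)) =
        dEl hF l * α2 (tEl hF a b) * (dEl hF l)⁻¹ := by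
    intro a b
    rw [← conj_dEl_tEl, map_mul, map_mul, map_inv, hg2]
  have hlσ : (l : F) = σ (g0 : F) := by
    have e := hequiv 1 0
    rw [hval, hval, conj_dEl_tEl, mul_one, map_one, mul_one] at e
    have e1 := (tEl_inj hF e).1
    exact mul_left_cancel₀ k.ne_zero (by rw [e1]; ring)
  have hD2 : ∀ x : Fˣ, α2 (dEl hF x) = dEl hF (Units.map (σ : F →* F) x) := by
    intro x
    obtain ⟨n, rfl⟩ := hg0 x
    have hl' : l = Units.map (σ : F →* F) g0 := Units.ext hlσ
    simp only
    rw [map_zpow (Units.map (σ : F →* F)), ← dHom_apply, ← dHom_apply, map_zpow, map_zpow,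
      map_zpow, dHom_apply, hg2, hl', dHom_apply]
  have hh : ∀ a, h a = 0 := by
    have hscale : ∀ (x : Fˣ) (a : F), h ((x : F) * a) = th m (σ (x : F)) * σ (x : F) * h a := by
      intro x a
      have e : α2 (dEl hF x * tEl hF a 0 * (dEl hF x)⁻¹) =
          dEl hF (Units.map (σ : F →* F) x) * α2 (tEl hF a 0) *
            (dEl hF (Units.map (σ : F →* F) x))⁻¹ := by
        rw [map_mul, map_mul, map_inv, hD2]
      rw [conj_dEl_tEl, hval, hval, conj_dEl_tEl, mul_zero, map_zero, mul_zero, zero_add,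
        zero_add] at e
      exact (tEl_inj hF e).2
    have hpow : ∀ x : F, h x = th m (σ x) * σ x * h 1 := by
      intro x
      rcases eq_or_ne x 0 with rfl | hx
      · simp
      · simpa using hscale (Units.mk0 x hx) 1
    have h1 : h 1 = 0 := by
      by_contra h1
      obtain ⟨x, -, hx⟩ := th_ne_id hm hF
      have e := map_add h x 1
      rw [hpow (x + 1), hpow x, map_add, map_one, th_add hF, th_one] at e
      have : th m (σ x) + σ x = 0 := by
        apply mul_right_cancel₀ h1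
        linear_combination e
      apply hx
      apply σ.injective
      rw [galAut_commute_th]
      exact (add_eq_zero_iff hF).mp this
    intro a
    rw [hpow a, h1, mul_zero]
  set β := (fieldAut hm hF σ)⁻¹ * MulAut.conj (dEl hF k⁻¹) * α2 with hβ
  have hfield : ∀ x : Fˣ, fieldAut hm hF σ (dEl hF x) = dEl hF (Units.map (σ : F →* F) x) :=
    fun x => Subtype.ext ((fieldSL_gen hF σ).2.1 x)
  have hone : β = 1 := by
    refine aut_eq_one hm hF β (fun a b => ?_) fun x => ?_
    · rw [hβ, MulAut.mul_apply, MulAut.mul_apply, hval, MulAut.conj_apply, conj_dEl_tEl]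
      apply (fieldAut hm hF σ).injective
      have hk0 : (k : F) ≠ 0 := k.ne_zero
      have hk1 : th m (k : F) ≠ 0 := mt th_eq_zero.mp hk0
      rw [MulAut.apply_inv_self, fieldAut_tEl, hh, add_zero, Units.val_inv_eq_inv_val, th_inv]
      congr 1 <;> field_simp
    · rw [hβ, MulAut.mul_apply, MulAut.mul_apply, hD2, MulAut.conj_apply]
      apply (fieldAut hm hF σ).injective
      rw [MulAut.apply_inv_self, hfield, ← dHom_apply, ← dHom_apply, ← map_mul, ← map_inv,
        ← map_mul, inv_inv, mul_comm, mul_inv_cancel_left]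
  refine ⟨s⁻¹ * (tEl hF c d)⁻¹ * dEl hF k, σ, ?_⟩
  have hd : (dEl hF k⁻¹ : Cfsg.Sz F m) = (dEl hF k)⁻¹ := map_inv (dHom hF) k
  rw [hβ, hα2, hα1, hd, map_inv MulAut.conj, mul_assoc, inv_mul_eq_one, eq_inv_mul_iff_mul_eq] at hone
  rw [map_mul, map_mul, map_inv, map_inv, mul_assoc _ (MulAut.conj (dEl hF k)), hone]
  group

theorem fieldAut_not_inner (hm : 1 ≤ m) (hF : Fintype.card F = 2 ^ (2 * m + 1)) {σ : F ≃+* F}
    {g : Cfsg.Sz F m} (h : MulAut.conj g = fieldAut hm hF σ) : σ = 1 := by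
  have hconj : ∀ a b, g * tEl hF a b * g⁻¹ = tEl hF (σ a) (σ b) := fun a b => by
    rw [← MulAut.conj_apply, h, fieldAut_tEl]
  have hn : g ∈ Subgroup.normalizer (tSub (m := m) hF : Set (Cfsg.Sz F m)) := by
    apply mem_normalizer_of_map_eq
    ext x
    constructor
    · rintro ⟨_, ⟨a, b, rfl⟩, rfl⟩
      exact ⟨_, _, hconj a b⟩
    · rintro ⟨a, b, rfl⟩
      refine ⟨tEl hF (σ.symm a) (σ.symm b), tEl_mem_tSub hF _ _, ?_⟩
      show g * _ * g⁻¹ = _
      rw [hconj, σ.apply_symm_apply, σ.apply_symm_apply]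
  obtain ⟨a, b, k, rfl⟩ := fix_infty hm hF g ((normalizer_tSub hm hF).le hn)
  have key : ∀ x : F, σ x = (k : F) * x := by
    intro x
    have e := hconj x 0
    rw [show tEl hF a b * dEl hF k * tEl hF x 0 * (tEl hF a b * dEl hF k)⁻¹ =
      tEl hF a b * (dEl hF k * tEl hF x 0 * (dEl hF k)⁻¹) * (tEl hF a b)⁻¹ by group,
      conj_dEl_tEl, tEl_inv, tEl_mul, tEl_mul] at e
    rw [← (tEl_inj hF e).1]
    linear_combination a * two_eq_zero hF
  have hk : (k : F) = 1 := by simpa using (key 1).symm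
  ext x
  rw [key, hk, one_mul]
  rfl

end H57
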