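import Cfsg.Agent.H57.SzField
import Cfsg.Agent.H66.FieldMaps

/-!
Additive maps compatible with the squaring map `x ↦ θ x * x` are semilinear.
-/

set_option autoImplicit false

namespace H57

variable {F : Type*} [Field F] [Fintype F] {m : ℕ}

theorem galAut_commute_th (σ : F ≃+* F) (x : F) : σ (th m x) = th m (σ x) := map_pow σ _ _

/-- `θ` as a field automorphism. -/
noncomputable def thEquiv (hF : Fintype.card F = 2 ^ (2 * m + 1)) : F ≃+* F :=
  RingEquiv.ofBijective
    ({ toFun := th m
       map_one' := th_one m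
       map_mul' := th_mul m
       map_zero' := th_zero m
       map_add' := th_add hF } : F →+* F)
    ⟨fun _ _ => th_inj hF, Finite.injective_iff_surjective.mp fun _ _ => th_inj hF⟩

@[simp] theorem thEquiv_apply (hF : Fintype.card F = 2 ^ (2 * m + 1)) (x : F) :
    thEquiv hF x = th m x := rfl

theorem galAut_indep {K : Type*} [Field K] [Fintype K] [CharP K 2] [Fintype (K ≃+* K)]
    (g : (K ≃+* K) → K) (hg : ∀ x, ∑ u, g u * u x = 0) (u : K ≃+* K) : g u = 0 := by
  have h := Fintype.linearIndependent_iff.mp (H66.aut_linearIndependent (F := K)) g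
  apply h
  funext x
  rw [Finset.sum_apply]
  exact hg x

theorem exists_pow_four_ne (hm : 1 ≤ m) (hF : Fintype.card F = 2 ^ (2 * m + 1)) :
    ∃ x : F, x ^ 4 ≠ x := by
  by_contra hcon
  push Not at hcon
  have hcard : 4 < Fintype.card F := by
    rw [hF]
    calc 4 < 2 ^ 3 := by norm_num
      _ ≤ _ := Nat.pow_le_pow_right (by norm_num) (by omega)
  have hd : ((Polynomial.X : Polynomial F) ^ 4 - Polynomial.X).natDegree = 4 := by compute_degree!
  have hz := Polynomial.eq_zero_of_natDegree_lt_card_of_eval_eq_zero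
    ((Polynomial.X : Polynomial F) ^ 4 - Polynomial.X) (f := id) Function.injective_id
    (fun x => by simp [hcon x]) (by omega)
  rw [hz, Polynomial.natDegree_zero] at hd
  omega

theorem card_field_aut (hF : Fintype.card F = 2 ^ (2 * m + 1)) :
    Nat.card (F ≃+* F) = 2 * m + 1 := by
  haveI := charTwo hF
  letI : Algebra (ZMod 2) F := ZMod.algebra F 2
  have hfr : Module.finrank (ZMod 2) F = 2 * m + 1 := by
    have h := Module.card_eq_pow_finrank (K := ZMod 2) (V := F)
    rw [hF, ZMod.card] at h
    exact (Nat.pow_right_injective le_rfl h).symm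
  rw [← hfr, ← IsGalois.card_aut_eq_finrank (ZMod 2) F]
  exact Nat.card_congr
    { toFun := fun σ => AlgEquiv.ofRingEquiv (f := σ) fun r =>
        DFunLike.congr_fun (Subsingleton.elim ((σ : F →+* F).comp (algebraMap (ZMod 2) F))
          (algebraMap (ZMod 2) F)) r
      invFun := fun σ => σ.toRingEquiv
      left_inv := fun σ => rfl
      right_inv := fun σ => rfl }

/-- The number of additive endomorphisms of the field. -/
theorem card_additive (hF : Fintype.card F = 2 ^ (2 * m + 1)) :
    Nat.card (F →+ F) = 2 ^ ((2 * m + 1) ^ 2) := by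
  haveI := charTwo hF
  letI : Algebra (ZMod 2) F := ZMod.algebra F 2
  have hfr : Module.finrank (ZMod 2) F = 2 * m + 1 := by
    have h := Module.card_eq_pow_finrank (K := ZMod 2) (V := F)
    rw [hF, ZMod.card] at h
    exact (Nat.pow_right_injective le_rfl h).symm
  haveI : Finite (F →ₗ[ZMod 2] F) := Module.finite_of_finite (ZMod 2)
  rw [Nat.card_congr (β := F →ₗ[ZMod 2] F)
    { toFun := fun f => f.toZModLinearMap 2
      invFun := fun f => f.toAddMonoidHom
      left_inv := fun f => rfl
      right_inv := fun f => LinearMap.ext fun _ => rfl },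
    Module.natCard_eq_pow_finrank (K := ZMod 2), Module.finrank_linearMap, hfr, Nat.card_zmod, sq]

theorem additive_semilinear (hm : 1 ≤ m) (hF : Fintype.card F = 2 ^ (2 * m + 1)) (L M : F →+ F)
    (h : ∀ x, M (th m x * x) = th m (L x) * L x) :
    ∃ (a : F) (σ : F ≃+* F), ∀ x, L x = a * σ x := by
  classical
  haveI := charTwo hF
  haveI : Finite (F ≃+* F) := Finite.of_injective (fun σ => (σ : F → F)) DFunLike.coe_injective
  letI := Fintype.ofFinite (F ≃+* F)
  obtain ⟨a, ha⟩ := H66.exists_additive_comb L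
  obtain ⟨b, hb⟩ := H66.exists_additive_comb M
  set Θ := thEquiv (m := m) hF
  have hmul : ∀ (σ τ : F ≃+* F) (x : F), (σ * τ) x = σ (τ x) := fun _ _ _ => rfl
  have hΘ : ∀ v : F ≃+* F, Θ * v ≠ v := by
    intro v e
    obtain ⟨x, -, hx⟩ := th_ne_id hm hF
    obtain ⟨y, rfl⟩ := v.surjective x
    exact hx (DFunLike.congr_fun e y)
  have hfour : ∀ v : F ≃+* F, Θ * (Θ * (Θ * (Θ * v))) ≠ v := by
    intro v e
    obtain ⟨x, hx⟩ := exists_pow_four_ne hm hF
    obtain ⟨y, rfl⟩ := v.surjective x
    apply hx
    have e' := DFunLike.congr_fun e y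
    simp only [hmul, Θ, thEquiv_apply, th_th hF] at e'
    rw [← pow_mul] at e'
    exact e'
  have indep : ∀ g : (F ≃+* F) → F, (∀ x, ∑ u, g u * u x = 0) → ∀ u, g u = 0 := fun g hg u =>
    galAut_indep g hg u
  let D : (F ≃+* F) → (F ≃+* F) → F := fun u v =>
    th m (a (Θ⁻¹ * u)) * a v + if u = Θ * v then b v else 0
  have hQ : ∀ x, ∑ u, ∑ v, D u v * (u x * v x) = 0 := by
    intro x
    have hL : th m (L x) * L x = ∑ u, ∑ v, th m (a (Θ⁻¹ * u)) * a v * (u x * v x) := by
      rw [← thEquiv_apply hF, ha x, map_sum, Finset.sum_mul]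
      refine Fintype.sum_equiv (Equiv.mulLeft Θ) _ _ fun i => ?_
      rw [Finset.mul_sum]
      refine Finset.sum_congr rfl fun v _ => ?_
      rw [Equiv.coe_mulLeft, inv_mul_cancel_left, map_mul, hmul]
      simp only [Θ, thEquiv_apply]
      ring
    have hM : M (th m x * x) =
        ∑ u, ∑ v, (if u = Θ * v then b v else 0) * (u x * v x) := by
      rw [hb, Finset.sum_comm]
      refine Finset.sum_congr rfl fun v _ => ?_
      simp only [ite_mul, zero_mul, Finset.sum_ite_eq', Finset.mem_univ, if_true]
      rw [map_mul, galAut_commute_th, hmul, thEquiv_apply]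
    simp only [D, add_mul, Finset.sum_add_distrib]
    rw [← hL, ← hM, h x, add_self_zero hF]
  have hD : ∀ u v, D u v = th m (a (Θ⁻¹ * u)) * a v + if u = Θ * v then b v else 0 :=
    fun u v => rfl
  clear_value D
  have hsym : ∀ u v, D u v + D v u = 0 := by
    have hpol : ∀ x y, ∑ u, (∑ v, (D u v + D v u) * v y) * u x = 0 := by
      intro x y
      have e : ∑ u, (∑ v, (D u v + D v u) * v y) * u x =
          ∑ u, ∑ v, D u v * (u (x + y) * v (x + y)) -
            (∑ u, ∑ v, D u v * (u x * v x)) - ∑ u, ∑ v, D u v * (u y * v y) := by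
        have e1 : ∑ u, ∑ v, D v u * v y * u x = ∑ u, ∑ v, D u v * (u y * v x) := by
          rw [Finset.sum_comm]
          exact Finset.sum_congr rfl fun u _ => Finset.sum_congr rfl fun v _ => by ring
        simp only [Finset.sum_mul, add_mul, Finset.sum_add_distrib]
        rw [e1]
        simp only [map_add, mul_add, add_mul, Finset.sum_add_distrib]
        have e2 : ∑ u, ∑ v, D u v * v y * u x = ∑ u, ∑ v, D u v * (u x * v y) :=
          Finset.sum_congr rfl fun u _ => Finset.sum_congr rfl fun v _ => by ring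
        rw [e2]
        abel
      rw [e, hQ, hQ, hQ, sub_zero, sub_zero]
    intro u v
    have hu : ∀ y, ∑ v, (D u v + D v u) * v y = 0 := fun y =>
      indep (fun w => ∑ v, (D w v + D v w) * v y) (fun x => hpol x y) u
    exact indep (fun v => D u v + D v u) hu v
  have hdiag : ∀ u, D u u = 0 := by
    have hsq : Function.Bijective fun u : F ≃+* F => Θ * (Θ * u) :=
      ⟨fun _ _ e => mul_left_cancel (mul_left_cancel e),
        fun u => ⟨Θ⁻¹ * (Θ⁻¹ * u), by simp [mul_inv_cancel_left]⟩⟩
    intro u
    obtain ⟨g, hg, hgu⟩ : ∃ g : (F ≃+* F) → F, (∀ x, ∑ u, g u * u x = 0) ∧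
        g (Θ * (Θ * u)) = D u u := by
      refine ⟨fun w => D (Θ⁻¹ * (Θ⁻¹ * w)) (Θ⁻¹ * (Θ⁻¹ * w)), fun x => ?_, by
        simp [inv_mul_cancel_left]⟩
      have hsplit : ∑ u, ∑ v, D u v * (u x * v x) = ∑ u, D u u * (u x * u x) := by
        rw [← Fintype.sum_prod_type', ← Finset.sum_filter_add_sum_filter_not _
          (fun p : (F ≃+* F) × (F ≃+* F) => p.1 = p.2)]
        have hoff : ∑ p ∈ Finset.univ.filter
            (fun p : (F ≃+* F) × (F ≃+* F) => ¬ p.1 = p.2), D p.1 p.2 * (p.1 x * p.2 x) = 0 :=
          Finset.sum_involution (fun p _ => p.swap)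
            (fun p _ => by
              simp only [Prod.fst_swap, Prod.snd_swap]
              linear_combination (p.1 x * p.2 x) * hsym p.1 p.2)
            (fun p hp _ e => (Finset.mem_filter.mp hp).2 (congrArg Prod.snd e))
            (fun p hp => by
              simp only [Finset.mem_filter, Finset.mem_univ, true_and, Prod.fst_swap,
                Prod.snd_swap] at hp ⊢
              exact Ne.symm hp)
            (fun p _ => Prod.swap_swap p)
        rw [hoff, add_zero]
        refine Finset.sum_bij (fun p _ => p.1) (fun _ _ => Finset.mem_univ _) ?_ ?_ ?_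
        · rintro ⟨p, p'⟩ hp ⟨r, r'⟩ hr e
          simp only [Finset.mem_filter, Finset.mem_univ, true_and] at hp hr
          subst hp hr
          simp only at e
          rw [e]
        · exact fun u _ => ⟨(u, u), by simp, rfl⟩
        · rintro ⟨p, p'⟩ hp
          simp only [Finset.mem_filter, Finset.mem_univ, true_and] at hp
          subst hp
          rfl
      rw [← hQ x, hsplit]
      refine (Fintype.sum_bijective _ hsq _ _ fun u => ?_).symm
      simp only [inv_mul_cancel_left, hmul, Θ, thEquiv_apply, th_th hF]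
      rw [sq]
    rw [← hgu]
    exact indep g hg _
  have hadj : ∀ i, a i ≠ 0 → a (Θ * i) = 0 := by
    intro i hi
    have e := hdiag (Θ * i)
    simp only [hD, inv_mul_cancel_left] at e
    rw [if_neg (fun e' => hΘ (Θ * i) e'.symm), add_zero, mul_eq_zero, th_eq_zero] at e
    exact e.resolve_left hi
  have hone : ∀ i j, a i ≠ 0 → a j ≠ 0 → j ≠ Θ * (Θ * i) → i = j := by
    intro i j hi hj hij
    by_contra hne
    have e := hsym (Θ * i) j
    simp only [hD, inv_mul_cancel_left] at e
    rw [if_neg (fun e' => hne (mul_left_cancel e')), if_neg hij, add_zero, add_zero,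
      hadj i hi, mul_zero, add_zero, mul_eq_zero, th_eq_zero] at e
    exact e.elim hi hj
  by_cases hs : ∀ i, a i = 0
  · exact ⟨0, RingEquiv.refl F, fun x => by simp [ha x, hs]⟩
  · push Not at hs
    obtain ⟨i, hi⟩ := hs
    refine ⟨a i, i, fun x => ?_⟩
    rw [ha x]
    refine Finset.sum_eq_single i (fun j _ hj => ?_) (by simp)
    suffices a j = 0 by rw [this, zero_mul]
    by_contra hj0
    by_cases h2 : j = Θ * (Θ * i)
    · refine hj (hone j i hj0 hi fun e => hfour i ?_)
      rw [← h2]
      exact e.symm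
    · exact hj (hone i j hi hj0 h2).symm

end H57
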