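import Cfsg.Agent.H57.SzForm
import Cfsg.Agent.H57.SzNorm
import Cfsg.Agent.H57.SzSemilinear

/-!
The trace separates the semisimple classes of the Suzuki group.
-/

set_option autoImplicit false

namespace H57

open Matrix

variable {F : Type*} [Field F] [Fintype F] {m : ℕ}

/-- The trace of an element as a `4 × 4` matrix. -/
def mtr (g : Cfsg.Sz F m) : F := Matrix.trace (g.1.1 : Matrix (Fin 4) (Fin 4) F)

theorem mtr_mul_comm (g h : Cfsg.Sz F m) : mtr (g * h) = mtr (h * g) :=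
  Matrix.trace_mul_comm _ _

theorem mtr_conj (s g : Cfsg.Sz F m) : mtr (s * g * s⁻¹) = mtr g := by
  rw [mtr_mul_comm, ← mul_assoc, inv_mul_cancel, one_mul]

theorem mtr_isConj {g h : Cfsg.Sz F m} (e : IsConj g h) : mtr g = mtr h := by
  obtain ⟨s, rfl⟩ := isConj_iff.mp e
  rw [mtr_conj]

theorem mtr_inv (hm : 1 ≤ m) (hF : Fintype.card F = 2 ^ (2 * m + 1)) (g : Cfsg.Sz F m) :
    mtr g⁻¹ = mtr g := by
  have hJ : Cfsg.suzukiForm F * Cfsg.suzukiForm F = 1 := by
    ext i j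
    fin_cases i <;> fin_cases j <;> simp [Cfsg.suzukiForm, Matrix.mul_apply, Fin.sum_univ_succ]
  set A : Matrix (Fin 4) (Fin 4) F := g.1.1
  set B : Matrix (Fin 4) (Fin 4) F := (g⁻¹).1.1
  have hAB : A * B = 1 := congrArg (fun x : Cfsg.Sz F m => x.1.1) (mul_inv_cancel g)
  have hB : B = Cfsg.suzukiForm F * A.transpose * Cfsg.suzukiForm F := by
    have hleft : Cfsg.suzukiForm F * A.transpose * Cfsg.suzukiForm F * A = 1 := by
      rw [Matrix.mul_assoc (Cfsg.suzukiForm F), Matrix.mul_assoc (Cfsg.suzukiForm F),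
        sz_formOK hm hF g, hJ]
    calc B = (Cfsg.suzukiForm F * A.transpose * Cfsg.suzukiForm F * A) * B := by
          rw [hleft, Matrix.one_mul]
      _ = _ := by rw [Matrix.mul_assoc _ A B, hAB, Matrix.mul_one]
  show B.trace = A.trace
  rw [hB, Matrix.trace_mul_comm, ← Matrix.mul_assoc, hJ, Matrix.one_mul, Matrix.trace_transpose]

theorem mtr_tEl (hF : Fintype.card F = 2 ^ (2 * m + 1)) (a b : F) :
    mtr (tEl hF a b) = 0 := by
  show Matrix.trace (tMat m a b) = 0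
  have h2 := two_eq_zero hF
  simp [Matrix.trace, tMat, Fin.sum_univ_succ]
  linear_combination (2 : F) * h2

theorem mtr_wtd (hF : Fintype.card F = 2 ^ (2 * m + 1)) (a b : F) (k : Fˣ) :
    mtr (wEl hF * (tEl hF a b * dEl hF k)) =
      th m a * ((k : F) ^ 2 ^ m)⁻¹ + oF m a b * ((k : F) ^ (2 ^ m + 1))⁻¹ := by
  show Matrix.trace (Cfsg.suzukiForm F * (tMat m a b * dMat m (k : F))) = _
  simp [Matrix.trace, Cfsg.suzukiForm, tMat, dMat, Matrix.mul_apply, Fin.sum_univ_succ]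

theorem mtr_uu (hF : Fintype.card F = 2 ^ (2 * m + 1)) (a b c d : F) :
    mtr (tEl hF a b * (wEl hF * (tEl hF c d * wEl hF))) =
      th m (a * c) + th m a * a * d + b * (th m c * c) + oF m a b * oF m c d := by
  have h2 := two_eq_zero hF
  show Matrix.trace (tMat m a b *
    (Cfsg.suzukiForm F * (tMat m c d * Cfsg.suzukiForm F))) = _
  simp [Matrix.trace, Cfsg.suzukiForm, tMat, Matrix.mul_apply, Fin.sum_univ_succ, th_mul]
  linear_combination (2 + a * c + b * d) * h2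

/-- Not conjugate to an element of the Sylow `2`-subgroup. -/
def IsSS (hF : Fintype.card F = 2 ^ (2 * m + 1)) (g : Cfsg.Sz F m) : Prop :=
  ∀ s, s⁻¹ * g * s ∉ tSub hF

theorem exists_mtr (hF : Fintype.card F = 2 ^ (2 * m + 1)) (t : F) (ht : t ≠ 0) :
    ∃ g : Cfsg.Sz F m, mtr g = t ∧ IsSS hF g := by
  obtain ⟨b, hb⟩ := (thEquiv (m := m) hF).surjective t
  rw [thEquiv_apply] at hb
  refine ⟨tEl hF 0 b * (wEl hF * (tEl hF 0 1 * wEl hF)), ?_, fun s ⟨a', b', h⟩ => ht ?_⟩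
  · rw [mtr_uu, oF, oF]
    simp [hb]
  · have e := mtr_conj s⁻¹ (tEl hF 0 b * (wEl hF * (tEl hF 0 1 * wEl hF)))
    rw [inv_inv, h, mtr_tEl, mtr_uu, oF, oF] at e
    simp [hb] at e
    exact e.symm

theorem utor_class_card (hm : 1 ≤ m) (hF : Fintype.card F = 2 ^ (2 * m + 1))
    {U : Subgroup (Cfsg.Sz F m)} (hU : IsUTor hF U) :
    ∃ S : Finset (ConjClasses (Cfsg.Sz F m)), (∀ u ∈ U, u ≠ 1 → ConjClasses.mk u ∈ S) ∧
      S.card * normIdx U ≤ Nat.card U - 1 := by
  classical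
  haveI := Fintype.ofFinite (Cfsg.Sz F m)
  set X : Finset (Cfsg.Sz F m) := Finset.univ.filter fun u => u ∈ U ∧ u ≠ 1 with hX
  refine ⟨X.image ConjClasses.mk, fun u hu hu1 =>
    Finset.mem_image_of_mem _ (by simp [hX, hu, hu1]), ?_⟩
  have hcard : X.card = Nat.card U - 1 := by
    have : X = (Finset.univ.filter fun u => u ∈ U).erase 1 := by ext u; simp [hX, and_comm]
    rw [this, Finset.card_erase_of_mem (by simp), Nat.card_eq_fintype_card,
      ← Fintype.card_subtype]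
  rw [← hcard, mul_comm]
  refine Finset.mul_card_image_le_card _ _ fun c hc => ?_
  obtain ⟨u, hu, rfl⟩ := Finset.mem_image.mp hc
  obtain ⟨huU, hu1⟩ : u ∈ U ∧ u ≠ 1 := by simpa [hX] using hu
  set N := Subgroup.normalizer (U : Set (Cfsg.Sz F m))
  let f : N ⧸ U.subgroupOf N → Cfsg.Sz F m := fun x => (x.out : N).1 * u * ((x.out : N).1)⁻¹
  have hf : Function.Injective f := by
    intro x y e
    rw [← Quotient.out_eq x, ← Quotient.out_eq y]
    apply QuotientGroup.eq.mpr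
    rw [Subgroup.mem_subgroupOf]
    refine (utor_centralizer hm hF hU huU hu1).le (Subgroup.mem_centralizer_singleton_iff.mpr ?_)
    simp only [f] at e
    simp only [Subgroup.coe_mul, InvMemClass.coe_inv]
    calc (x.out : N).1⁻¹ * (y.out : N).1 * u
        = (x.out : N).1⁻¹ * ((y.out : N).1 * u * (y.out : N).1⁻¹) * (y.out : N).1 := by group
      _ = (x.out : N).1⁻¹ * ((x.out : N).1 * u * (x.out : N).1⁻¹) * (y.out : N).1 := by rw [e]
      _ = u * ((x.out : N).1⁻¹ * (y.out : N).1) := by group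
  calc normIdx U = (Finset.univ.image f).card := by
        rw [Finset.card_image_of_injective _ hf, Finset.card_univ, ← Nat.card_eq_fintype_card]
        rfl
    _ ≤ _ := Finset.card_le_card fun v hv => by
        obtain ⟨x, -, rfl⟩ := Finset.mem_image.mp hv
        refine Finset.mem_filter.mpr ⟨?_, ConjClasses.mk_eq_mk_iff_isConj.mpr
          (isConj_iff.mpr ⟨(x.out : N).1, rfl⟩).symm⟩
        simp only [hX, Finset.mem_filter, Finset.mem_univ, true_and, f]
        exact ⟨(Subgroup.mem_normalizer_iff.mp x.out.2 u).mp huU,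
          fun h => hu1 (conj_eq_one_iff.mp h)⟩

theorem normIdx_tor (hm : 1 ≤ m) (hF : Fintype.card F = 2 ^ (2 * m + 1))
    {A : Subgroup (Cfsg.Sz F m)} (hA : IsTor A) : normIdx A = 4 := by
  obtain ⟨-, -, -, -, -, -, -, hN⟩ := tor_summary hm hF
  have h := hN A hA
  rw [normIdx_spec] at h
  exact Nat.eq_of_mul_eq_mul_right Nat.card_pos h

theorem mtr_classify (hm : 1 ≤ m) (hF : Fintype.card F = 2 ^ (2 * m + 1)) :
    (∀ g : Cfsg.Sz F m, g ≠ 1 → IsSS hF g → mtr g ≠ 0) ∧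
      ∀ g h : Cfsg.Sz F m, mtr g ≠ 0 → mtr g = mtr h → IsConj g h := by
  classical
  obtain ⟨Ap, Am, hAp, hAm, hcp, hcm, hall, -⟩ := tor_summary hm hF
  have hD : IsUTor hF (dSub (m := m) hF) := Or.inl ⟨1, by
    ext x; simp [mem_map_conj_iff]⟩
  obtain ⟨SD, hSD, hcD⟩ := utor_class_card hm hF hD
  obtain ⟨Sp, hSp, hcP⟩ := utor_class_card hm hF (Or.inr hAp)
  obtain ⟨Sm, hSm, hcM⟩ := utor_class_card hm hF (Or.inr hAm)
  have hiD : normIdx (dSub (m := m) hF) = 2 := by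
    have h := normIdx_spec (dSub (m := m) hF)
    rw [card_normalizer_dSub hm hF, card_dSub] at h
    refine (Nat.eq_of_mul_eq_mul_right ?_ h).symm
    have : 2 ≤ 2 ^ (2 * m + 1) := Nat.le_self_pow (by omega) 2
    omega
  rw [hiD, card_dSub] at hcD
  rw [normIdx_tor hm hF hAp, hcp] at hcP
  rw [normIdx_tor hm hF hAm, hcm] at hcM
  set S := SD ∪ Sp ∪ Sm
  have hS : S.card ≤ 2 ^ (2 * m + 1) - 1 := by
    have h1 := Finset.card_union_le (SD ∪ Sp) Sm
    have h2 := Finset.card_union_le SD Sp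
    have h3 := r_le_q m
    have h4 : 2 ≤ 2 ^ (2 * m + 1) := Nat.le_self_pow (by omega) 2
    show (SD ∪ Sp ∪ Sm).card ≤ _
    omega
  have hmem : ∀ g : Cfsg.Sz F m, g ≠ 1 → IsSS hF g → ConjClasses.mk g ∈ S := by
    intro g hg1 hg
    rcases sz_trichotomy hm hF hg1 with ⟨s, hs⟩ | ⟨s, hs⟩ | ⟨A, hA, hgA⟩
    · exact absurd hs (hg s)
    · refine Finset.mem_union_left _ (Finset.mem_union_left _ ?_)
      have h1 : s⁻¹ * g * s ≠ 1 := fun h => hg1 (by
        rw [mul_assoc, inv_mul_eq_one, right_eq_mul] at h; exact h)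
      rw [ConjClasses.mk_eq_mk_iff_isConj.mpr (show IsConj g (s⁻¹ * g * s) from
        isConj_iff.mpr ⟨s⁻¹, by rw [inv_inv]⟩)]
      exact hSD _ hs h1
    · obtain ⟨x, hx⟩ := hall A hA
      have hconj : ∀ {B : Subgroup (Cfsg.Sz F m)} {SB : Finset (ConjClasses (Cfsg.Sz F m))},
          (∀ u ∈ B, u ≠ 1 → ConjClasses.mk u ∈ SB) → B.map (MulAut.conj x).toMonoidHom = A →
            ConjClasses.mk g ∈ SB := by
        intro B SB hSB hB
        have hu : x⁻¹ * g * x ∈ B := mem_map_conj_iff.mp (hB.symm ▸ hgA)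
        have h1 : x⁻¹ * g * x ≠ 1 := fun h => hg1 (by
          rw [mul_assoc, inv_mul_eq_one, right_eq_mul] at h; exact h)
        rw [ConjClasses.mk_eq_mk_iff_isConj.mpr (show IsConj g (x⁻¹ * g * x) from
          isConj_iff.mpr ⟨x⁻¹, by rw [inv_inv]⟩)]
        exact hSB _ hu h1
      rcases hx with hx | hx
      · exact Finset.mem_union_left _ (Finset.mem_union_right _ (hconj hSp hx))
      · exact Finset.mem_union_right _ (hconj hSm hx)
  choose rep hrep hrepss using fun t : Fˣ => exists_mtr (m := m) hF (t : F) t.ne_zero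
  have hrep1 : ∀ t, rep t ≠ 1 := fun t h => hrepss t 1 (by
    rw [h]; simp)
  let f : Fˣ → {c // c ∈ S} := fun t => ⟨ConjClasses.mk (rep t), hmem _ (hrep1 t) (hrepss t)⟩
  have hf : Function.Injective f := by
    intro t u e
    apply Units.ext
    rw [← hrep t, ← hrep u]
    exact mtr_isConj (ConjClasses.mk_eq_mk_iff_isConj.mp (congrArg Subtype.val e))
  have hsurj : Function.Surjective f := by
    refine ((Fintype.bijective_iff_injective_and_card f).mpr ⟨hf, ?_⟩).2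
    have h1 := Fintype.card_le_of_injective f hf
    rw [Fintype.card_units, hF, Fintype.card_coe] at h1 ⊢
    omega
  have key : ∀ g : Cfsg.Sz F m, g ≠ 1 → IsSS hF g → ∃ t : Fˣ, IsConj (rep t) g := fun g h1 h2 => by
    obtain ⟨t, ht⟩ := hsurj ⟨_, hmem g h1 h2⟩
    exact ⟨t, ConjClasses.mk_eq_mk_iff_isConj.mp (congrArg Subtype.val ht)⟩
  have hne : ∀ g : Cfsg.Sz F m, mtr g ≠ 0 → g ≠ 1 ∧ IsSS hF g := by
    intro g hg
    refine ⟨fun h => hg (by rw [h, ← tEl_zero hF, mtr_tEl]), fun s ⟨a, b, h⟩ => hg ?_⟩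
    have e := mtr_conj s⁻¹ g
    rwa [inv_inv, h, mtr_tEl, eq_comm] at e
  refine ⟨fun g h1 h2 => ?_, fun g h hg e => ?_⟩
  · obtain ⟨t, ht⟩ := key g h1 h2
    rw [← mtr_isConj ht, hrep]
    exact t.ne_zero
  · obtain ⟨t, ht⟩ := key g (hne g hg).1 (hne g hg).2
    obtain ⟨u, hu⟩ := key h (hne h (e ▸ hg)).1 (hne h (e ▸ hg)).2
    have htu : t = u := Units.ext (by rw [← hrep t, ← hrep u, mtr_isConj ht, mtr_isConj hu, e])
    subst htu
    exact ht.symm.trans hu

end H57
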