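import Cfsg.Agent.H57.SzTraceForm
import Cfsg.Agent.H57.SzTraceClass
import Cfsg.Agent.H57.SzInvCount
import Cfsg.Agent.H57.SzPoints

/-!
The square of a class of elements of order greater than two covers the Suzuki group.
-/

set_option autoImplicit false

namespace H57

/-- `g` is a product of two conjugates of `x`. -/
def IsProdTwo {G : Type*} [Group G] (x g : G) : Prop :=
  ∃ u v : G, g = (u * x * u⁻¹) * (v * x * v⁻¹)

section Basic

variable {G : Type*} [Group G] {x x' g g' y z : G}

theorem IsProdTwo.of_mul (hy : IsConj x y) (hz : IsConj x z) (h : g = y * z) : IsProdTwo x g := by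
  obtain ⟨u, rfl⟩ := isConj_iff.mp hy
  obtain ⟨v, rfl⟩ := isConj_iff.mp hz
  exact ⟨u, v, h⟩

theorem IsProdTwo.conj (h : IsProdTwo x g) (e : IsConj g g') : IsProdTwo x g' := by
  obtain ⟨u, v, rfl⟩ := h
  obtain ⟨s, rfl⟩ := isConj_iff.mp e
  exact ⟨s * u, s * v, by group⟩

theorem IsProdTwo.conj_left (e : IsConj x x') (h : IsProdTwo x' g) : IsProdTwo x g := by
  obtain ⟨u, v, rfl⟩ := h
  obtain ⟨s, rfl⟩ := isConj_iff.mp e
  exact ⟨u * s, v * s, by group⟩

theorem IsProdTwo.inv (h : IsProdTwo x g) : IsProdTwo x⁻¹ g⁻¹ := by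
  obtain ⟨u, v, rfl⟩ := h
  exact ⟨v, u, by group⟩

end Basic

variable {F : Type*} [Field F] [Fintype F] {m : ℕ}

theorem oF_scaled (hF : Fintype.card F = 2 ^ (2 * m + 1)) (a v : F) :
    oF m a (th m a * a * v) = th m a * a ^ 2 * (1 + v + th m v) := by
  simp only [oF, th_mul, th_th hF]
  ring

theorem exists_solve (hF : Fintype.card F = 2 ^ (2 * m + 1)) {x : F}
    (hx : fTr (m := m) hF x = 0) (e : ZMod 2) :
    ∃ v, v + th m v = x ∧ fTr (m := m) hF v = e := by
  obtain ⟨v, hv⟩ := (fTr_range hF).mp hx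
  by_cases h : fTr (m := m) hF v = e
  · exact ⟨v, hv, h⟩
  · refine ⟨v + 1, ?_, ?_⟩
    · rw [th_add hF, th_one]
      linear_combination hv + two_eq_zero hF
    · rw [map_add, fTr_one]
      revert h
      generalize fTr (m := m) hF v = a
      revert a e
      decide

theorem conj_four (hF : Fintype.card F = 2 ^ (2 * m + 1)) {a v : F} (ha : a ≠ 0)
    (hv : fTr (m := m) hF v = 0) : IsConj (tEl hF 1 0) (tEl hF a (th m a * a * v)) := by
  obtain ⟨c, rfl⟩ := (fTr_range hF).mp hv
  have h1 : tEl hF c 0 * tEl hF 1 0 * (tEl hF c 0)⁻¹ = tEl hF 1 (c + th m c) := by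
    rw [tEl_inv, tEl_mul, tEl_mul]
    congr 1
    · linear_combination c * two_eq_zero hF
    · simp only [th_add hF, th_one]
      linear_combination (th m c * c) * two_eq_zero hF
  refine isConj_iff.mpr ⟨dEl hF (Units.mk0 a ha) * tEl hF c 0, ?_⟩
  calc dEl hF (Units.mk0 a ha) * tEl hF c 0 * tEl hF 1 0 * (dEl hF (Units.mk0 a ha) * tEl hF c 0)⁻¹
      = dEl hF (Units.mk0 a ha) * (tEl hF c 0 * tEl hF 1 0 * (tEl hF c 0)⁻¹) *
          (dEl hF (Units.mk0 a ha))⁻¹ := by group
    _ = _ := by rw [h1, dEl_tEl, mul_inv_cancel_right, Units.val_mk0, mul_one]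

theorem wEl_conj (hF : Fintype.card F = 2 ^ (2 * m + 1)) {x g : Cfsg.Sz F m} (h : IsConj x g) :
    IsConj x (wEl hF * (g * wEl hF)) :=
  h.trans (isConj_iff.mpr ⟨wEl hF, by rw [inv_eq_of_mul_eq_one_right (wEl_mul_self hF), mul_assoc]⟩)

theorem orderOf_tEl_zero (hF : Fintype.card F = 2 ^ (2 * m + 1)) {c : F} (hc : c ≠ 0) :
    orderOf (tEl hF (0 : F) c) = 2 := by
  refine orderOf_eq_prime (p := 2) ?_ fun h => hc (tEl_inj hF (h.trans (tEl_zero hF).symm)).2
  rw [tEl_sq, th_zero, zero_mul, tEl_zero]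

theorem orderOf_tEl_four (hF : Fintype.card F = 2 ^ (2 * m + 1)) {a b : F} (ha : a ≠ 0) :
    orderOf (tEl hF a b) = 4 := by
  haveI : Fact (Nat.Prime 2) := ⟨Nat.prime_two⟩
  refine orderOf_eq_prime_pow (p := 2) (n := 1) (fun h => ?_) (tEl_pow' hF a b)
  rw [pow_one, tEl_sq, ← tEl_zero hF] at h
  rcases mul_eq_zero.mp (tEl_inj hF h).2 with e | e
  · exact ha (th_eq_zero.mp e)
  · exact ha e

/-- Every nonidentity element has one of three kinds. -/
theorem kind_cases (hm : 1 ≤ m) (hF : Fintype.card F = 2 ^ (2 * m + 1)) {g : Cfsg.Sz F m} (hg : g ≠ 1) :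
    mtr g ≠ 0 ∨ IsConj (tEl hF 0 1) g ∨ IsConj (tEl hF 1 0) g ∨ IsConj (tEl hF 1 0) g⁻¹ := by
  by_cases hss : IsSS hF g
  · exact Or.inl ((mtr_classify hm hF).1 g hg hss)
  · simp only [IsSS, not_forall, not_not] at hss
    obtain ⟨s, a, b, hs⟩ := hss
    have hc : IsConj g (tEl hF a b) := isConj_iff.mpr ⟨s⁻¹, by rw [inv_inv, hs]⟩
    have ho : orderOf g = orderOf (tEl hF a b) := by rw [← hs, ← orderOf_conj s⁻¹ g, inv_inv]
    rcases eq_or_ne a 0 with rfl | ha
    · rcases eq_or_ne b 0 with rfl | hb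
      · rw [tEl_zero, orderOf_one, orderOf_eq_one_iff] at ho
        exact absurd ho hg
      · exact Or.inr (Or.inl (inv_isConj hm hF (ho.trans (orderOf_tEl_zero hF hb))))
    · rcases four_conj hm hF (ho.trans (orderOf_tEl_four hF ha)) with h | h
      · exact Or.inr (Or.inr (Or.inl h))
      · refine Or.inr (Or.inr (Or.inr ?_))
        obtain ⟨c, hc'⟩ := isConj_iff.mp h
        exact isConj_iff.mpr ⟨c, by rw [← hc']; group⟩

theorem square_four (hm : 1 ≤ m) (hF : Fintype.card F = 2 ^ (2 * m + 1)) {g : Cfsg.Sz F m}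
    (hg : g ≠ 1) : IsProdTwo (tEl hF 1 0) g := by
  have h2 := two_eq_zero hF
  -- the elements of order `4`
  have hfour : ∀ B : F, IsProdTwo (tEl hF 1 0) (tEl hF 1 B) := by
    intro B
    obtain ⟨a, ha0, hne⟩ := th_ne_id hm hF
    have ha1 : a ≠ 1 := fun h => hne (by rw [h, th_one])
    set c := a + 1 with hc
    have hc0 : c ≠ 0 := fun h => ha1 ((add_eq_zero_iff hF).mp h)
    set Ka := th m a * a
    set Kc := th m c * c
    have hKa : Ka ≠ 0 := mul_ne_zero (mt th_eq_zero.mp ha0) ha0
    have hKc : Kc ≠ 0 := mul_ne_zero (mt th_eq_zero.mp hc0) hc0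
    have hKne : Ka / Kc ≠ 1 := fun h => by
      have : a = c := (th_mul_self_bij (m := m) hF).1 (div_eq_one_iff_eq hKc |>.mp h)
      rw [hc, left_eq_add] at this
      exact one_ne_zero this
    set X := B + th m a * c
    obtain ⟨v, hv, hv'⟩ : ∃ v, fTr (m := m) hF v = 0 ∧
        fTr (m := m) hF (Ka / Kc * v) = fTr hF (X / Kc) := by
      rcases zmod_two_cases (fTr (m := m) hF (X / Kc)) with h | h
      · exact ⟨0, map_zero _, by rw [mul_zero, map_zero, h]⟩
      · rw [h]
        by_contra! hcon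
        have h0 : ∀ v, fTr (m := m) hF v = 0 → fTr (m := m) hF (Ka / Kc * v) = 0 := fun v hv =>
          (zmod_two_cases _).resolve_right (hcon v hv)
        rcases zmod_two_cases (fTr (m := m) hF (Ka / Kc)) with hr | hr
        · refine div_ne_zero hKa hKc (fTr_nondeg (m := m) hF fun x => ?_)
          rcases zmod_two_cases (fTr (m := m) hF x) with hx | hx
          · rw [mul_comm]; exact h0 x hx
          · have := h0 (x + 1) (by rw [map_add, hx, fTr_one]; rfl)
            rw [mul_add, mul_one, map_add, hr, add_zero] at this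
            rw [mul_comm]; exact this
        · refine hKne ((add_eq_zero_iff hF).mp (fTr_nondeg (m := m) hF fun x => ?_))
          rcases zmod_two_cases (fTr (m := m) hF x) with hx | hx
          · rw [mul_add, map_add, mul_one, hx, mul_comm, h0 x hx, add_zero]
          · have := h0 (x + 1) (by rw [map_add, hx, fTr_one]; rfl)
            rw [mul_add, mul_one, map_add, hr] at this
            rw [mul_add, mul_one, map_add, hx, mul_comm]
            exact this
    set w := X / Kc + Ka / Kc * v
    have hw : fTr (m := m) hF w = 0 := by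
      rw [map_add, hv']
      exact CharTwo.add_self_eq_zero _
    refine IsProdTwo.of_mul (conj_four hF ha0 hv) (conj_four hF hc0 hw) ?_
    rw [tEl_mul]
    congr 1
    · linear_combination (-a) * h2
    · show B = Ka * v + Kc * w + th m a * c
      have : Kc * w = X + Ka * v := by
        simp only [w]
        field_simp
      rw [this]
      linear_combination (-(th m a * c) - Ka * v) * h2
  rcases kind_cases hm hF hg with ht | h | h | h
  · obtain ⟨p, hp⟩ := (thEquiv (m := m) hF).surjective (mtr g)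
    rw [thEquiv_apply] at hp
    obtain ⟨u, hu⟩ := exists_qT_add_tr hm hF p
    have hu0 : u ≠ 0 := by
      rintro rfl
      rw [qT_zero, map_zero, add_zero] at hu
      exact zero_ne_one hu
    set X := u⁻¹ with hX
    have hX0 : X ≠ 0 := inv_ne_zero hu0
    have hthX : th m X ≠ 0 := mt th_eq_zero.mp hX0
    obtain ⟨P, hP⟩ : ∃ P, th m (th m P) = (mtr g / th m X + 1) / X ^ 2 := by
      obtain ⟨P1, h1⟩ := (thEquiv (m := m) hF).surjective ((mtr g / th m X + 1) / X ^ 2)
      obtain ⟨P, h2⟩ := (thEquiv (m := m) hF).surjective P1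
      rw [thEquiv_apply] at h1 h2
      exact ⟨P, by rw [h2, h1]⟩
    have hTP : fTr (m := m) hF P = 1 := by
      rw [← fTr_th hF P, ← fTr_th hF (th m P), hP, ← hu, qT, ← fTr_th hF (p * (th m u * u)),
        ← fTr_sq hF u, ← map_add]
      congr 1
      rw [th_mul, th_mul, th_th hF, hp, hX, th_inv]
      field_simp
    obtain ⟨v, hv, hv'⟩ := exists_solve (m := m) hF (x := P + 1) (by rw [map_add, hTP, fTr_one]; rfl) 0
    have hP' : 1 + v + th m v = P := by linear_combination hv + h2
    set y := tEl hF X (th m X * X * v)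
    set z := wEl hF * (tEl hF 1 v * wEl hF)
    have hz : IsConj (tEl hF 1 0) (tEl hF 1 v) := by
      have := conj_four hF one_ne_zero hv'
      rwa [th_one, one_mul, one_mul] at this
    refine (IsProdTwo.of_mul (conj_four hF hX0 hv') (wEl_conj hF hz) rfl :
      IsProdTwo _ (y * z)).conj ?_
    have e : mtr (y * z) = mtr g := by
      have ho : oF m 1 v = P := by rw [← hP', oF, th_one]; ring
      simp only [y, z]
      rw [mtr_uu, oF_scaled hF, hP', mul_one, mul_one, th_one, mul_one, ho]
      have hP2 : P * P = (mtr g / th m X + 1) / X ^ 2 := by rw [← hP, th_th hF, sq]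
      calc th m X + th m X * X * v + th m X * X * v + th m X * X ^ 2 * P * P
          = th m X + th m X * X ^ 2 * (P * P) := by
            linear_combination (th m X * X * v) * h2
        _ = _ := by
          rw [hP2]
          field_simp
          linear_combination (th m X) * h2
    exact (mtr_classify hm hF).2 _ _ (e ▸ ht) e
  · refine IsProdTwo.conj ?_ h
    exact IsProdTwo.of_mul (IsConj.refl _) (IsConj.refl _)
      (by rw [← sq, tEl_sq, th_one, one_mul])
  · exact (hfour 0).conj h
  · refine (hfour 1).conj ?_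
    obtain ⟨c, hc⟩ := isConj_iff.mp h
    refine isConj_iff.mpr ⟨c, ?_⟩
    have e : (tEl hF (1 : F) 0)⁻¹ = tEl hF 1 1 := by rw [tEl_inv, th_one, one_mul, zero_add]
    rw [← e, ← inv_inv g, ← hc]
    group

/-- Products from two elements of trace `t`. -/
theorem prod_of_mtr (hm : 1 ≤ m) (hF : Fintype.card F = 2 ^ (2 * m + 1)) {x y g : Cfsg.Sz F m}
    (ht : mtr x ≠ 0) (h1 : mtr y = mtr x) (h2 : mtr (y * g) = mtr x) : IsProdTwo x g := by
  have hc := (mtr_classify hm hF).2
  exact IsProdTwo.of_mul (hc x y⁻¹ ht (by rw [mtr_inv hm hF, h1])) (hc x (y * g) ht h2.symm)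
    (inv_mul_cancel_left y g).symm

/-- Factors of prescribed trace that do not centralise the element. -/
theorem ss_pair (hm : 1 ≤ m) (hF : Fintype.card F = 2 ^ (2 * m + 1)) {x g : Cfsg.Sz F m}
    (ht : mtr x ≠ 0) (hT : mtr g ≠ 0) :
    ∃ y g', IsConj g' g ∧ mtr y = mtr x ∧ mtr (y * g') = mtr x ∧ y * g' ≠ g' * y := by
  have h2 := two_eq_zero hF
  set t := mtr x with htdef
  set T₀ := mtr g with hT₀
  by_cases hsmall : m = 1 ∧ fTr (m := m) hF T₀ = 0
  · obtain ⟨hm1, hT0⟩ := hsmall
    subst hm1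
    obtain ⟨v, hv⟩ := (fTr_range hF).mp hT0
    have h8 : v ^ 8 = v := by
      have := FiniteField.pow_card v
      rwa [hF] at this
    have hpoly : T₀ ^ 3 + T₀ + 1 = 0 := by
      apply mul_left_cancel₀ hT
      rw [mul_zero, ← hv, th_def]
      calc (v + v ^ 2 ^ (1 + 1)) * ((v + v ^ 2 ^ (1 + 1)) ^ 3 + (v + v ^ 2 ^ (1 + 1)) + 1)
          = v ^ 8 * v ^ 8 + v ^ 8 + v ^ 4 + v ^ 4 + v ^ 2 + v +
            2 * (v ^ 5 + 2 * v ^ 7 + 3 * v ^ 10 + 2 * v ^ 13) := by ring
        _ = 0 := by rw [h8, h2]; linear_combination (v + v ^ 2 + v ^ 4) * h2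
    have hl0 : T₀ ^ 2 ≠ 0 := pow_ne_zero _ hT
    set l := Units.mk0 (T₀ ^ 2) hl0
    have htrD : ∀ e : F, mtr (tEl hF 0 e * dEl hF l) = T₀ := by
      intro e
      show Matrix.trace (tMat 1 0 e * dMat 1 (l : F)) = T₀
      simp [Matrix.trace, tMat, dMat, Matrix.mul_apply, Fin.sum_univ_succ, l]
      have h7 : T₀ ^ 7 = 1 := by
        have := FiniteField.pow_card_sub_one_eq_one T₀ hT
        rwa [hF] at this
      rw [show ((T₀ ^ 2) ^ 3)⁻¹ = T₀ by
          apply inv_eq_of_mul_eq_one_right; rw [← pow_mul, ← pow_succ]; exact h7,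
        show ((T₀ ^ 2) ^ 2)⁻¹ = T₀ ^ 3 by
          apply inv_eq_of_mul_eq_one_right; rw [← pow_mul, ← pow_add]; exact h7]
      linear_combination (T₀ ^ 3 + 1) * hpoly - (T₀ ^ 3) * h2 +
        T₀ * hpoly - (T₀ + 1) * hpoly + (T₀ ^ 3) * h2
    obtain ⟨b, hb⟩ := (thEquiv (m := 1) hF).surjective t
    obtain ⟨e, he⟩ := (thEquiv (m := 1) hF).surjective (t * (l : F) ^ (2 ^ 1 + 1) + t)
    rw [thEquiv_apply] at hb he
    have hl1 : l ≠ 1 := fun h => one_ne_zero (α := F) (by
      have h' : T₀ ^ 2 = 1 := by simpa [l, Units.ext_iff] using h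
      linear_combination hpoly - T₀ * h' - T₀ * h2)
    refine ⟨wEl hF * (tEl hF 0 b * dEl hF 1), tEl hF 0 e * dEl hF l,
      (mtr_classify hm hF).2 _ _ (by rw [htrD]; exact hT) (htrD e), ?_, ?_, fun hcm => ?_⟩
    · rw [mtr_wtd]
      simp [oF, hb]
    · rw [dEl_one, mul_one, mul_assoc, ← mul_assoc (tEl hF 0 b), tEl_mul, mtr_wtd]
      simp only [oF, th_zero, zero_mul, add_zero, zero_add, th_add hF, hb, he]
      have : (l : F) ^ (2 ^ 1 + 1) ≠ 0 := pow_ne_zero _ l.ne_zero
      field_simp
      linear_combination h2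
    · -- the second factor moves `∞`
      have h0 : (tEl hF 0 e * dEl hF l) • ovPt 1 (0 : F) 0 = ovPt 1 (0 : F) 0 := by
        have := congrArg (fun x : Cfsg.Sz F 1 => x • Cfsg.suzukiPointInfinity F) hcm
        simpa [mul_smul, dEl_infty, tEl_infty, wEl_infty] using this.symm
      rw [mul_smul, dEl_ovPt_zero, tEl_ovPt_zero] at h0
      obtain ⟨-, rfl⟩ := ovPt_inj h0
      rw [tEl_zero, one_mul] at hcm
      have hy := (centralizer_dEl hm hF hl1).le (Subgroup.mem_centralizer_singleton_iff.mpr hcm)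
      obtain ⟨k, hk⟩ := hy
      have := congrArg (fun x : Cfsg.Sz F 1 => x • Cfsg.suzukiPointInfinity F) hk
      simp [mul_smul, dEl_infty, tEl_infty, wEl_infty, dHom_apply] at this
      exact ovPt_ne_infty 0 0 this.symm
  · obtain ⟨p₀, hp₀⟩ := (thEquiv (m := m) hF).surjective T₀
    obtain ⟨c1, hc1⟩ := (thEquiv (m := m) hF).surjective p₀
    obtain ⟨c, hc⟩ := (thEquiv (m := m) hF).surjective c1
    obtain ⟨d, hd⟩ := (thEquiv (m := m) hF).surjective t
    rw [thEquiv_apply] at hp₀ hc1 hc hd
    have hc0 : c ≠ 0 := by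
      rintro rfl
      rw [th_zero] at hc
      rw [← hc, th_zero] at hc1
      rw [← hc1, th_zero] at hp₀
      exact hT hp₀.symm
    obtain ⟨y, hy0, hy⟩ := exists_pair hm hF (c := c) (d := d) hc0 fun hm1 => by
      rw [← fTr_th hF c, hc, ← fTr_th hF c1, hc1, ← fTr_th hF p₀, hp₀]
      exact (zmod_two_cases _).resolve_left fun h => hsmall ⟨hm1, h⟩
    have hyn : y ≠ 0 := by
      rintro rfl
      rw [qT_zero, map_zero, add_zero] at hy
      exact zero_ne_one hy
    have hthy : th m y ≠ 0 := mt th_eq_zero.mp hyn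
    set s := (th m y * y)⁻¹ with hs
    have hs0 : s ≠ 0 := inv_ne_zero (mul_ne_zero hthy hyn)
    have hths : th m s = (y ^ 2 * th m y)⁻¹ := by rw [hs, th_inv, th_mul, th_th hF]
    have hths0 : th m s ≠ 0 := mt th_eq_zero.mp hs0
    obtain ⟨z, hz⟩ := fTr_quadratic (m := m) hF (x := p₀ / s ^ 2) (by
      rw [← hy0, qT, ← fTr_sq hF (c * (th m y * y)), mul_pow, ← th_th hF c, hc, hc1, hs]
      congr 1
      field_simp)
    set a := th m s / s with ha
    set P := t * th m y * y ^ 2 + y ^ 2
    have hTP : fTr (m := m) hF P = 1 := by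
      rw [map_add, fTr_sq, ← hy, qT, ← fTr_th hF (d * (th m y * y))]
      congr 2
      rw [th_mul, th_mul, th_th hF, hd]
      ring
    obtain ⟨v₀, hv₀⟩ := (fTr_range hF).mp (show fTr (m := m) hF (P + 1) = 0 by
      rw [map_add, hTP, fTr_one]; rfl)
    set g' := tEl hF 0 (s * z) * (wEl hF * (tEl hF 0 (s * z + s) * wEl hF))
    have hg' : mtr g' = T₀ := by
      rw [mtr_uu, zero_mul, th_zero, zero_mul, zero_mul, mul_zero, add_zero, zero_add, zero_add]
      have e : s * z * (s * z + s) = p₀ := by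
        rw [show s * z * (s * z + s) = s ^ 2 * (z ^ 2 + z) by ring, hz]
        field_simp
      simp only [oF, th_zero, zero_mul, zero_add, ← th_mul, e, hp₀]
    have hconj : IsConj g' g := (mtr_classify hm hF).2 _ _ (by rw [hg']; exact hT) hg'
    have key : ∀ v, v + th m v = P + 1 →
        mtr (wEl hF * (tEl hF a (th m a * a * v) * dEl hF 1)) = t ∧
          mtr (wEl hF * (tEl hF a (th m a * a * v) * dEl hF 1) * g') = t := by
      intro v hv
      set b := th m a * a * v
      refine ⟨?_, ?_⟩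
      · rw [mtr_wtd, Units.val_one, one_pow, one_pow, inv_one, mul_one, mul_one, oF_scaled hF,
          show 1 + v + th m v = P by linear_combination hv + h2]
        simp only [P, ha, div_eq_mul_inv, th_mul, th_pow, th_inv, th_th hF, hths, hs]
        field_simp
        linear_combination h2
      · have e : mtr (wEl hF * (tEl hF a b * dEl hF 1) * g') =
            mtr (wEl hF * (tEl hF a (b + s) * dEl hF 1)) := by
          rw [dEl_one, mul_one, mul_one]
          calc mtr (wEl hF * tEl hF a b * g') = mtr ((wEl hF * tEl hF a (b + s * z) * wEl hF) *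
                (tEl hF 0 (s * z + s) * wEl hF)) := by
                congr 1
                simp only [g']
                have e1 : tEl hF a b * tEl hF 0 (s * z) = tEl hF a (b + s * z) := by
                  rw [tEl_mul]; simp
                rw [← e1]
                simp only [mul_assoc]
            _ = mtr (tEl hF 0 (s * z + s) * tEl hF a (b + s * z) * wEl hF) := by
                rw [mtr_mul_comm]
                congr 1
                simp only [mul_assoc]
                rw [← mul_assoc (wEl hF) (wEl hF), wEl_mul_self, one_mul]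
            _ = mtr (wEl hF * tEl hF a (b + s)) := by
                rw [mtr_mul_comm, tEl_mul]
                congr 3
                · rw [zero_add]
                · rw [th_zero, zero_mul, add_zero]
                  linear_combination (s * z) * h2
        rw [e, mtr_wtd, Units.val_one, one_pow, one_pow, inv_one, mul_one, mul_one]
        have ho : oF m a (b + s) = oF m a b := by
          simp only [oF, th_add hF]
          have : a * s = th m s := div_mul_cancel₀ _ hs0
          linear_combination this + th m s * h2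
        rw [ho, oF_scaled hF,
          show 1 + v + th m v = P by linear_combination hv + h2]
        simp only [P, ha, div_eq_mul_inv, th_mul, th_pow, th_inv, th_th hF, hths, hs]
        field_simp
        linear_combination h2
    obtain ⟨v, hv, hne⟩ : ∃ v, v + th m v = P + 1 ∧
        wEl hF * (tEl hF a (th m a * a * v) * dEl hF 1) * g' ≠
          g' * (wEl hF * (tEl hF a (th m a * a * v) * dEl hF 1)) := by
      by_contra! hno
      have hv1 := hno (v₀ + 1) (by rw [th_add hF, th_one]; linear_combination hv₀ + h2)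
      have hv2 := hno v₀ hv₀
      rw [dEl_one, mul_one] at hv1 hv2
      have ha0 : a ≠ 0 := div_ne_zero hths0 hs0
      set c := th m a * a with hc'
      have e : (wEl hF * tEl hF a (c * v₀))⁻¹ * (wEl hF * tEl hF a (c * (v₀ + 1))) =
          tEl hF 0 c := by
        rw [inv_mul_eq_iff_eq_mul, mul_assoc (wEl hF), tEl_mul]
        congr 2
        · rw [add_zero]
        · rw [mul_zero]; ring
      have hcm : g' * tEl hF 0 c = tEl hF 0 c * g' := by
        rw [← e]
        exact ((Commute.symm hv2).inv_right.mul_right (Commute.symm hv1))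
      obtain ⟨x', y', hxy⟩ := (centralizer_tEl_zero hm hF
        (mul_ne_zero (mt th_eq_zero.mp ha0) ha0)).le
        (Subgroup.mem_centralizer_singleton_iff.mpr hcm)
      rw [hxy, mtr_tEl] at hg'
      exact hT hg'.symm
    exact ⟨_, g', hconj, (key v hv).1, (key v hv).2, hne⟩

theorem square_ss (hm : 1 ≤ m) (hF : Fintype.card F = 2 ^ (2 * m + 1)) {x g : Cfsg.Sz F m}
    (ht : mtr x ≠ 0) (hg : g ≠ 1) : IsProdTwo x g := by
  have h2 := two_eq_zero hF
  set t := mtr x with htdef
  -- involutions
  have hinv : IsProdTwo x (tEl hF 0 1) := by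
    obtain ⟨u, hu1, hu⟩ := exists_tr_one hm hF ht
    have hu0 : u ≠ 0 := fun e => by rw [e, map_zero] at hu1; exact zero_ne_one hu1
    have hthu : th m u ≠ 0 := mt th_eq_zero.mp hu0
    set δ := (th m u * u)⁻¹ with hδ
    have hδ0 : δ ≠ 0 := inv_ne_zero (mul_ne_zero hthu hu0)
    have hthδ : th m δ * u = δ := by
      rw [hδ, th_inv, th_mul, th_th hF]
      field_simp
    obtain ⟨v, hv⟩ := (fTr_range hF).mp hu
    obtain ⟨d, hd⟩ := (fTr_range hF).mp (show fTr (m := m) hF (u + 1) = 0 by
      rw [map_add, hu1, fTr_one]; rfl)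
    have hQ : oF m 1 d = u := by
      rw [oF, th_one]
      linear_combination hd + h2
    set y := tEl hF 0 (δ * v) * (wEl hF * (tEl hF 1 d * wEl hF))
    have hy : ∀ b, mtr (tEl hF 0 b * (wEl hF * (tEl hF 1 d * wEl hF))) = b + th m b * u := by
      intro b
      rw [mtr_uu, hQ, zero_mul, th_zero, zero_mul, zero_mul, th_one, one_mul, mul_one, zero_add,
        zero_add]
      simp [oF]
    have e1 : mtr y = t := by
      rw [hy, th_mul]
      calc δ * v + th m δ * th m v * u = δ * v + th m v * (th m δ * u) := by ring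
        _ = δ * (v + th m v) := by rw [hthδ]; ring
        _ = t := by rw [hv, hδ]; field_simp
    refine (prod_of_mtr hm hF ht (g := tEl hF 0 δ) e1 ?_).conj
      (inv_isConj hm hF (orderOf_tEl_zero hF hδ0)).symm
    rw [mtr_mul_comm, ← mul_assoc, tEl_mul, zero_add, th_zero, zero_mul, add_zero, hy, th_add hF]
    rw [hy] at e1
    linear_combination e1 + hthδ + δ * h2
  -- elements of order four
  have hfour : IsProdTwo x (tEl hF 1 0) := by
    obtain ⟨u, hu⟩ := exists_qT_add_tr hm hF (th m t)
    have hu0 : u ≠ 0 := by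
      rintro rfl
      rw [qT_zero, map_zero, add_zero] at hu
      exact zero_ne_one hu
    set k := Units.mk0 u⁻¹ (inv_ne_zero hu0)
    have hk : (k : F) = u⁻¹ := rfl
    have hk0 : (k : F) ≠ 0 := k.ne_zero
    have hthk : th m (k : F) ≠ 0 := mt th_eq_zero.mp hk0
    set ρ := (k : F) ^ 2 ^ m with hρ
    have hρ0 : ρ ≠ 0 := pow_ne_zero _ hk0
    have hρth : th m ρ = (k : F) := by
      rw [hρ, th_def, ← pow_mul, ← pow_add, show m + (m + 1) = 2 * m + 1 by ring, ← hF,
        FiniteField.pow_card]
    obtain ⟨b, hb⟩ := (thEquiv (m := m) hF).surjective (t * (ρ * (k : F)))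
    rw [thEquiv_apply] at hb
    set K := th m (k : F) * (k : F) with hK
    have hK0 : K ≠ 0 := mul_ne_zero hthk hk0
    set P := t * ρ / K + (k : F)⁻¹ with hPdef
    have hTP : fTr (m := m) hF P = 1 := by
      rw [hPdef, map_add, hk, inv_inv, ← hu, qT, ← fTr_th hF (t * ρ / K)]
      congr 2
      rw [hK, div_eq_mul_inv, mul_inv, th_mul, th_mul, th_mul, th_inv, th_inv, th_th hF, hρth, hk,
        th_inv]
      field_simp
    obtain ⟨v, hv, hv'⟩ := exists_solve (m := m) hF (x := P + 1)
      (by rw [map_add, hTP, fTr_one]; rfl) (fTr hF (b / K))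
    set d := v + b / K with hd
    have hTd : fTr (m := m) hF d = 0 := by
      rw [hd, map_add, hv']
      exact CharTwo.add_self_eq_zero _
    have hg' : IsConj (tEl hF 1 0) (tEl hF 1 d) := by
      have := conj_four hF one_ne_zero hTd
      rwa [th_one, one_mul, one_mul] at this
    have hpow : (k : F) ^ (2 ^ m + 1) = ρ * (k : F) := by rw [pow_succ]
    refine (prod_of_mtr hm hF ht (y := wEl hF * (tEl hF 0 b * dEl hF k)) (g := tEl hF 1 d) ?_ ?_).conj
      hg'.symm
    · rw [mtr_wtd, hpow, th_zero, zero_mul, zero_add]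
      simp only [oF, th_zero, zero_mul, zero_add, hb]
      field_simp
      exact htdef
    · rw [mul_assoc (wEl hF), mul_assoc (tEl hF 0 b), dEl_tEl, ← mul_assoc (tEl hF 0 b), tEl_mul,
        mtr_wtd, hpow, zero_add, th_zero, zero_mul, add_zero, mul_one]
      have hB : b + th m (k : F) * (k : F) * d = th m (k : F) * (k : F) * v := by
        rw [hd, mul_add, ← hK, mul_div_cancel₀ _ hK0]
        linear_combination b * h2
      rw [hB, oF_scaled hF, show 1 + v + th m v = P by linear_combination hv + h2, hPdef, hK, ← hρ]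
      field_simp
      linear_combination (th m (k : F)) * h2
  rcases kind_cases hm hF hg with h | h | h | h
  · obtain ⟨y, g', hg', e1, e2, -⟩ := ss_pair hm hF ht h
    exact (prod_of_mtr hm hF ht e1 e2).conj hg'
  · exact hinv.conj h
  · exact hfour.conj h
  · have hx : IsConj x x⁻¹ := (mtr_classify hm hF).2 _ _ ht (by rw [mtr_inv hm hF])
    have := (hfour.conj h).inv
    rw [inv_inv] at this
    exact this.conj_left hx

theorem class_square_covers (hm : 1 ≤ m) (hF : Fintype.card F = 2 ^ (2 * m + 1)) {x g : Cfsg.Sz F m}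
    (hx : 2 < orderOf x) (hg : g ≠ 1) : IsProdTwo x g := by
  have hx1 : x ≠ 1 := fun h => by rw [h, orderOf_one] at hx; omega
  rcases kind_cases hm hF hx1 with h | h | h | h
  · exact square_ss hm hF h hg
  · obtain ⟨s, hs⟩ := isConj_iff.mp h
    rw [← hs, orderOf_conj, orderOf_tEl_zero hF one_ne_zero] at hx
    omega
  · exact (square_four hm hF hg).conj_left h.symm
  · have h' := (square_four hm hF (inv_ne_one.mpr hg)).conj_left h.symm
    have := h'.inv
    rwa [inv_inv, inv_inv] at this

end H57
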