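import Cfsg.Agent.H57.SzInvCount
import Cfsg.Agent.H57.SzTwo
import Cfsg.Agent.H57.SzRep

/-!
Transitive actions of fixity two of the Suzuki group.
-/

set_option autoImplicit false

namespace H57

open Matrix
open scoped Pointwise commutatorElement

variable {F : Type*} [Field F] [Fintype F] {m : ℕ}

/-- A subgroup of index at most two of the point stabiliser is everything. -/
theorem borel_no_index_two (hm : 1 ≤ m) (hF : Fintype.card F = 2 ^ (2 * m + 1))
    (K : Subgroup (MulAction.stabilizer (Cfsg.Sz F m) (Cfsg.suzukiPointInfinity F)))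
    (hK : K.index ≤ 2) : K = ⊤ := by
  rcases Nat.lt_or_ge K.index 2 with h | h
  · exact Subgroup.index_eq_one.mp (by
      have : K.index ≠ 0 := Subgroup.index_ne_zero_of_finite
      omega)
  have hK2 : K.index = 2 := le_antisymm hK h
  rw [eq_top_iff]
  intro g _
  let B := MulAction.stabilizer (Cfsg.Sz F m) (Cfsg.suzukiPointInfinity F)
  have hmul : ∀ a b : B, (a * b ∈ K ↔ (a ∈ K ↔ b ∈ K)) := fun a b =>
    Subgroup.mul_mem_iff_of_index_two hK2
  have hodd : ∀ k : Fˣ, (⟨dEl hF k, dEl_infty hF k⟩ : B) ∈ K := by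
    intro k
    obtain ⟨j, hj⟩ := exists_pow_eq_self_of_coprime (n := 2) (x := k) (by
      refine (Nat.Prime.coprime_iff_not_dvd Nat.prime_two).mpr fun hd => ?_
      have := hd.trans (orderOf_dvd_natCard k)
      rw [Nat.card_units, Nat.card_eq_fintype_card, hF] at this
      have := q_even m
      have : 1 ≤ 2 ^ (2 * m + 1) := Nat.one_le_two_pow
      omega)
    have h2 : (⟨dEl hF (k ^ 2), dEl_infty hF _⟩ : B) ∈ K := by
      have e : (⟨dEl hF (k ^ 2), dEl_infty hF _⟩ : B) = ⟨dEl hF k, dEl_infty hF k⟩ * ⟨dEl hF k, dEl_infty hF k⟩ :=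
        Subtype.ext (by show dEl hF (k ^ 2) = dEl hF k * dEl hF k; rw [dEl_mul, sq])
      rw [e, hmul]
    have e : (⟨dEl hF k, dEl_infty hF k⟩ : B) = ⟨dEl hF (k ^ 2), dEl_infty hF _⟩ ^ j :=
      Subtype.ext (by
        show dEl hF k = dEl hF (k ^ 2) ^ j
        rw [← dHom_apply, ← dHom_apply, ← map_pow, hj])
    rw [e]; exact K.pow_mem h2 j
  obtain ⟨k, hk⟩ := exists_ne_one (m := m) hm hF
  set l := th m (k : F) * k
  have hl : l + 1 ≠ 0 := fun h => hk (th_mul_self_eq_one hF ((add_eq_zero_iff hF).mp h))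
  have hk1 : (k : F) + 1 ≠ 0 := fun h => hk ((add_eq_zero_iff hF).mp h)
  have hcomm : ∀ a b : F,
      (⟨tEl hF ((k : F) * a) (l * b) * (tEl hF a b)⁻¹,
        mul_mem (tEl_infty hF _ _) (inv_mem (tEl_infty hF a b))⟩ : B) ∈ K := by
    intro a b
    have e : (⟨tEl hF ((k : F) * a) (l * b) * (tEl hF a b)⁻¹,
        mul_mem (tEl_infty hF _ _) (inv_mem (tEl_infty hF a b))⟩ : B) =
        ⟨dEl hF k, dEl_infty hF k⟩ * (⟨tEl hF a b, tEl_infty hF a b⟩ *
          (⟨dEl hF k, dEl_infty hF k⟩ : B)⁻¹ * (⟨tEl hF a b, tEl_infty hF a b⟩ : B)⁻¹) :=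
      Subtype.ext (by
        show tEl hF ((k : F) * a) (l * b) * (tEl hF a b)⁻¹ =
          dEl hF k * (tEl hF a b * (dEl hF k)⁻¹ * (tEl hF a b)⁻¹)
        rw [← mul_assoc, ← mul_assoc, dEl_tEl, mul_inv_cancel_right])
    rw [e, hmul, hmul, hmul, inv_mem_iff, inv_mem_iff]
    simp [hodd k]
  have h0 : ∀ b, (⟨tEl hF 0 b, tEl_infty hF 0 b⟩ : B) ∈ K := by
    intro b
    have e : (⟨tEl hF 0 b, tEl_infty hF 0 b⟩ : B) =
        ⟨tEl hF ((k : F) * 0) (l * (b / (l + 1))) * (tEl hF 0 (b / (l + 1)))⁻¹,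
          mul_mem (tEl_infty hF _ _) (inv_mem (tEl_infty hF _ _))⟩ := Subtype.ext (by
      show tEl hF 0 b = tEl hF ((k : F) * 0) (l * (b / (l + 1))) * (tEl hF 0 (b / (l + 1)))⁻¹
      rw [tEl_inv, tEl_mul]
      simp only [mul_zero, th_zero, add_zero, zero_mul]
      congr 1
      field_simp)
    rw [e]; exact hcomm _ _
  have hT : ∀ a b, (⟨tEl hF a b, tEl_infty hF a b⟩ : B) ∈ K := by
    intro a b
    set a' := a / ((k : F) + 1) with ha'
    have e1 : tEl hF ((k : F) * a') (l * 0) * (tEl hF a' 0)⁻¹ =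
        tEl hF a (0 + th m a' * a' + th m ((k : F) * a') * a') := by
      rw [tEl_inv, tEl_mul, mul_zero, zero_add, zero_add]
      congr 1
      rw [ha']; field_simp
    have h1 := hcomm a' 0
    have h2 := h0 (b + (0 + th m a' * a' + th m ((k : F) * a') * a'))
    have e : (⟨tEl hF a b, tEl_infty hF a b⟩ : B) =
        ⟨tEl hF ((k : F) * a') (l * 0) * (tEl hF a' 0)⁻¹,
          mul_mem (tEl_infty hF _ _) (inv_mem (tEl_infty hF _ _))⟩ *
        ⟨tEl hF 0 (b + (0 + th m a' * a' + th m ((k : F) * a') * a')), tEl_infty hF 0 _⟩ :=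
      Subtype.ext (by
        show tEl hF a b = tEl hF ((k : F) * a') (l * 0) * (tEl hF a' 0)⁻¹ * tEl hF 0 _
        rw [e1, tEl_mul, mul_zero, add_zero]
        congr 1
        linear_combination (-(th m a' * a' + th m ((k : F) * a') * a')) * two_eq_zero hF)
    rw [e]; exact K.mul_mem h1 h2
  obtain ⟨g, hg⟩ := g
  obtain ⟨a, b, k, rfl⟩ := fix_infty hm hF g hg
  have e : (⟨tEl hF a b * dEl hF k, hg⟩ : B) =
      ⟨tEl hF a b, tEl_infty hF a b⟩ * ⟨dEl hF k, dEl_infty hF k⟩ := rfl
  rw [e]; exact K.mul_mem (hT a b) (hodd k)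

section Perm

variable {G : Type*} [Group G] {Ω : Type*} [Fintype Ω] [MulAction G Ω]

/-- The permutation representation on functions of sum zero. -/
noncomputable def sumZeroRep :
    G →* Module.End ℂ (LinearMap.ker (∑ a : Ω, LinearMap.proj (R := ℂ) (φ := fun _ : Ω => ℂ) a)) where
  toFun g := (LinearMap.funLeft ℂ ℂ (fun a : Ω => g⁻¹ • a)).restrict (fun f hf => by
    simp only [LinearMap.mem_ker, LinearMap.coe_sum, Finset.sum_apply, LinearMap.proj_apply,
      LinearMap.funLeft_apply] at hf ⊢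
    rw [← hf]
    exact Equiv.sum_comp (MulAction.toPerm g⁻¹) f)
  map_one' := by
    apply LinearMap.ext; intro f; apply Subtype.ext; funext a
    show f.1 ((1 : G)⁻¹ • a) = f.1 a
    rw [inv_one, one_smul]
  map_mul' g h := by
    apply LinearMap.ext; intro f; apply Subtype.ext; funext a
    show f.1 ((g * h)⁻¹ • a) = f.1 (h⁻¹ • g⁻¹ • a)
    rw [_root_.mul_inv_rev, mul_smul]

theorem sumZeroRep_injective [FaithfulSMul G Ω] (h2 : 1 < Fintype.card Ω) :
    Function.Injective (sumZeroRep (G := G) (Ω := Ω)) := by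
  classical
  rw [← MonoidHom.ker_eq_bot_iff, eq_bot_iff]
  intro g hg
  rw [Subgroup.mem_bot]
  refine FaithfulSMul.eq_of_smul_eq_smul (α := Ω) fun a => ?_
  rw [one_smul]
  obtain ⟨b, hb⟩ := Fintype.exists_ne_of_one_lt_card h2 a
  let f : LinearMap.ker (∑ c : Ω, LinearMap.proj (R := ℂ) (φ := fun _ : Ω => ℂ) c) :=
    ⟨Pi.single a 1 - Pi.single b 1, by simp⟩
  have h : (Pi.single a 1 - Pi.single b 1 : Ω → ℂ) (g⁻¹ • a) =
      (Pi.single a 1 - Pi.single b 1 : Ω → ℂ) a :=
    congrFun (congrArg Subtype.val (LinearMap.congr_fun (MonoidHom.mem_ker.mp hg) f)) a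
  simp only [Pi.sub_apply, Pi.single_eq_same, Pi.single_eq_of_ne hb.symm, sub_zero] at h
  by_cases hga : g⁻¹ • a = a
  · exact (inv_smul_eq_iff.mp hga).symm
  · rw [Pi.single_eq_of_ne hga, zero_sub] at h
    by_cases hgb : g⁻¹ • a = b
    · rw [hgb, Pi.single_eq_same] at h; norm_num at h
    · rw [Pi.single_eq_of_ne hgb, neg_zero] at h; exact absurd h.symm one_ne_zero

theorem finrank_sumZero [Nonempty Ω] :
    Module.finrank ℂ (LinearMap.ker (∑ a : Ω, LinearMap.proj (R := ℂ) (φ := fun _ : Ω => ℂ) a)) + 1 =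
      Fintype.card Ω := by
  classical
  set φ := ∑ a : Ω, LinearMap.proj (R := ℂ) (φ := fun _ : Ω => ℂ) a
  have h := φ.finrank_range_add_finrank_ker
  have hr : Module.finrank ℂ φ.range = 1 := by
    have : φ.range = ⊤ := by
      rw [LinearMap.range_eq_top]
      intro c
      obtain ⟨a⟩ := (inferInstance : Nonempty Ω)
      exact ⟨Pi.single a c, by simp [φ]⟩
    rw [this, finrank_top, Module.finrank_self]
  rw [Module.finrank_pi] at h
  omega

end Perm

theorem sz_perm_degree (hm : 1 ≤ m) (hF : Fintype.card F = 2 ^ (2 * m + 1)) {Ω : Type*} [Fintype Ω]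
    [MulAction (Cfsg.Sz F m) Ω] [FaithfulSMul (Cfsg.Sz F m) Ω] (h2 : 1 < Fintype.card Ω) :
    2 ^ m * (2 ^ (2 * m + 1) - 1) + 1 ≤ Fintype.card Ω := by
  haveI : Nonempty Ω := Fintype.card_pos_iff.mp (by omega)
  have hf := finrank_sumZero (Ω := Ω)
  haveI : Nontrivial (LinearMap.ker (∑ a : Ω, LinearMap.proj (R := ℂ) (φ := fun _ : Ω => ℂ) a)) :=
    Module.nontrivial_of_finrank_pos (R := ℂ) (by omega)
  have := sz_faithful_degree hm hF (sumZeroRep_injective (G := Cfsg.Sz F m) (Ω := Ω) h2)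
  omega

theorem index_arith {q u s n : ℕ} (hu : 2 ≤ u) (hq : 8 ≤ q)
    (hmul : (q ^ 2 + 1) * s * n = q ^ 2 * (q ^ 2 + 1) * (q - 1)) (hs : q ^ 2 ≤ 2 * s)
    (hdeg : u * (q - 1) + 1 ≤ n) : False := by
  have key : s * n = q ^ 2 * (q - 1) := by
    apply Nat.eq_of_mul_eq_mul_left (show 0 < q ^ 2 + 1 by positivity)
    calc (q ^ 2 + 1) * (s * n) = (q ^ 2 + 1) * s * n := by ring
      _ = q ^ 2 * (q ^ 2 + 1) * (q - 1) := hmul
      _ = _ := by ring
  have h1 : q ^ 2 * n ≤ q ^ 2 * (2 * (q - 1)) := by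
    calc q ^ 2 * n ≤ (2 * s) * n := Nat.mul_le_mul_right n hs
      _ = _ := by rw [mul_assoc, key]; ring
  have h3 := Nat.le_of_mul_le_mul_left h1 (by positivity)
  have h4 : 2 * (q - 1) ≤ u * (q - 1) := Nat.mul_le_mul_right _ hu
  omega

/-- A proper subgroup containing a subgroup of index at most two of a Sylow 2-subgroup
fixes the corresponding point of the ovoid. -/
theorem subgroup_fix_infty (hm : 1 ≤ m) (hF : Fintype.card F = 2 ^ (2 * m + 1))
    {H : Subgroup (Cfsg.Sz F m)} (hH : H ≠ ⊤)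
    (hT : (2 ^ (2 * m + 1)) ^ 2 ≤ 2 * Nat.card ↥(H ⊓ tSub (m := m) hF)) :
    H ≤ MulAction.stabilizer (Cfsg.Sz F m) (Cfsg.suzukiPointInfinity F) := by
  classical
  by_contra hnot
  obtain ⟨h, hh, hmove⟩ := SetLike.not_le_iff_exists.mp hnot
  rw [MulAction.mem_stabilizer_iff] at hmove
  set T0 := H ⊓ tSub (m := m) hF
  set O := MulAction.orbit H (Cfsg.suzukiPointInfinity F) with hO
  have hOsub : O ⊆ Cfsg.suzukiOvoid F m := by
    rintro _ ⟨g, rfl⟩; exact sz_smul_mem g.1 infty_mem
  haveI : Finite O := Set.Finite.to_subtype ((ovoid_finite (F := F) (m := m)).subset hOsub)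
  -- the points other than infinity fall into regular orbits of `T0`
  let A := {p : O // (p : Projectivization F (Fin 4 → F)) ≠ Cfsg.suzukiPointInfinity F}
  letI : MulAction T0 A :=
    { smul := fun g p => ⟨⟨(g : Cfsg.Sz F m) • (p.1.1 : Projectivization F (Fin 4 → F)), by
          obtain ⟨k, hk⟩ := p.1.2
          refine ⟨⟨g.1, g.2.1⟩ * k, ?_⟩
          show ((⟨g.1, g.2.1⟩ * k : H) : Cfsg.Sz F m) • Cfsg.suzukiPointInfinity F = _
          rw [Subgroup.coe_mul, mul_smul]
          exact congrArg _ hk⟩, fun e => by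
          obtain ⟨a, b, hab⟩ := g.2.2
          apply p.2
          have e' : (g : Cfsg.Sz F m) • (p.1.1 : Projectivization F (Fin 4 → F)) =
              Cfsg.suzukiPointInfinity F := e
          rw [hab] at e'
          exact MulAction.injective (tEl hF a b) (e'.trans (tEl_infty hF a b).symm)⟩
      one_smul := fun p => Subtype.ext (Subtype.ext (one_smul (Cfsg.Sz F m) _))
      mul_smul := fun g k p => Subtype.ext (Subtype.ext (mul_smul (g : Cfsg.Sz F m) k _)) }
  have hfree : ∀ p : A, MulAction.stabilizer T0 p = ⊥ := by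
    intro p
    rw [eq_bot_iff]
    rintro ⟨g, hg⟩ hgp
    rw [Subgroup.mem_bot]
    apply Subtype.ext
    obtain ⟨a, b, hab⟩ := hg.2
    subst hab
    by_contra hne
    have hgp' : tEl hF a b • (p.1.1 : Projectivization F (Fin 4 → F)) = p.1.1 :=
      congrArg (fun p : A => p.1.1) (MulAction.mem_stabilizer_iff.mp hgp)
    exact p.2 (tEl_unique_fixed hF hne (hOsub p.1.2) hgp')
  have hA : Nat.card T0 ∣ Nat.card A := by
    haveI : Finite A := inferInstance
    haveI := Fintype.ofFinite (MulAction.orbitRel.Quotient T0 A)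
    rw [Nat.card_congr (MulAction.selfEquivOrbitsQuotientProd hfree), Nat.card_prod]
    exact dvd_mul_left _ _
  have hAcard : Nat.card A + 1 = Nat.card O := by
    rw [← Finite.card_option]
    exact Nat.card_congr ((Equiv.optionCongr (Equiv.subtypeEquivRight fun p => by
        simp [Subtype.ext_iff])).trans (Equiv.optionSubtypeNe (⟨_, MulAction.mem_orbit_self _⟩ : O)))
  have hApos : 0 < Nat.card A := by
    haveI : Nonempty A := ⟨⟨⟨_, ⟨⟨h, hh⟩, rfl⟩⟩, hmove⟩⟩
    exact Nat.card_pos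
  have hOle : Nat.card O ≤ (2 ^ (2 * m + 1)) ^ 2 + 1 := by
    rw [← hF, ← Nat.card_eq_fintype_card, ← ovoid_card (F := F) (m := m)]
    exact Nat.card_mono ovoid_finite hOsub
  have horb := Nat.card_congr (MulAction.orbitProdStabilizerEquivGroup H (Cfsg.suzukiPointInfinity F))
  rw [Nat.card_prod] at horb
  have hdiv : Nat.card O ∣ Nat.card (Cfsg.Sz F m) :=
    (Dvd.intro _ horb).trans (Subgroup.card_subgroup_dvd_card H)
  have hT0 : Nat.card T0 ∣ (2 ^ (2 * m + 1)) ^ 2 := by
    rw [← card_tSub (m := m) hF]; exact Subgroup.card_dvd_of_le inf_le_right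
  have hq8 : 8 ≤ 2 ^ (2 * m + 1) := by
    have : 2 ^ 3 ≤ 2 ^ (2 * m + 1) := Nat.pow_le_pow_right (by norm_num) (by omega)
    omega
  have hOfull : Nat.card O = (2 ^ (2 * m + 1)) ^ 2 + 1 := by
    obtain ⟨c, hc⟩ := hT0
    obtain ⟨d, hd⟩ := hA
    have hc2 : c ≤ 2 := by
      by_contra hc3
      have := Nat.mul_le_mul_left (Nat.card T0) (not_le.mp hc3)
      have : 0 < Nat.card T0 := Nat.card_pos
      rw [hc] at hT
      nlinarith
    have hdc : d ≤ c := by
      have : Nat.card T0 * d ≤ Nat.card T0 * c := by rw [← hd, ← hc]; omega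
      exact Nat.le_of_mul_le_mul_left this Nat.card_pos
    have hd0 : d ≠ 0 := by rintro rfl; omega
    by_cases hcd : d = c
    · subst hcd; omega
    · have hd1 : d = 1 ∧ c = 2 := by omega
      obtain ⟨rfl, rfl⟩ := hd1
      exfalso
      rw [mul_one] at hd
      rw [card_sz hm hF] at hdiv
      have hq2 : 64 ≤ (2 ^ (2 * m + 1)) ^ 2 := by nlinarith
      have h4q : 4 ∣ (2 ^ (2 * m + 1)) ^ 2 := by
        rw [← pow_mul, show (4 : ℕ) = 2 ^ 2 by norm_num]
        exact pow_dvd_pow 2 (by omega)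
      have hOodd : ¬ 2 ∣ Nat.card O := by omega
      have hcop1 : Nat.Coprime (Nat.card O) ((2 ^ (2 * m + 1)) ^ 2) := by
        rw [← pow_mul]
        exact Nat.Coprime.pow_right _ ((Nat.Prime.coprime_iff_not_dvd Nat.prime_two).mpr hOodd).symm
      have hcop2 : Nat.Coprime (Nat.card O) ((2 ^ (2 * m + 1)) ^ 2 + 1) := by
        refine Nat.coprime_of_dvd fun p hp h1 h2 => ?_
        have h3 := Nat.dvd_sub (Dvd.dvd.mul_right h1 2) h2
        rw [show Nat.card O * 2 - ((2 ^ (2 * m + 1)) ^ 2 + 1) = 1 by omega] at h3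
        exact hp.ne_one (Nat.dvd_one.mp h3)
      have h1 : Nat.card O ∣ 2 ^ (2 * m + 1) - 1 :=
        (hcop1.mul_right hcop2).dvd_of_dvd_mul_left hdiv
      have := Nat.le_of_dvd (by omega) h1
      have : 2 ^ (2 * m + 1) * 8 ≤ (2 ^ (2 * m + 1)) ^ 2 := by nlinarith
      omega
  -- the index is too small
  letI : MulAction (Cfsg.Sz F m) (Cfsg.Sz F m ⧸ H) := inferInstance
  haveI := sz_simple hm hF
  haveI : FaithfulSMul (Cfsg.Sz F m) (Cfsg.Sz F m ⧸ H) := by
    rcases (H.normalCore_normal).eq_bot_or_eq_top with hb | ht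
    · refine ⟨fun {a b} hab => ?_⟩
      have : b⁻¹ * a ∈ H.normalCore := by
        rw [Subgroup.normalCore_eq_ker, MonoidHom.mem_ker]
        apply Equiv.ext
        intro x
        show (b⁻¹ * a) • x = x
        rw [mul_smul, hab x, inv_smul_smul]
      rw [hb, Subgroup.mem_bot, inv_mul_eq_one] at this
      exact this.symm
    · exact absurd (eq_top_iff.mpr (ht ▸ H.normalCore_le)) hH
  haveI := Fintype.ofFinite (Cfsg.Sz F m ⧸ H)
  have hidx1 : 1 < Fintype.card (Cfsg.Sz F m ⧸ H) := by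
    rw [← Nat.card_eq_fintype_card, ← Subgroup.index_eq_card]
    exact Subgroup.one_lt_index_of_ne_top hH
  have hdeg := sz_perm_degree hm hF hidx1
  rw [← Nat.card_eq_fintype_card (α := Cfsg.Sz F m ⧸ H), ← Subgroup.index_eq_card] at hdeg
  have hmul := H.card_mul_index
  rw [← horb, hOfull, card_sz hm hF] at hmul
  have hS : Nat.card T0 ≤ Nat.card (MulAction.stabilizer H (Cfsg.suzukiPointInfinity F)) := by
    refine Nat.card_le_card_of_injective
      (fun g : T0 => (⟨⟨g.1, g.2.1⟩, by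
        obtain ⟨a, b, hab⟩ := g.2.2
        show (g.1 : Cfsg.Sz F m) • Cfsg.suzukiPointInfinity F = _
        rw [hab, tEl_infty]⟩ : MulAction.stabilizer H (Cfsg.suzukiPointInfinity F))) fun a b hab => ?_
    exact Subtype.ext (congrArg (fun x : MulAction.stabilizer H (Cfsg.suzukiPointInfinity F) => x.1.1) hab)
  generalize Nat.card (MulAction.stabilizer H (Cfsg.suzukiPointInfinity F)) = s at hmul hS
  generalize Nat.card T0 = t at hS hT
  generalize H.index = n at hmul hdeg
  exact index_arith (Nat.le_self_pow (by omega) 2) hq8 hmul (hT.trans (Nat.mul_le_mul_left 2 hS)) hdeg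

variable {Ω : Type*} [Fintype Ω] [MulAction (Cfsg.Sz F m) Ω]

theorem odd_subgroup_in_torus (hm : 1 ≤ m) (hF : Fintype.card F = 2 ^ (2 * m + 1))
    {H : Subgroup (Cfsg.Sz F m)} (hodd : ¬ 2 ∣ Nat.card H) (hne : H ≠ ⊥) :
    ∃ U, IsUTor hF U ∧ H ≤ U := by
  haveI : IsZGroup H := ⟨fun p hp P => by
    haveI := Fact.mk hp
    by_cases hp2 : p = 2
    · subst hp2
      haveI : Subsingleton P := by
        rw [← Finite.card_le_one_iff_subsingleton, P.card_eq_multiplicity,
          Nat.factorization_eq_zero_of_not_dvd hodd, pow_zero]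
      exact isCyclic_of_subsingleton
    · haveI := odd_pgroup_cyclic hm hF hp2 _ (P.isPGroup'.map H.subtype)
      exact ((P : Subgroup H).equivMapOfInjective H.subtype H.subtype_injective).isCyclic.mpr inferInstance⟩
  have helodd : ∀ g ∈ H, ¬ 2 ∣ orderOf g := fun g hg h =>
    hodd (h.trans (Subgroup.orderOf_dvd_natCard H hg))
  rcases solvable_le hm hF H with ⟨p, hp, hfix⟩ | ⟨U, hU, hle⟩
  · -- `H` fixes a point and has odd order, so it is abelian
    rw [← orbit_infty hF] at hp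
    obtain ⟨s, rfl⟩ := hp
    have hab : ∀ x ∈ H, ∀ y ∈ H, x * y = y * x := by
      intro x hx y hy
      set c := x * y * x⁻¹ * y⁻¹ with hc
      have hfx : ∀ g ∈ H, (s⁻¹ * g * s) • Cfsg.suzukiPointInfinity F = Cfsg.suzukiPointInfinity F :=
        fun g hg => by rw [mul_smul, mul_smul, inv_smul_eq_iff]; exact hfix g hg
      obtain ⟨a, b, k, hk⟩ := fix_infty hm hF _ (hfx x hx)
      obtain ⟨a', b', l, hl⟩ := fix_infty hm hF _ (hfx y hy)
      have hT : s⁻¹ * c * s ∈ tSub (m := m) hF := by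
        set N := Subgroup.normalizer (tSub (m := m) hF : Set (Cfsg.Sz F m))
        have hTN : ∀ a b, tEl hF a b ∈ N := fun a b => Subgroup.le_normalizer (tEl_mem_tSub hF a b)
        have hDN : ∀ k, dEl hF k ∈ N := fun k => by
          rw [show N = _ from normalizer_tSub hm hF]; exact dEl_infty hF k
        have e : s⁻¹ * c * s = (tEl hF a b * dEl hF k) * (tEl hF a' b' * dEl hF l) *
            (tEl hF a b * dEl hF k)⁻¹ * (tEl hF a' b' * dEl hF l)⁻¹ := by
          rw [← hk, ← hl, hc]; group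
        haveI : ((tSub (m := m) hF).subgroupOf N).Normal := Subgroup.normal_in_normalizer
        let π := QuotientGroup.mk' ((tSub (m := m) hF).subgroupOf N)
        have hπT : ∀ a b, π ⟨tEl hF a b, hTN a b⟩ = 1 := fun a b =>
          (QuotientGroup.eq_one_iff _).mpr (tEl_mem_tSub hF a b)
        have hcomm : π ⟨dEl hF k, hDN k⟩ * π ⟨dEl hF l, hDN l⟩ = π ⟨dEl hF l, hDN l⟩ * π ⟨dEl hF k, hDN k⟩ := by
          rw [← map_mul, ← map_mul]
          congr 1
          exact Subtype.ext (by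
            show dEl hF k * dEl hF l = dEl hF l * dEl hF k
            rw [dEl_mul, dEl_mul, mul_comm])
        let X : N := ⟨tEl hF a b, hTN a b⟩ * ⟨dEl hF k, hDN k⟩
        let Y : N := ⟨tEl hF a' b', hTN a' b'⟩ * ⟨dEl hF l, hDN l⟩
        have h1 : π (X * Y * X⁻¹ * Y⁻¹) = 1 := by
          simp only [map_mul, map_inv, X, Y, hπT, one_mul, hcomm]
          group
        rw [e]
        exact (QuotientGroup.eq_one_iff (X * Y * X⁻¹ * Y⁻¹)).mp h1
      obtain ⟨a'', b'', hT⟩ := hT
      have hcH : c ∈ H := mul_mem (mul_mem (mul_mem hx hy) (inv_mem hx)) (inv_mem hy)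
      have ho : orderOf c = orderOf (tEl hF a'' b'') := by
        rw [← hT]
        have := orderOf_conj s⁻¹ c
        rw [inv_inv] at this
        exact this.symm
      have hc1 : c = 1 := by
        obtain ⟨i, -, hi⟩ := (Nat.dvd_prime_pow Nat.prime_two).mp
          (show orderOf (tEl hF a'' b'') ∣ 2 ^ 2 from orderOf_dvd_of_pow_eq_one (tEl_pow' hF _ _))
        rw [← orderOf_eq_one_iff, ho, hi]
        rcases Nat.eq_zero_or_pos i with h0 | h0
        · rw [h0, pow_zero]
        · exact absurd (show 2 ∣ orderOf c by rw [ho, hi]; exact dvd_pow_self 2 h0.ne') (helodd c hcH)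
      calc x * y = c * (y * x) := by rw [hc]; group
        _ = y * x := by rw [hc1, one_mul]
    obtain ⟨⟨u, hu⟩, hu1⟩ := Subgroup.ne_bot_iff_exists_ne_one.mp hne
    replace hu1 : u ≠ 1 := fun h => hu1 (Subtype.ext h)
    obtain ⟨U, hU, huU⟩ : ∃ U, IsUTor hF U ∧ u ∈ U := by
      rcases sz_trichotomy hm hF hu1 with ⟨t, a, b, ht⟩ | ⟨t, ht⟩ | ⟨A, hA, huA⟩
      · exfalso
        have := orderOf_conj t⁻¹ u
        rw [inv_inv, ht] at this
        obtain ⟨i, -, hi⟩ := (Nat.dvd_prime_pow Nat.prime_two).mp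
          (show orderOf (tEl hF a b) ∣ 2 ^ 2 from orderOf_dvd_of_pow_eq_one (tEl_pow' hF _ _))
        rw [hi] at this
        rcases Nat.eq_zero_or_pos i with h0 | h0
        · rw [h0, pow_zero] at this; exact hu1 (orderOf_eq_one_iff.mp this.symm)
        · exact helodd u hu (this ▸ dvd_pow_self 2 h0.ne')
      · exact ⟨_, Or.inl ⟨t, rfl⟩, mem_map_conj_iff.mpr ht⟩
      · exact ⟨A, Or.inr hA, huA⟩
    refine ⟨U, hU, fun g hg => ?_⟩
    rw [← utor_centralizer hm hF hU huU hu1]
    exact Subgroup.mem_centralizer_singleton_iff.mpr (hab g hg u hu)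
  · refine ⟨U, hU, fun g hg => ?_⟩
    by_contra hgU
    exact helodd g hg (norm_notMem hm hF hU (hle hg) hgU).1

theorem cyclic_sub_normalized {G : Type*} [Group G] [Finite G] {U K : Subgroup G} (hU : IsCyclic U)
    (hK : K ≤ U) {n : G} (hn : n ∈ Subgroup.normalizer (U : Set G)) {x : G} (hx : x ∈ K) :
    n * x * n⁻¹ ∈ K := by
  classical
  haveI := hU
  haveI := Fintype.ofFinite U
  set d := Nat.card K
  have hsub : ∀ y ∈ K, y ^ d = 1 := fun y hy =>
    congrArg Subtype.val (pow_card_eq_one' (x := (⟨y, hy⟩ : K)))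
  let S := Finset.univ.filter fun y : U => y ^ d = 1
  let S' := Finset.univ.filter fun y : U => (y : G) ∈ K
  have hle : S' ⊆ S := fun y hy => Finset.mem_filter.mpr ⟨Finset.mem_univ _,
    Subtype.ext (hsub _ (Finset.mem_filter.mp hy).2)⟩
  have hcard : S.card ≤ S'.card := by
    refine (IsCyclic.card_pow_eq_one_le (α := U) (n := d) Nat.card_pos).trans ?_
    rw [← Fintype.card_subtype, ← Nat.card_eq_fintype_card]
    exact Nat.card_le_card_of_injective (fun y : K => (⟨⟨y.1, hK y.2⟩, y.2⟩ : {y : U // (y : G) ∈ K}))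
      fun a b h => Subtype.ext (congrArg (fun z : {y : U // (y : G) ∈ K} => (z.1 : G)) h)
  have heq := Finset.eq_of_subset_of_card_le hle hcard
  have hxU : n * x * n⁻¹ ∈ U := (Subgroup.mem_normalizer_iff.mp hn x).mp (hK hx)
  have hmem : (⟨_, hxU⟩ : U) ∈ S := Finset.mem_filter.mpr ⟨Finset.mem_univ _, Subtype.ext (by
    show (n * x * n⁻¹) ^ d = 1
    rw [conj_pow, hsub x hx]; group)⟩
  rw [← heq] at hmem
  exact (Finset.mem_filter.mp hmem).2

theorem sz_fixity_two (hm : 1 ≤ m) (hF : Fintype.card F = 2 ^ (2 * m + 1))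
    [FaithfulSMul (Cfsg.Sz F m) Ω] (htr : MulAction.IsPretransitive (Cfsg.Sz F m) Ω)
    (hfix : ∀ g : Cfsg.Sz F m, g ≠ 1 → Nat.card (MulAction.fixedBy Ω g) ≤ 2)
    (hex : ∃ g : Cfsg.Sz F m, g ≠ 1 ∧ Nat.card (MulAction.fixedBy Ω g) = 2) :
    (Fintype.card Ω = Fintype.card F ^ 2 + 1 ∧ MulAction.IsMultiplyPretransitive (Cfsg.Sz F m) Ω 2) ∨
    (Fintype.card Ω = Fintype.card F ^ 2 * (Fintype.card F ^ 2 + 1) ∧
      ∀ α : Ω, Nat.card (MulAction.stabilizer (Cfsg.Sz F m) α) = Fintype.card F - 1) := by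
  classical
  haveI := htr
  obtain ⟨g, hg1, hg2⟩ := hex
  obtain ⟨⟨α₀, hα₀⟩⟩ : Nonempty (MulAction.fixedBy Ω g) := (Nat.card_pos_iff.mp (by omega)).1
  have hΩ2 : 1 < Fintype.card Ω := by
    have h := Nat.card_le_card_of_injective (Subtype.val : MulAction.fixedBy Ω g → Ω) Subtype.val_injective
    rw [hg2, Nat.card_eq_fintype_card (α := Ω)] at h
    omega
  have horb : ∀ α : Ω,
      Fintype.card Ω * Nat.card (MulAction.stabilizer (Cfsg.Sz F m) α) = Nat.card (Cfsg.Sz F m) := fun α => by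
    have h := Nat.card_congr (MulAction.orbitProdStabilizerEquivGroup (Cfsg.Sz F m) α)
    rw [Nat.card_prod, MulAction.orbit_eq_univ, Nat.card_univ, Nat.card_eq_fintype_card (α := Ω)] at h
    exact h
  by_cases heven : 2 ∣ Nat.card (MulAction.stabilizer (Cfsg.Sz F m) α₀)
  · left
    haveI : Fact (Nat.Prime 2) := ⟨Nat.prime_two⟩
    obtain ⟨⟨z, hz⟩, hz2⟩ := exists_prime_orderOf_dvd_card' 2 heven
    rw [Subgroup.orderOf_mk] at hz2
    obtain ⟨s, hs⟩ := isConj_iff.mp (isConj_comm.mp (inv_isConj hm hF hz2))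
    -- move the fixed point so that `T(0,1)` fixes it
    set α := s • α₀ with hα
    have hzα : tEl hF 0 1 • α = α := by
      rw [hα, ← hs, mul_smul, mul_smul, inv_smul_smul, MulAction.mem_stabilizer_iff.mp hz]
    set H := MulAction.stabilizer (Cfsg.Sz F m) α
    have hz1 : tEl hF 0 1 ≠ 1 := fun h => one_ne_zero ((tEl_inj hF (h.trans (tEl_zero hF).symm)).2)
    -- the centraliser acts on the two fixed points
    have hT : (2 ^ (2 * m + 1)) ^ 2 ≤ 2 * Nat.card ↥(H ⊓ tSub (m := m) hF) := by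
      let f : tSub (m := m) hF ⧸ H.subgroupOf (tSub (m := m) hF) → MulAction.fixedBy Ω (tEl hF 0 1) :=
        fun c => ⟨(c.out : Cfsg.Sz F m) • α, by
          obtain ⟨a, b, hab⟩ := (c.out).2
          show tEl hF 0 1 • _ = _
          rw [← mul_smul, hab, ← center_commute hF a b 1, mul_smul, hzα]⟩
      have hf : Function.Injective f := by
        intro c d h
        have h' : (c.out : Cfsg.Sz F m) • α = (d.out : Cfsg.Sz F m) • α := congrArg Subtype.val h
        rw [← c.out_eq, ← d.out_eq]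
        refine QuotientGroup.eq.mpr ?_
        show ((c.out⁻¹ * d.out : tSub (m := m) hF) : Cfsg.Sz F m) ∈ H
        rw [MulAction.mem_stabilizer_iff, Subgroup.coe_mul, mul_smul, InvMemClass.coe_inv, inv_smul_eq_iff, h']
      have h1 := (Nat.card_le_card_of_injective f hf).trans (hfix _ hz1)
      have h2 := Subgroup.card_eq_card_quotient_mul_card_subgroup (H.subgroupOf (tSub (m := m) hF))
      rw [card_tSub] at h2
      have h3 : Nat.card (H.subgroupOf (tSub (m := m) hF)) = Nat.card ↥(H ⊓ tSub (m := m) hF) := by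
        rw [← Subgroup.inf_subgroupOf_right]
        exact Nat.card_congr (Subgroup.subgroupOfEquivOfLe inf_le_right).toEquiv
      rw [h3] at h2
      rw [h2]
      exact Nat.mul_le_mul_right _ h1
    have hHtop : H ≠ ⊤ := fun h => by
      have e := horb α
      rw [show MulAction.stabilizer (Cfsg.Sz F m) α = ⊤ from h, Subgroup.card_top] at e
      have : 1 * Nat.card (Cfsg.Sz F m) < Fintype.card Ω * Nat.card (Cfsg.Sz F m) :=
        Nat.mul_lt_mul_of_pos_right hΩ2 Nat.card_pos
      omega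
    set B := MulAction.stabilizer (Cfsg.Sz F m) (Cfsg.suzukiPointInfinity F)
    have hle : H ≤ B := subgroup_fix_infty hm hF hHtop hT
    -- all central involutions lie in `H`
    have hZ : ∀ c, tEl hF 0 c ∈ H := by
      intro c
      obtain ⟨a, rfl⟩ := (th_mul_self_bij (m := m) hF).2 c
      have h2 : ((H.subgroupOf (tSub (m := m) hF)).index) ≤ 2 := by
        have h3 : Nat.card (H.subgroupOf (tSub (m := m) hF)) = Nat.card ↥(H ⊓ tSub (m := m) hF) := by
          rw [← Subgroup.inf_subgroupOf_right]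
          exact Nat.card_congr (Subgroup.subgroupOfEquivOfLe inf_le_right).toEquiv
        have h4 := (H.subgroupOf (tSub (m := m) hF)).card_mul_index
        rw [card_tSub, h3] at h4
        rw [← h4, mul_comm] at hT
        exact Nat.le_of_mul_le_mul_right hT Nat.card_pos
      have hsq : (⟨tEl hF a 0, tEl_mem_tSub hF a 0⟩ : tSub (m := m) hF) ^ 2 ∈
          H.subgroupOf (tSub (m := m) hF) := by
        rcases Nat.lt_or_ge (H.subgroupOf (tSub (m := m) hF)).index 2 with h | h
        · have h0 : (H.subgroupOf (tSub (m := m) hF)).index ≠ 0 := Subgroup.index_ne_zero_of_finite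
          have h1 : (H.subgroupOf (tSub (m := m) hF)).index = 1 := by omega
          rw [Subgroup.index_eq_one.mp h1]
          exact Subgroup.mem_top _
        · rw [sq]
          exact Subgroup.mul_self_mem_of_index_two (le_antisymm h2 h) _
      rw [Subgroup.mem_subgroupOf, Subgroup.coe_pow, tEl_sq] at hsq
      exact hsq
    have hBH : (H.subgroupOf B).index ≤ 2 := by
      rw [Subgroup.index_eq_card]
      refine le_trans ?_ (hfix _ hz1)
      refine Nat.card_le_card_of_injective (fun c => (⟨(c.out : Cfsg.Sz F m) • α, ?_⟩ :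
        MulAction.fixedBy Ω (tEl hF 0 1))) ?_
      · show tEl hF 0 1 • _ = _
        obtain ⟨a, b, k, hab⟩ := fix_infty hm hF _ (c.out).2
        rw [← mul_smul, hab]
        set k' := th m ((k⁻¹ : Fˣ) : F) * (k⁻¹ : Fˣ)
        have e : tEl hF 0 1 * (tEl hF a b * dEl hF k) = (tEl hF a b * dEl hF k) * tEl hF 0 k' := by
          rw [mul_assoc (tEl hF a b), dEl_tEl, mul_zero, ← mul_assoc, ← mul_assoc, center_commute]
          congr 2
          rw [show th m (k : F) * k * k' = (th m (k : F) * th m ((k⁻¹ : Fˣ) : F)) * (k * (k⁻¹ : Fˣ)) by ring,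
            ← th_mul, Units.mul_inv, th_one, one_mul]
        rw [e, mul_smul, MulAction.mem_stabilizer_iff.mp (hZ k')]
      · intro c d h
        have h' : (c.out : Cfsg.Sz F m) • α = (d.out : Cfsg.Sz F m) • α := congrArg Subtype.val h
        rw [← c.out_eq, ← d.out_eq]
        refine QuotientGroup.eq.mpr ?_
        show ((c.out⁻¹ * d.out : B) : Cfsg.Sz F m) ∈ H
        rw [MulAction.mem_stabilizer_iff, Subgroup.coe_mul, mul_smul, InvMemClass.coe_inv, inv_smul_eq_iff, h']
    have hHB : H = B := le_antisymm hle (fun b hb => by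
      have := borel_no_index_two hm hF _ hBH
      exact Subgroup.mem_subgroupOf.mp (this ▸ Subgroup.mem_top (⟨b, hb⟩ : B)))
    have hcard := horb α
    rw [show MulAction.stabilizer (Cfsg.Sz F m) α = B from hHB, card_stab_infty hm hF, card_sz hm hF] at hcard
    have hq2 : 2 ≤ 2 ^ (2 * m + 1) := Nat.le_self_pow (by omega) 2
    refine ⟨?_, ?_⟩
    · rw [hF]
      exact Nat.eq_of_mul_eq_mul_right (Nat.mul_pos (pow_pos (by omega) 2) (by omega))
        (hcard.trans (by ring))
    · -- transport double transitivity from the ovoid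
      have hΨ : ∀ x : Ω, ∃ g : Cfsg.Sz F m, g • α = x := fun x => MulAction.exists_smul_eq _ α x
      have hiff : ∀ g g' : Cfsg.Sz F m, g • α = g' • α ↔
          g • Cfsg.suzukiPointInfinity F = g' • Cfsg.suzukiPointInfinity F := by
        intro g g'
        rw [eq_comm, ← inv_smul_eq_iff, ← mul_smul, ← MulAction.mem_stabilizer_iff,
          show MulAction.stabilizer (Cfsg.Sz F m) α = B from hHB, MulAction.mem_stabilizer_iff, mul_smul,
          inv_smul_eq_iff, eq_comm]
      rw [MulAction.is_two_pretransitive_iff]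
      intro a b c d hab hcd
      obtain ⟨a, rfl⟩ := hΨ a
      obtain ⟨b, rfl⟩ := hΨ b
      obtain ⟨c, rfl⟩ := hΨ c
      obtain ⟨d, rfl⟩ := hΨ d
      rw [ne_eq, hiff] at hab hcd
      obtain ⟨u, hu1, hu2⟩ := exists_to_base hF (sz_smul_mem a infty_mem) (sz_smul_mem b infty_mem) hab
      obtain ⟨v, hv1, hv2⟩ := exists_to_base hF (sz_smul_mem c infty_mem) (sz_smul_mem d infty_mem) hcd
      refine ⟨v * u⁻¹, ?_, ?_⟩
      · rw [← mul_smul, hiff, mul_smul, ← hu1, mul_smul, inv_smul_smul, hv1]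
      · rw [← mul_smul, hiff, mul_smul, ← hu2, mul_smul, inv_smul_smul, hv2]
  · right
    set H := MulAction.stabilizer (Cfsg.Sz F m) α₀
    have hHne : H ≠ ⊥ := fun h => hg1 (Subgroup.mem_bot.mp (h ▸ MulAction.mem_stabilizer_iff.mpr hα₀))
    obtain ⟨U, hU, hHU⟩ := odd_subgroup_in_torus hm hF heven hHne
    set N := Subgroup.normalizer (U : Set (Cfsg.Sz F m))
    have hidx : (H.subgroupOf N).index ≤ 2 := by
      rw [Subgroup.index_eq_card]
      refine le_trans ?_ (hfix g hg1)
      refine Nat.card_le_card_of_injective (fun c => (⟨(c.out : Cfsg.Sz F m) • α₀, ?_⟩ :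
        MulAction.fixedBy Ω g)) ?_
      · show g • _ = _
        have hmem := cyclic_sub_normalized (utor_comm hm hF hU) hHU (inv_mem (c.out).2)
          (MulAction.mem_stabilizer_iff.mpr hα₀)
        rw [inv_inv] at hmem
        have := MulAction.mem_stabilizer_iff.mp hmem
        rw [mul_smul, mul_smul, inv_smul_eq_iff] at this
        exact this
      · intro c d h
        have h' : (c.out : Cfsg.Sz F m) • α₀ = (d.out : Cfsg.Sz F m) • α₀ := congrArg Subtype.val h
        rw [← c.out_eq, ← d.out_eq]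
        refine QuotientGroup.eq.mpr ?_
        show ((c.out⁻¹ * d.out : N) : Cfsg.Sz F m) ∈ H
        rw [MulAction.mem_stabilizer_iff, Subgroup.coe_mul, mul_smul, InvMemClass.coe_inv, inv_smul_eq_iff, h']
    have hHN : H ≤ N := hHU.trans Subgroup.le_normalizer
    have h1 := (H.subgroupOf N).card_mul_index
    rw [Nat.card_congr (Subgroup.subgroupOfEquivOfLe hHN).toEquiv, normIdx_spec] at h1
    obtain ⟨e, he⟩ := Subgroup.card_dvd_of_le hHU
    have hk : (H.subgroupOf N).index = normIdx U * e := by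
      apply Nat.eq_of_mul_eq_mul_left (Nat.card_pos : 0 < Nat.card H)
      rw [h1, he]; ring
    have he0 : e ≠ 0 := by
      rintro rfl
      rw [mul_zero] at he
      exact Nat.card_pos.ne' he
    rw [hk] at hidx
    have hk2 : normIdx U = 2 ∧ e = 1 := by
      rcases normIdx_cases hm hF hU with e' | e' <;> rw [e'] at hidx ⊢ <;> constructor <;> omega
    obtain ⟨hkU, rfl⟩ := hk2
    have hcardU : Nat.card U = 2 ^ (2 * m + 1) - 1 := by
      rcases hU with ⟨s, rfl⟩ | hU'
      · rw [card_conj, card_dSub]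
      · exfalso
        obtain ⟨Ap, Am, -, -, -, -, -, hN⟩ := tor_summary hm hF
        have := hN U hU'
        rw [normIdx_spec, hkU] at this
        have := Nat.eq_of_mul_eq_mul_right Nat.card_pos this
        omega
    rw [mul_one, hcardU] at he
    have hq2 : 2 ≤ 2 ^ (2 * m + 1) := Nat.le_self_pow (by omega) 2
    have hall : ∀ α : Ω, Nat.card (MulAction.stabilizer (Cfsg.Sz F m) α) = 2 ^ (2 * m + 1) - 1 := by
      intro α
      obtain ⟨s, hs⟩ := MulAction.exists_smul_eq (Cfsg.Sz F m) α₀ α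
      rw [he]
      exact (Nat.card_congr (MulAction.stabilizerEquivStabilizer hs.symm).toEquiv).symm
    rw [hF]
    refine ⟨?_, hall⟩
    have := horb α₀
    rw [hall, card_sz hm hF] at this
    exact Nat.eq_of_mul_eq_mul_right (show 0 < 2 ^ (2 * m + 1) - 1 by omega) this

end H57
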