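import Mathlib

/-!
Binary coset actions: general lemmas on the triangle obstruction and a sufficient condition.
-/

set_option autoImplicit false

namespace H57

open scoped Pointwise

variable {G : Type*} [Group G]

/-- Pairwise carried tuples of cosets are carried by one element. -/
def IsBinaryCoset (H : Subgroup G) : Prop :=
  ∀ (n : ℕ) (I J : Fin n → G ⧸ H), 2 ≤ n →
    (∀ i j : Fin n, i ≠ j → ∃ g : G, g • I i = J i ∧ g • I j = J j) →
      ∃ g : G, ∀ i, g • I i = J i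

theorem smul_mk_eq_iff {H : Subgroup G} {g a b : G} :
    g • (a : G ⧸ H) = b ↔ b⁻¹ * g * a ∈ H := by
  rw [MulAction.Quotient.smul_coe, eq_comm, QuotientGroup.eq, smul_eq_mul, mul_assoc]

theorem IsBinaryCoset.map {G' : Type*} [Group G'] {H : Subgroup G} (h : IsBinaryCoset H)
    (e : G ≃* G') : IsBinaryCoset (H.map e.toMonoidHom) := by
  intro n I J hn hp
  choose a ha using fun i => QuotientGroup.mk_surjective (I i)
  choose b hb using fun i => QuotientGroup.mk_surjective (J i)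
  have key : ∀ g i, e g • I i = J i ↔
      g • ((e.symm (a i) : G) : G ⧸ H) = (e.symm (b i) : G) := by
    intro g i
    rw [← ha i, ← hb i, smul_mk_eq_iff, smul_mk_eq_iff, Subgroup.map_equiv_eq_comap_symm',
      Subgroup.mem_comap]
    simp
  obtain ⟨g, hg⟩ := h n (fun i => ((e.symm (a i) : G) : G ⧸ H))
    (fun i => ((e.symm (b i) : G) : G ⧸ H)) hn (fun i j hij => by
      obtain ⟨g, h1, h2⟩ := hp i j hij
      refine ⟨e.symm g, (key _ _).mp ?_, (key _ _).mp ?_⟩ <;> rwa [e.apply_symm_apply])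
  exact ⟨e g, fun i => (key g i).mpr (hg i)⟩

theorem isBinaryCoset_bot : IsBinaryCoset (⊥ : Subgroup G) := by
  intro n I J hn hp
  choose a ha using fun i => QuotientGroup.mk_surjective (I i)
  choose b hb using fun i => QuotientGroup.mk_surjective (J i)
  let i0 : Fin n := ⟨0, by omega⟩
  refine ⟨b i0 * (a i0)⁻¹, fun i => ?_⟩
  rw [← ha i, ← hb i, smul_mk_eq_iff, Subgroup.mem_bot]
  by_cases hi : i = i0
  · subst hi; group
  · obtain ⟨g, h1, h2⟩ := hp i0 i fun h => hi h.symm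
    rw [← ha, ← hb, smul_mk_eq_iff, Subgroup.mem_bot] at h1 h2
    have hg : g = b i0 * (a i0)⁻¹ := by
      calc g = b i0 * ((b i0)⁻¹ * g * a i0) * (a i0)⁻¹ := by group
        _ = _ := by rw [h1, mul_one]
    rw [← hg]; exact h2

/-- Intersections of conjugates of `H`, as pointwise stabilisers of sets of cosets. -/
def IsInter (H R : Subgroup G) : Prop :=
  ∃ X : Set (G ⧸ H), fixingSubgroup G X = R

theorem IsInter.self (H : Subgroup G) : IsInter H H := by
  refine ⟨{((1 : G) : G ⧸ H)}, ?_⟩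
  ext g
  rw [mem_fixingSubgroup_iff]
  simp only [Set.mem_singleton_iff, forall_eq, smul_mk_eq_iff, inv_one, one_mul, mul_one]

theorem IsInter.inf {H R S : Subgroup G} (hR : IsInter H R) (hS : IsInter H S) :
    IsInter H (R ⊓ S) := by
  obtain ⟨X, rfl⟩ := hR
  obtain ⟨Y, rfl⟩ := hS
  exact ⟨X ∪ Y, fixingSubgroup_union G _⟩

theorem IsInter.conj {H R : Subgroup G} (hR : IsInter H R) (s : G) :
    IsInter H (R.map (MulAut.conj s).toMonoidHom) := by
  obtain ⟨X, rfl⟩ := hR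
  refine ⟨(fun x => s • x) '' X, ?_⟩
  ext g
  rw [mem_fixingSubgroup_iff, Subgroup.map_equiv_eq_comap_symm', Subgroup.mem_comap,
    mem_fixingSubgroup_iff, Set.forall_mem_image]
  refine forall₂_congr fun x _ => ?_
  simp [MulAut.conj_symm_apply, mul_smul, inv_smul_eq_iff]

/-- The triangle property of a binary action. -/
theorem IsBinaryCoset.triangle [Finite G] {H A B C : Subgroup G} (h : IsBinaryCoset H)
    (hA : IsInter H A) (hB : IsInter H B) (hC : IsInter H C) {a b c : G}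
    (ha : a ∈ A) (hb : b ∈ B) (hc : c ∈ C) (habc : a = b * c) :
    ∃ d ∈ A ⊓ B, d⁻¹ * a ∈ C := by
  classical
  obtain ⟨X, rfl⟩ := hA
  obtain ⟨Y, rfl⟩ := hB
  obtain ⟨Z, rfl⟩ := hC
  rw [mem_fixingSubgroup_iff] at ha hb hc
  haveI := Fintype.ofFinite ((X ⊕ Y ⊕ Z) × Fin 2)
  let σ := (Fintype.equivFin ((X ⊕ Y ⊕ Z) × Fin 2)).symm
  let I : X ⊕ Y ⊕ Z → G ⧸ H := Sum.elim (·.1) (Sum.elim (·.1) (·.1))
  let J : X ⊕ Y ⊕ Z → G ⧸ H := Sum.elim (·.1) (Sum.elim (·.1) fun z => a • z.1)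
  have hpair : ∀ p q : X ⊕ Y ⊕ Z, ∃ g : G, g • I p = J p ∧ g • I q = J q := by
    have hzb : ∀ z ∈ Z, b • z = a • z := fun z hz => by rw [habc, mul_smul, hc z hz]
    rintro (x | y | z) (x' | y' | z')
    · exact ⟨1, one_smul G _, one_smul G _⟩
    · exact ⟨1, one_smul G _, one_smul G _⟩
    · exact ⟨a, ha _ x.2, rfl⟩
    · exact ⟨1, one_smul G _, one_smul G _⟩
    · exact ⟨1, one_smul G _, one_smul G _⟩
    · exact ⟨b, hb _ y.2, hzb _ z'.2⟩
    · exact ⟨a, rfl, ha _ x'.2⟩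
    · exact ⟨b, hzb _ z.2, hb _ y'.2⟩
    · exact ⟨a, rfl, rfl⟩
  obtain ⟨g, hg⟩ : ∃ g : G, ∀ p, g • I p = J p := by
    by_cases hne : Nonempty (X ⊕ Y ⊕ Z)
    · have hn : 2 ≤ Fintype.card ((X ⊕ Y ⊕ Z) × Fin 2) := by
        obtain ⟨p⟩ := hne
        exact Fintype.one_lt_card_iff.mpr ⟨(p, 0), (p, 1), by simp⟩
      obtain ⟨g, hg⟩ := h _ (fun i => I (σ i).1) (fun i => J (σ i).1) hn
        fun i j _ => hpair _ _
      refine ⟨g, fun p => ?_⟩
      simpa using hg (σ.symm (p, 0))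
    · exact ⟨1, fun p => (hne ⟨p⟩).elim⟩
  refine ⟨g, ⟨(mem_fixingSubgroup_iff G).mpr fun x hx => hg (.inl ⟨x, hx⟩),
    (mem_fixingSubgroup_iff G).mpr fun y hy => hg (.inr (.inl ⟨y, hy⟩))⟩,
    (mem_fixingSubgroup_iff G).mpr fun z hz => ?_⟩
  rw [mul_smul, inv_smul_eq_iff]
  exact (hg (.inr (.inr ⟨z, hz⟩))).symm

theorem IsBinaryCoset.triangle_bot [Finite G] {H A B C : Subgroup G} (h : IsBinaryCoset H)
    (hA : IsInter H A) (hB : IsInter H B) (hC : IsInter H C) (hAB : A ⊓ B = ⊥) {a b c : G}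
    (ha : a ∈ A) (hb : b ∈ B) (hc : c ∈ C) (habc : a = b * c) : a ∈ C := by
  obtain ⟨d, hd, hd'⟩ := h.triangle hA hB hC ha hb hc habc
  rw [hAB, Subgroup.mem_bot] at hd
  simpa [hd] using hd'

/-- A nontrivial intersection of conjugates inside `R₀`, minimal among those. -/
theorem exists_minimal_inter [Finite G] {H R₀ : Subgroup G} (h0 : IsInter H R₀) (hne : R₀ ≠ ⊥) :
    ∃ R, R ≤ R₀ ∧ IsInter H R ∧ R ≠ ⊥ ∧ ∀ S, IsInter H S → R ⊓ S = ⊥ ∨ R ≤ S := by
  obtain ⟨R, ⟨hle, hR, hRne⟩, hmin⟩ := exists_minimal_of_wellFoundedLT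
    (fun R : Subgroup G => R ≤ R₀ ∧ IsInter H R ∧ R ≠ ⊥) ⟨R₀, le_rfl, h0, hne⟩
  refine ⟨R, hle, hR, hRne, fun S hS => or_iff_not_imp_left.mpr fun hb => ?_⟩
  exact le_trans (hmin ⟨inf_le_left.trans hle, hR.inf hS, hb⟩ inf_le_left) inf_le_right

theorem eq_of_le_conj [Finite G] {R : Subgroup G} {s : G}
    (h : R ≤ R.map (MulAut.conj s).toMonoidHom) : R.map (MulAut.conj s).toMonoidHom = R := by
  refine (Subgroup.eq_of_le_of_card_ge h ?_).symm
  exact (Subgroup.card_map_of_injective (MulAut.conj s).injective).le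

/-- A minimal intersection meets each of its conjugates trivially or equals it. -/
theorem inter_ti [Finite G] {H R : Subgroup G} (hR : IsInter H R)
    (hmin : ∀ S, IsInter H S → R ⊓ S = ⊥ ∨ R ≤ S) {s x : G} (hx : x ∈ R)
    (hx' : x ∈ R.map (MulAut.conj s).toMonoidHom) (hx1 : x ≠ 1) :
    R.map (MulAut.conj s).toMonoidHom = R := by
  rcases hmin _ (hR.conj s) with h | h
  · exact absurd ((Subgroup.mem_bot).mp (h ▸ ⟨hx, hx'⟩)) hx1
  · exact eq_of_le_conj h

/-- The coset action is binary if `H` has exponent two and commuting nontrivial elements of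
conjugates of `H` only occur within one conjugate. -/
theorem isBinaryCoset_of_exponent_two {H : Subgroup G} (he : ∀ x ∈ H, x * x = 1)
    (hcomm : ∀ s t x y : G, s⁻¹ * x * s ∈ H → t⁻¹ * y * t ∈ H → x ≠ 1 → y ≠ 1 → x * y = y * x →
      ∀ z, s⁻¹ * z * s ∈ H → t⁻¹ * z * t ∈ H) :
    IsBinaryCoset H := by
  intro n I J hn hp
  choose a ha using fun i => QuotientGroup.mk_surjective (I i)
  -- `x` fixes `I i`
  set S : Fin n → G → Prop := fun i x => (a i)⁻¹ * x * a i ∈ H with hS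
  have hfix : ∀ i x, x • I i = I i ↔ S i x := fun i x => by rw [← ha i, smul_mk_eq_iff]
  have hinv : ∀ i x, S i x → x * x = 1 := fun i x h => by
    have := he _ h
    calc x * x = a i * ((a i)⁻¹ * x * a i * ((a i)⁻¹ * x * a i)) * (a i)⁻¹ := by group
      _ = 1 := by rw [this]; group
  have hSmul : ∀ i x y, S i x → S i y → S i (x⁻¹ * y) := fun i x y h1 h2 => by
    have := H.mul_mem (H.inv_mem h1) h2
    show (a i)⁻¹ * (x⁻¹ * y) * a i ∈ H
    convert this using 1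
    group
  have hsame : ∀ i j x y, S i x → S j y → x ≠ 1 → y ≠ 1 → x * y = y * x → ∀ z, S i z → S j z :=
    fun i j x y => hcomm (a i) (a j) x y
  let i0 : Fin n := ⟨0, by omega⟩
  have h1 : ∀ j, ∃ g : G, g • I i0 = J i0 ∧ g • I j = J j := fun j => by
    by_cases hj : i0 = j
    · obtain ⟨g, hg, -⟩ := hp i0 ⟨1, by omega⟩ (by simp [i0, Fin.ext_iff])
      exact ⟨g, hg, hj ▸ hg⟩
    · exact hp i0 j hj
  choose k hk0 hk using h1
  -- the change from `k i0`
  have hc : ∀ j, S i0 ((k i0)⁻¹ * k j) := fun j =>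
    (hfix _ _).mp (by rw [mul_smul, hk0, ← hk0 i0, inv_smul_smul])
  by_cases hall : ∀ j x, S i0 x → S j x
  · refine ⟨k i0, fun j => ?_⟩
    have := (hfix j _).mpr (hall j _ (hc j))
    rw [mul_smul, hk j, inv_smul_eq_iff] at this
    exact this.symm
  push Not at hall
  obtain ⟨j, w, hw0, hwj⟩ := hall
  refine ⟨k j, fun l => ?_⟩
  by_cases hl : ∀ x, S i0 x → S l x
  · have hml : S i0 ((k l)⁻¹ * k j) := by
      have := hSmul i0 _ _ (hc l) (hc j)
      simpa [mul_assoc] using this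
    have := (hfix l _).mpr (hl _ hml)
    rw [mul_smul, inv_smul_eq_iff, hk l] at this
    exact this
  push Not at hl
  obtain ⟨v, hv0, hvl⟩ := hl
  by_cases hjl : j = l
  · exact hjl ▸ hk j
  obtain ⟨g, hgj, hgl⟩ := hp j l hjl
  -- `a = y * x` with `a`, `y`, `x` fixing `I i0`, `I l`, `I j`
  set A := (k l)⁻¹ * k j with hA
  set Y := (k l)⁻¹ * g with hY
  set X := g⁻¹ * k j with hX
  have hA0 : S i0 A := by simpa [hA, mul_assoc] using hSmul i0 _ _ (hc l) (hc j)
  have hYl : S l Y := (hfix l _).mp (by rw [mul_smul, hgl, ← hk l, inv_smul_smul])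
  have hXj : S j X := (hfix j _).mp (by rw [mul_smul, hk j, ← hgj, inv_smul_smul])
  have hAYX : A = Y * X := by rw [hA, hY, hX]; group
  suffices A = 1 by
    rw [hA, inv_mul_eq_one] at this
    exact this ▸ hk l
  by_contra hA1
  rcases eq_or_ne X 1 with hX1 | hX1
  · rw [hX1, mul_one] at hAYX
    exact hvl (hsame i0 l A A hA0 (hAYX ▸ hYl) hA1 hA1 rfl v hv0)
  rcases eq_or_ne Y 1 with hY1 | hY1
  · rw [hY1, one_mul] at hAYX
    exact hwj (hsame i0 j A A hA0 (hAYX ▸ hXj) hA1 hA1 rfl w hw0)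
  have hXX := hinv j X hXj
  have hAA := hinv i0 A hA0
  have hY' : Y = A * X := by rw [hAYX, mul_assoc, hXX, mul_one]
  have hYY : A * X * (A * X) = 1 := hY' ▸ hinv l Y hYl
  have hcom : A * X = X * A := by
    have e : (A * X)⁻¹ = A * X := inv_eq_of_mul_eq_one_left hYY
    rw [mul_inv_rev, inv_eq_of_mul_eq_one_left hXX, inv_eq_of_mul_eq_one_left hAA] at e
    exact e.symm
  exact hwj (hsame i0 j A X hA0 hXj hA1 hX1 hcom w hw0)

end H57
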