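import Cfsg.Agent.H57.SzInvCount

/-!
Solubilisers of elements of the Suzuki group.
-/

set_option autoImplicit false

namespace H57

open Matrix
open scoped Pointwise

variable {F : Type*} [Field F] [Fintype F] {m : ℕ}

theorem norm_solvable (hm : 1 ≤ m) (hF : Fintype.card F = 2 ^ (2 * m + 1))
    {U : Subgroup (Cfsg.Sz F m)} (hU : IsUTor hF U) :
    Group.IsSolvable (Subgroup.normalizer (U : Set (Cfsg.Sz F m))) := by
  haveI : Fact (Nat.Prime 2) := ⟨Nat.prime_two⟩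
  set N := Subgroup.normalizer (U : Set (Cfsg.Sz F m))
  haveI : (U.subgroupOf N).Normal := Subgroup.normal_in_normalizer
  haveI := utor_comm hm hF hU
  haveI : IsCyclic (U.subgroupOf N) :=
    (Subgroup.subgroupOfEquivOfLe (Subgroup.le_normalizer (H := U))).isCyclic.mpr inferInstance
  letI := IsCyclic.commGroup (α := U.subgroupOf N)
  haveI : Group.IsNilpotent (N ⧸ U.subgroupOf N) := by
    refine IsPGroup.isNilpotent (p := 2) ?_
    rcases normIdx_cases hm hF hU with e | e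
    · exact IsPGroup.of_card (n := 1) (by rw [pow_one]; exact e)
    · exact IsPGroup.of_card (n := 2) (by rw [show (2 : ℕ) ^ 2 = 4 by norm_num]; exact e)
  exact Group.isSolvable_of_ker_le_range (U.subgroupOf N).subtype (QuotientGroup.mk' (U.subgroupOf N))
    (by simp)

theorem solub_iff (hm : 1 ≤ m) (hF : Fintype.card F = 2 ^ (2 * m + 1)) (x y : Cfsg.Sz F m) :
    Group.IsSolvable (Subgroup.closure ({x, y} : Set (Cfsg.Sz F m))) ↔
      (∃ p ∈ Cfsg.suzukiOvoid F m, x • p = p ∧ y • p = p) ∨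
      ∃ U, IsUTor hF U ∧ x ∈ Subgroup.normalizer (U : Set (Cfsg.Sz F m)) ∧
        y ∈ Subgroup.normalizer (U : Set (Cfsg.Sz F m)) := by
  have hx : x ∈ Subgroup.closure ({x, y} : Set (Cfsg.Sz F m)) := Subgroup.subset_closure (by simp)
  have hy : y ∈ Subgroup.closure ({x, y} : Set (Cfsg.Sz F m)) := Subgroup.subset_closure (by simp)
  constructor
  · intro h
    haveI := h
    rcases solvable_le hm hF (Subgroup.closure ({x, y} : Set (Cfsg.Sz F m))) with ⟨p, hp, hfix⟩ | ⟨U, hU, hle⟩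
    · exact Or.inl ⟨p, hp, hfix x hx, hfix y hy⟩
    · exact Or.inr ⟨U, hU, hle hx, hle hy⟩
  · rintro (⟨p, hp, hxp, hyp⟩ | ⟨U, hU, hxU, hyU⟩)
    · haveI := stab_solvable_pt hm hF hp
      refine Group.isSolvable_of_isSolvable_injective (f := Subgroup.inclusion
        (K := MulAction.stabilizer (Cfsg.Sz F m) p) ?_) (Subgroup.inclusion_injective _)
      rw [Subgroup.closure_le]
      rintro g (rfl | rfl)
      exacts [hxp, hyp]
    · haveI := norm_solvable hm hF hU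
      refine Group.isSolvable_of_isSolvable_injective (f := Subgroup.inclusion
        (K := Subgroup.normalizer (U : Set (Cfsg.Sz F m))) ?_) (Subgroup.inclusion_injective _)
      rw [Subgroup.closure_le]
      rintro g (rfl | rfl)
      exacts [hxU, hyU]

/-- The number of elements generating a solvable subgroup with `x`. -/
noncomputable def solCount {G : Type*} [Group G] (x : G) : ℕ :=
  Nat.card {y : G // Group.IsSolvable (Subgroup.closure ({x, y} : Set G))}

theorem solCount_map {G H : Type*} [Group G] [Group H] (e : G ≃* H) (x : G) :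
    solCount (e x) = solCount x := by
  refine (Nat.card_congr (e.toEquiv.subtypeEquiv fun y => ?_)).symm
  have h : (Subgroup.closure ({x, y} : Set G)).map e.toMonoidHom =
      Subgroup.closure ({e x, e y} : Set H) := by
    rw [MonoidHom.map_closure]; simp [Set.image_pair]
  show _ ↔ Group.IsSolvable (Subgroup.closure ({e x, e y} : Set H))
  rw [← h]
  constructor
  · intro hs
    haveI := hs
    exact Group.isSolvable_of_surjective
      ((Subgroup.closure ({x, y} : Set G)).equivMapOfInjective e.toMonoidHom e.injective).surjective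
      (f := ((Subgroup.closure ({x, y} : Set G)).equivMapOfInjective e.toMonoidHom e.injective).toMonoidHom)
  · intro hs
    haveI := hs
    exact Group.isSolvable_of_surjective
      (f := ((Subgroup.closure ({x, y} : Set G)).equivMapOfInjective e.toMonoidHom e.injective).symm.toMonoidHom)
      (MulEquiv.surjective _)

theorem two_el_fixed (hm : 1 ≤ m) (hF : Fintype.card F = 2 ^ (2 * m + 1)) {x : Cfsg.Sz F m}
    (hx2 : 2 ∣ orderOf x) : ∃ p ∈ Cfsg.suzukiOvoid F m, x • p = p := by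
  have hx1 : x ≠ 1 := fun h => by rw [h, orderOf_one] at hx2; omega
  rcases sz_trichotomy hm hF hx1 with ⟨s, a, b, hs⟩ | ⟨s, k, hk⟩ | ⟨A, hA, hxA⟩
  · refine ⟨s • Cfsg.suzukiPointInfinity F, sz_smul_mem s infty_mem, ?_⟩
    rw [← inv_smul_eq_iff, ← mul_smul, ← mul_smul, hs, tEl_infty]
  · refine ⟨s • Cfsg.suzukiPointInfinity F, sz_smul_mem s infty_mem, ?_⟩
    rw [← inv_smul_eq_iff, ← mul_smul, ← mul_smul, ← hk, dHom_apply, dEl_infty]
  · exact absurd hx2 (utor_no_fix_inv hm hF (Or.inr hA) hxA hx1)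

theorem card_stab_pt (hm : 1 ≤ m) (hF : Fintype.card F = 2 ^ (2 * m + 1))
    {p : Projectivization F (Fin 4 → F)} (hp : p ∈ Cfsg.suzukiOvoid F m) :
    Nat.card (MulAction.stabilizer (Cfsg.Sz F m) p) =
      (2 ^ (2 * m + 1)) ^ 2 * (2 ^ (2 * m + 1) - 1) := by
  rw [← orbit_infty hF] at hp
  obtain ⟨s, rfl⟩ := hp
  rw [← card_stab_infty hm hF]
  exact (Nat.card_congr (MulAction.stabilizerEquivStabilizer (rfl :
    s • Cfsg.suzukiPointInfinity F = s • Cfsg.suzukiPointInfinity F)).toEquiv).symm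

theorem utor_reps (hm : 1 ≤ m) (hF : Fintype.card F = 2 ^ (2 * m + 1)) :
    ∃ Ap Am : Subgroup (Cfsg.Sz F m), IsTor Ap ∧ IsTor Am ∧
      Nat.card Ap = 2 ^ (2 * m + 1) + 2 ^ (m + 1) + 1 ∧
      Nat.card Am = 2 ^ (2 * m + 1) - 2 ^ (m + 1) + 1 ∧
      IsUTor hF (dSub hF) ∧ normIdx (dSub hF) = 2 ∧ normIdx Ap = 4 ∧ normIdx Am = 4 ∧
      ∀ U, IsUTor hF U →
        (∃ g : Cfsg.Sz F m, (dSub hF).map (MulAut.conj g).toMonoidHom = U) ∨
        (∃ g : Cfsg.Sz F m, Ap.map (MulAut.conj g).toMonoidHom = U) ∨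
        (∃ g : Cfsg.Sz F m, Am.map (MulAut.conj g).toMonoidHom = U) := by
  obtain ⟨Ap, Am, hAp, hAm, hcp, hcm, hall, hN⟩ := tor_summary hm hF
  refine ⟨Ap, Am, hAp, hAm, hcp, hcm, Or.inl ⟨1, (conj_one_map _).symm⟩, ?_, ?_, ?_, ?_⟩
  · have h := card_normalizer_dSub hm hF
    rw [normIdx_spec, card_dSub] at h
    have : 2 ≤ 2 ^ (2 * m + 1) := Nat.le_self_pow (by omega) 2
    exact Nat.eq_of_mul_eq_mul_right (by omega) h
  · have h := hN Ap hAp
    rw [normIdx_spec] at h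
    exact Nat.eq_of_mul_eq_mul_right Nat.card_pos h
  · have h := hN Am hAm
    rw [normIdx_spec] at h
    exact Nat.eq_of_mul_eq_mul_right Nat.card_pos h
  · rintro U (⟨s, rfl⟩ | hU)
    · exact Or.inl ⟨s, rfl⟩
    · obtain ⟨g, h | h⟩ := hall U hU
      · exact Or.inr (Or.inl ⟨g, h⟩)
      · exact Or.inr (Or.inr ⟨g, h⟩)

theorem sum_classes (hm : 1 ≤ m) (hF : Fintype.card F = 2 ^ (2 * m + 1)) {x : Cfsg.Sz F m}
    {p : Projectivization F (Fin 4 → F)} (hp : p ∈ Cfsg.suzukiOvoid F m) (hxp : x • p = p)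
    (hx1 : x ≠ 1) (hx2 : 2 ∣ orderOf x) {Ap Am : Subgroup (Cfsg.Sz F m)} (hAp : IsTor Ap) (hAm : IsTor Am)
    (hcard : Nat.card Ap ≠ Nat.card Am ∧ Nat.card (dSub (m := m) hF) ≠ Nat.card Ap ∧
      Nat.card (dSub (m := m) hF) ≠ Nat.card Am)
    (hall : ∀ U, IsUTor hF U →
        (∃ g : Cfsg.Sz F m, (dSub hF).map (MulAut.conj g).toMonoidHom = U) ∨
        (∃ g : Cfsg.Sz F m, Ap.map (MulAut.conj g).toMonoidHom = U) ∨
        (∃ g : Cfsg.Sz F m, Am.map (MulAut.conj g).toMonoidHom = U)) :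
    solCount x = (2 ^ (2 * m + 1)) ^ 2 * (2 ^ (2 * m + 1) - 1) +
      incid (dSub hF) x * (normIdx (dSub (m := m) hF) * (Nat.card (dSub (m := m) hF) - 1)) +
      incid Ap x * (normIdx Ap * (Nat.card Ap - 1)) +
      incid Am x * (normIdx Am * (Nat.card Am - 1)) := by
  classical
  haveI := Fintype.ofFinite (Subgroup (Cfsg.Sz F m))
  let cls : Subgroup (Cfsg.Sz F m) → Finset (Subgroup (Cfsg.Sz F m)) := fun U₀ =>
    Finset.univ.filter fun V => (∃ g : Cfsg.Sz F m, U₀.map (MulAut.conj g).toMonoidHom = V) ∧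
      x ∈ Subgroup.normalizer (V : Set (Cfsg.Sz F m))
  have hcls : ∀ U₀, (cls U₀).card = incid U₀ x := fun U₀ => by
    rw [incid, Nat.card_eq_fintype_card, Fintype.card_subtype]
  have hclU : ∀ U₀, IsUTor hF U₀ → ∀ V ∈ cls U₀, IsUTor hF V ∧
      x ∈ Subgroup.normalizer (V : Set (Cfsg.Sz F m)) ∧ normIdx V = normIdx U₀ ∧
      Nat.card V = Nat.card U₀ := by
    intro U₀ hU₀ V hV
    obtain ⟨⟨g, rfl⟩, hxV⟩ := (Finset.mem_filter.mp hV).2
    refine ⟨utor_conj hF hU₀ g, hxV, ?_, card_conj _ g⟩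
    have h := card_conj_normalizer U₀ g
    rw [normIdx_spec, normIdx_spec, card_conj] at h
    exact Nat.eq_of_mul_eq_mul_right Nat.card_pos h
  set part : Subgroup (Cfsg.Sz F m) → Finset (Cfsg.Sz F m) := fun V =>
    Finset.univ.filter fun y => y ∈ Subgroup.normalizer (V : Set (Cfsg.Sz F m)) ∧ ¬ y • p = p
  have hpart : ∀ V, IsUTor hF V → x ∈ Subgroup.normalizer (V : Set (Cfsg.Sz F m)) →
      (part V).card = normIdx V * (Nat.card V - 1) := by
    intro V hV hxV
    have h1 := Finset.card_filter_add_card_filter_not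
      (s := Finset.univ.filter fun y => y ∈ Subgroup.normalizer (V : Set (Cfsg.Sz F m)))
      (fun y : Cfsg.Sz F m => y • p = p)
    rw [Finset.filter_filter, Finset.filter_filter] at h1
    have h2 : (Finset.univ.filter fun y : Cfsg.Sz F m =>
        y ∈ Subgroup.normalizer (V : Set (Cfsg.Sz F m)) ∧ y • p = p).card = normIdx V := by
      rw [← card_norm_stab hm hF hV hxV hx1 hx2 hp hxp, ← Fintype.card_subtype,
        ← Nat.card_eq_fintype_card]
      exact Nat.card_congr (Equiv.subtypeEquivRight fun y => by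
        simp [Subgroup.mem_inf, MulAction.mem_stabilizer_iff])
    have h3 : (Finset.univ.filter fun y : Cfsg.Sz F m =>
        y ∈ Subgroup.normalizer (V : Set (Cfsg.Sz F m))).card = normIdx V * Nat.card V := by
      rw [← normIdx_spec, ← Fintype.card_subtype, ← Nat.card_eq_fintype_card]
    rw [h2, h3] at h1
    rw [Nat.mul_sub, mul_one]
    show (Finset.univ.filter fun y : Cfsg.Sz F m =>
        y ∈ Subgroup.normalizer (V : Set (Cfsg.Sz F m)) ∧ ¬ y • p = p).card = _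
    omega
  have hdisj : ∀ V W, IsUTor hF V → IsUTor hF W → x ∈ Subgroup.normalizer (V : Set (Cfsg.Sz F m)) →
      x ∈ Subgroup.normalizer (W : Set (Cfsg.Sz F m)) → V ≠ W → Disjoint (part V) (part W) := by
    intro V W hV hW hxV hxW hne
    rw [Finset.disjoint_left]
    intro y hy hy'
    obtain ⟨hyV, hyp⟩ := (Finset.mem_filter.mp hy).2
    obtain ⟨hyW, -⟩ := (Finset.mem_filter.mp hy').2
    have hc := inter_norm_commute hm hF hV hW hne hxV hxW hyV hyW
    apply hyp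
    refine (sz_fixes_two hm hF hx1 hx2 hp (sz_smul_mem y hp) hxp ?_).symm
    rw [← mul_smul, hc, mul_smul, hxp]
  set Us := cls (dSub hF) ∪ cls Ap ∪ cls Am
  have hUd : IsUTor hF (dSub (m := m) hF) := Or.inl ⟨1, (conj_one_map _).symm⟩
  have hUs : ∀ V ∈ Us, IsUTor hF V ∧ x ∈ Subgroup.normalizer (V : Set (Cfsg.Sz F m)) := by
    intro V hV
    simp only [Us, Finset.mem_union] at hV
    rcases hV with (h | h) | h
    · exact ⟨(hclU _ hUd V h).1, (hclU _ hUd V h).2.1⟩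
    · exact ⟨(hclU _ (Or.inr hAp) V h).1, (hclU _ (Or.inr hAp) V h).2.1⟩
    · exact ⟨(hclU _ (Or.inr hAm) V h).1, (hclU _ (Or.inr hAm) V h).2.1⟩
  have hset : Finset.univ.filter (fun y : Cfsg.Sz F m =>
      Group.IsSolvable (Subgroup.closure ({x, y} : Set (Cfsg.Sz F m)))) =
      Finset.univ.filter (fun y : Cfsg.Sz F m => y • p = p) ∪ Us.biUnion part := by
    ext y
    simp only [Finset.mem_filter, Finset.mem_univ, true_and, Finset.mem_union, Finset.mem_biUnion,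
      solub_iff hm hF, part]
    constructor
    · rintro (⟨p', hp', hxp', hyp'⟩ | ⟨U, hU, hxU, hyU⟩)
      · obtain rfl := sz_fixes_two hm hF hx1 hx2 hp hp' hxp hxp'
        exact Or.inl hyp'
      · by_cases hyp : y • p = p
        · exact Or.inl hyp
        · refine Or.inr ⟨U, ?_, hyU, hyp⟩
          simp only [Us, cls, Finset.mem_union, Finset.mem_filter, Finset.mem_univ, true_and]
          rcases hall U hU with h | h | h
          · exact Or.inl (Or.inl ⟨h, hxU⟩)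
          · exact Or.inl (Or.inr ⟨h, hxU⟩)
          · exact Or.inr ⟨h, hxU⟩
    · rintro (h | ⟨V, hV, hyV, -⟩)
      · exact Or.inl ⟨p, hp, hxp, h⟩
      · exact Or.inr ⟨V, (hUs V hV).1, (hUs V hV).2, hyV⟩
  have hc := congrArg Finset.card hset
  rw [← Fintype.card_subtype, ← Nat.card_eq_fintype_card] at hc
  rw [solCount, hc, Finset.card_union_of_disjoint (by
    rw [Finset.disjoint_left]
    intro y hy hy'
    obtain ⟨V, -, hyV⟩ := Finset.mem_biUnion.mp hy'
    exact (Finset.mem_filter.mp hyV).2.2 (Finset.mem_filter.mp hy).2),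
    Finset.card_biUnion (fun V hV W hW hne =>
      hdisj V W (hUs V hV).1 (hUs W hW).1 (hUs V hV).2 (hUs W hW).2 hne)]
  have hB : (Finset.univ.filter fun y : Cfsg.Sz F m => y • p = p).card =
      (2 ^ (2 * m + 1)) ^ 2 * (2 ^ (2 * m + 1) - 1) := by
    rw [← Fintype.card_subtype, ← Nat.card_eq_fintype_card, ← card_stab_pt hm hF hp]
    exact Nat.card_congr (Equiv.subtypeEquivRight fun y => MulAction.mem_stabilizer_iff.symm)
  have hd : ∀ A B, IsUTor hF A → IsUTor hF B → Nat.card A ≠ Nat.card B →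
      Disjoint (cls A) (cls B) := by
    intro A B hA hB hne
    rw [Finset.disjoint_left]
    intro V hV hV'
    exact hne ((hclU A hA V hV).2.2.2.symm.trans (hclU B hB V hV').2.2.2)
  rw [hB, Finset.sum_union (Finset.disjoint_union_left.mpr
      ⟨hd _ _ hUd (Or.inr hAm) hcard.2.2, hd _ _ (Or.inr hAp) (Or.inr hAm) hcard.1⟩),
    Finset.sum_union (hd _ _ hUd (Or.inr hAp) hcard.2.1)]
  have hs : ∀ U₀, IsUTor hF U₀ → ∑ V ∈ cls U₀, (part V).card =
      incid U₀ x * (normIdx U₀ * (Nat.card U₀ - 1)) := by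
    intro U₀ hU₀
    rw [← hcls, ← smul_eq_mul, ← Finset.sum_const]
    refine Finset.sum_congr rfl fun V hV => ?_
    obtain ⟨h1, h2, h3, h4⟩ := hclU U₀ hU₀ V hV
    rw [hpart V h1 h2, h3, h4]
  rw [hs _ hUd, hs _ (Or.inr hAp), hs _ (Or.inr hAm)]
  ring

theorem arith_two (q r a b c : ℕ) (hrq : r ≤ q) (hq : 3 ≤ q) (e1 : a * 2 = q ^ 2) (e2 : b * 4 = q ^ 2)
    (e3 : c * 4 = q ^ 2) :
    q ^ 2 * (q - 1) + a * (2 * (q - 1 - 1)) + b * (4 * (q + r)) + c * (4 * (q - r)) =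
      q ^ 2 * (4 * q - 3) := by
  zify [show 1 ≤ q by omega, show 1 ≤ q - 1 by omega, hrq, show 3 ≤ 4 * q by omega] at e1 e2 e3 ⊢
  linear_combination ((q : ℤ) - 2) * e1 + ((q : ℤ) + r) * e2 + ((q : ℤ) - r) * e3

theorem arith_four (q r a b c : ℕ) (hrq : r ≤ q) (hq : 3 ≤ q) (e1 : a * 2 * q = (2 - 2) * q ^ 2)
    (e2 : b * 4 * q = (4 - 2) * q ^ 2) (e3 : c * 4 * q = (4 - 2) * q ^ 2) :
    q ^ 2 * (q - 1) + a * (2 * (q - 1 - 1)) + b * (4 * (q + r)) + c * (4 * (q - r)) =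
      q ^ 2 * (q + 3) := by
  have ha : a = 0 := by simpa [show q ≠ 0 by omega] using e1
  subst ha
  apply Nat.eq_of_mul_eq_mul_left (show 0 < q by omega)
  norm_num at e2 e3
  zify [show 1 ≤ q by omega, hrq] at e2 e3 ⊢
  push_cast
  linear_combination ((q : ℤ) + r) * e2 + ((q : ℤ) - r) * e3

theorem solub_two (hm : 1 ≤ m) (hF : Fintype.card F = 2 ^ (2 * m + 1)) {x : Cfsg.Sz F m} :
    (orderOf x = 2 → solCount x = (2 ^ (2 * m + 1)) ^ 2 * (4 * 2 ^ (2 * m + 1) - 3)) ∧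
      (orderOf x = 4 → solCount x = (2 ^ (2 * m + 1)) ^ 2 * (2 ^ (2 * m + 1) + 3)) := by
  obtain ⟨Ap, Am, hAp, hAm, hcp, hcm, hUd, hkd, hkp, hkm, hall⟩ := utor_reps hm hF
  have hr4 : 4 ≤ 2 ^ (m + 1) := by
    have : 2 ^ 2 ≤ 2 ^ (m + 1) := Nat.pow_le_pow_right (by norm_num) (by omega)
    omega
  have hrq := r_le_q m
  have hcard : Nat.card Ap ≠ Nat.card Am ∧ Nat.card (dSub (m := m) hF) ≠ Nat.card Ap ∧
      Nat.card (dSub (m := m) hF) ≠ Nat.card Am := by
    rw [hcp, hcm, card_dSub]; omega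
  have key : 2 ∣ orderOf x → solCount x = (2 ^ (2 * m + 1)) ^ 2 * (2 ^ (2 * m + 1) - 1) +
      incid (dSub hF) x * (2 * (2 ^ (2 * m + 1) - 1 - 1)) +
      incid Ap x * (4 * (2 ^ (2 * m + 1) + 2 ^ (m + 1))) +
      incid Am x * (4 * (2 ^ (2 * m + 1) - 2 ^ (m + 1))) := by
    intro h2
    have hx1 : x ≠ 1 := fun h => by rw [h, orderOf_one] at h2; omega
    obtain ⟨p, hp, hxp⟩ := two_el_fixed hm hF h2
    rw [sum_classes hm hF hp hxp hx1 h2 hAp hAm hcard hall, hkd, hkp, hkm, card_dSub, hcp, hcm,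
      Nat.add_sub_cancel, Nat.add_sub_cancel]
  have hq8 : 8 ≤ 2 ^ (2 * m + 1) := by
    have : 2 ^ 3 ≤ 2 ^ (2 * m + 1) := Nat.pow_le_pow_right (by norm_num) (by omega)
    omega
  constructor
  · intro h
    have e1 := incid_two hm hF hUd h
    have e2 := incid_two hm hF (Or.inr hAp) h
    have e3 := incid_two hm hF (Or.inr hAm) h
    rw [hkd] at e1; rw [hkp] at e2; rw [hkm] at e3
    rw [key (by rw [h])]
    exact arith_two _ _ _ _ _ hrq (by omega) e1 e2 e3
  · intro h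
    have e1 := incid_four hm hF hUd h
    have e2 := incid_four hm hF (Or.inr hAp) h
    have e3 := incid_four hm hF (Or.inr hAm) h
    rw [hkd] at e1; rw [hkp] at e2; rw [hkm] at e3
    rw [key (by rw [h]; norm_num)]
    exact arith_four _ _ _ _ _ hrq (by omega) e1 e2 e3

theorem only_self (hm : 1 ≤ m) (hF : Fintype.card F = 2 ^ (2 * m + 1))
    {U V : Subgroup (Cfsg.Sz F m)} (hU : IsUTor hF U) (hV : IsUTor hF V) {x : Cfsg.Sz F m}
    (hxU : x ∈ U) (hx1 : x ≠ 1) (hxV : x ∈ Subgroup.normalizer (V : Set (Cfsg.Sz F m))) : V = U := by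
  by_cases h : x ∈ V
  · exact utor_ti hm hF hV hU h hxU hx1
  · exact absurd (norm_notMem hm hF hV hxV h).1 (utor_no_fix_inv hm hF hU hxU hx1)

theorem solub_tor (hm : 1 ≤ m) (hF : Fintype.card F = 2 ^ (2 * m + 1))
    {A : Subgroup (Cfsg.Sz F m)} (hA : IsTor A) {x : Cfsg.Sz F m} (hxA : x ∈ A) (hx1 : x ≠ 1) :
    solCount x = 4 * Nat.card A := by
  obtain ⟨Ap, Am, -, -, -, -, -, hN⟩ := tor_summary hm hF
  rw [← hN A hA]
  refine Nat.card_congr (Equiv.subtypeEquivRight fun y => ?_)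
  rw [solub_iff hm hF]
  constructor
  · rintro (⟨p, hp, hxp, -⟩ | ⟨U, hU, hxU, hyU⟩)
    · exfalso
      have h1 := Subgroup.orderOf_dvd_natCard _ (MulAction.mem_stabilizer_iff.mpr hxp)
      rw [card_stab_pt hm hF hp] at h1
      have h2 := (Subgroup.orderOf_dvd_natCard _ hxA).trans (tor_dvd hm hF hA)
      have hn : orderOf x ≠ 1 := fun h => hx1 (orderOf_eq_one_iff.mp h)
      have hp' := Nat.minFac_prime hn
      rcases hp'.dvd_mul.mp ((Nat.minFac_dvd _).trans h1) with h | h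
      · have e := (Nat.prime_dvd_prime_iff_eq hp' Nat.prime_two).mp
          (hp'.dvd_of_dvd_pow (hp'.dvd_of_dvd_pow h))
        exact utor_no_fix_inv hm hF (Or.inr hA) hxA hx1 (e ▸ Nat.minFac_dvd _)
      · exact not_dvd_both hp' h ((Nat.minFac_dvd _).trans h2)
    · rwa [only_self hm hF (Or.inr hA) hU hxA hx1 hxU] at hyU
  · exact fun hy => Or.inr ⟨A, Or.inr hA, Subgroup.le_normalizer hxA, hy⟩

theorem solub_dEl (hm : 1 ≤ m) (hF : Fintype.card F = 2 ^ (2 * m + 1)) {k : Fˣ} (hk : k ≠ 1) :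
    solCount (dEl hF k) = 2 * (2 ^ (2 * m + 1)) ^ 2 * (2 ^ (2 * m + 1) - 1) := by
  classical
  have hx1 : dEl hF k ≠ 1 := fun h => hk (dHom_injective hF (h.trans (dEl_one hF).symm))
  have hUd : IsUTor hF (dSub (m := m) hF) := Or.inl ⟨1, (conj_one_map _).symm⟩
  have hxD : dEl hF k ∈ dSub (m := m) hF := ⟨k, rfl⟩
  have hset : Finset.univ.filter (fun y : Cfsg.Sz F m =>
      Group.IsSolvable (Subgroup.closure ({dEl hF k, y} : Set (Cfsg.Sz F m)))) =
      ((Finset.univ.filter fun y : Cfsg.Sz F m =>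
          y • Cfsg.suzukiPointInfinity F = Cfsg.suzukiPointInfinity F) ∪
        (Finset.univ.filter fun y : Cfsg.Sz F m => y • ovPt m (0 : F) 0 = ovPt m (0 : F) 0)) ∪
        (Finset.univ.filter fun y : Cfsg.Sz F m => wEl hF * y ∈ dSub hF) := by
    ext y
    simp only [Finset.mem_filter, Finset.mem_univ, true_and, Finset.mem_union, solub_iff hm hF]
    constructor
    · rintro (⟨p, hp, hxp, hyp⟩ | ⟨U, hU, hxU, hyU⟩)
      · rcases dEl_fixed hm hF hk hp hxp with rfl | rfl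
        · exact Or.inl (Or.inl hyp)
        · exact Or.inl (Or.inr hyp)
      · rw [only_self hm hF hUd hU hxD hx1 hxU] at hyU
        rcases dSub_ti hm hF hk ((Subgroup.mem_normalizer_iff.mp hyU _).mp hxD) with h | h
        · obtain ⟨l, rfl⟩ := h
          exact Or.inl (Or.inl (dEl_infty hF l))
        · exact Or.inr h
    · rintro ((h | h) | h)
      · exact Or.inl ⟨_, infty_mem, dEl_infty hF k, h⟩
      · exact Or.inl ⟨_, ovPt_mem 0 0, dEl_ovPt_zero hF k, h⟩
      · refine Or.inr ⟨dSub hF, hUd, Subgroup.le_normalizer hxD, ?_⟩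
        rw [show y = wEl hF * (wEl hF * y) by rw [← mul_assoc, wEl_mul_self, one_mul]]
        exact mul_mem (wEl_normalizes hF) (Subgroup.le_normalizer h)
  have hc := congrArg Finset.card hset
  rw [← Fintype.card_subtype, ← Nat.card_eq_fintype_card] at hc
  rw [solCount, hc, Finset.card_union_of_disjoint]
  swap
  · rw [Finset.disjoint_left]
    intro y hy hy'
    simp only [Finset.mem_filter, Finset.mem_univ, true_and, Finset.mem_union] at hy hy'
    obtain ⟨l, hl⟩ := hy'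
    have he : y = wEl hF * dEl hF l := by
      rw [show dEl hF l = wEl hF * y from hl, ← mul_assoc, wEl_mul_self, one_mul]
    rw [he] at hy
    rcases hy with h | h <;> rw [mul_smul] at h
    · rw [dEl_infty, wEl_infty] at h; exact ovPt_ne_infty 0 0 h
    · rw [dEl_ovPt_zero, wEl_ovPt_zero] at h; exact ovPt_ne_infty 0 0 h.symm
  have e1 : ∀ (P : Cfsg.Sz F m → Prop) [DecidablePred P],
      (Finset.univ.filter P).card = Nat.card {g // P g} := fun P _ => by
    rw [Nat.card_eq_fintype_card, Fintype.card_subtype]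
  have hB : ∀ p ∈ Cfsg.suzukiOvoid F m, (Finset.univ.filter fun y : Cfsg.Sz F m => y • p = p).card =
      (2 ^ (2 * m + 1)) ^ 2 * (2 ^ (2 * m + 1) - 1) := by
    intro p hp
    rw [e1, ← card_stab_pt hm hF hp]
    exact Nat.card_congr (Equiv.subtypeEquivRight fun y => MulAction.mem_stabilizer_iff.symm)
  have hI : ((Finset.univ.filter fun y : Cfsg.Sz F m =>
        y • Cfsg.suzukiPointInfinity F = Cfsg.suzukiPointInfinity F) ∩
      (Finset.univ.filter fun y : Cfsg.Sz F m => y • ovPt m (0 : F) 0 = ovPt m (0 : F) 0)).card =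
      2 ^ (2 * m + 1) - 1 := by
    rw [← Finset.filter_and, e1, ← card_dSub (m := m) hF]
    refine Nat.card_congr (Equiv.subtypeEquivRight fun y => ⟨fun h => ?_, ?_⟩)
    · obtain ⟨l, rfl⟩ := fix_two hm hF y h.1 h.2
      exact ⟨l, rfl⟩
    · rintro ⟨l, rfl⟩
      exact ⟨dEl_infty hF l, dEl_ovPt_zero hF l⟩
  have hW : (Finset.univ.filter fun y : Cfsg.Sz F m => wEl hF * y ∈ dSub hF).card =
      2 ^ (2 * m + 1) - 1 := by
    rw [e1, ← card_dSub (m := m) hF]
    exact Nat.card_congr ((Equiv.mulLeft (wEl hF)).subtypeEquiv fun y => Iff.rfl)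
  have hu := Finset.card_union_add_card_inter
    (Finset.univ.filter fun y : Cfsg.Sz F m =>
        y • Cfsg.suzukiPointInfinity F = Cfsg.suzukiPointInfinity F)
    (Finset.univ.filter fun y : Cfsg.Sz F m => y • ovPt m (0 : F) 0 = ovPt m (0 : F) 0)
  rw [hB _ infty_mem, hB _ (ovPt_mem 0 0), hI] at hu
  rw [hW, mul_assoc]
  omega

theorem solub_split (hm : 1 ≤ m) (hF : Fintype.card F = 2 ^ (2 * m + 1)) {x : Cfsg.Sz F m}
    (hx1 : x ≠ 1) (hd : orderOf x ∣ 2 ^ (2 * m + 1) - 1) :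
    solCount x = 2 * (2 ^ (2 * m + 1)) ^ 2 * (2 ^ (2 * m + 1) - 1) := by
  have hn : orderOf x ≠ 1 := fun h => hx1 (orderOf_eq_one_iff.mp h)
  rcases sz_trichotomy hm hF hx1 with ⟨s, hs⟩ | ⟨s, k, hk⟩ | ⟨A, hA, hxA⟩
  · exfalso
    have h1 := Subgroup.orderOf_dvd_natCard _ hs
    have e := orderOf_conj s⁻¹ x
    rw [inv_inv] at e
    rw [e, card_tSub, ← pow_mul] at h1
    have hp := Nat.minFac_prime hn
    have h2 := (Nat.prime_dvd_prime_iff_eq hp Nat.prime_two).mp
      (hp.dvd_of_dvd_pow ((Nat.minFac_dvd _).trans h1))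
    have h3 := h2 ▸ (Nat.minFac_dvd (orderOf x)).trans hd
    have := q_even m
    have : 1 ≤ 2 ^ (2 * m + 1) := Nat.one_le_two_pow
    omega
  · have hk1 : k ≠ 1 := fun h => hx1 (by
      rw [h, map_one, eq_comm, mul_assoc, inv_mul_eq_one, right_eq_mul] at hk
      exact hk)
    rw [show x = MulAut.conj s (dEl hF k) by
      rw [show dEl hF k = s⁻¹ * x * s from hk, MulAut.conj_apply]; group,
      solCount_map, solub_dEl hm hF hk1]
  · exact (not_dvd_both (Nat.minFac_prime hn) ((Nat.minFac_dvd _).trans hd)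
      ((Nat.minFac_dvd _).trans
        ((Subgroup.orderOf_dvd_natCard _ hxA).trans (tor_dvd hm hF hA)))).elim

theorem tor_coprime (m : ℕ) :
    Nat.Coprime (2 ^ (2 * m + 1) + 2 ^ (m + 1) + 1) (2 ^ (2 * m + 1) - 2 ^ (m + 1) + 1) := by
  have hr := r_le_q m
  have hodd : ¬ 2 ∣ 2 ^ (2 * m + 1) + 2 ^ (m + 1) + 1 := by
    have := q_even m
    have : 2 ∣ 2 ^ (m + 1) := dvd_pow_self 2 (by omega)
    omega
  refine Nat.coprime_of_dvd fun p hp h1 h2 => ?_
  have h3 := Nat.dvd_sub h1 h2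
  rw [show 2 ^ (2 * m + 1) + 2 ^ (m + 1) + 1 - (2 ^ (2 * m + 1) - 2 ^ (m + 1) + 1) =
    2 ^ 1 * 2 ^ (m + 1) by omega, ← pow_add] at h3
  have := (Nat.prime_dvd_prime_iff_eq hp Nat.prime_two).mp (hp.dvd_of_dvd_pow h3)
  exact hodd (this ▸ h1)

theorem tor_of_dvd (hm : 1 ≤ m) (hF : Fintype.card F = 2 ^ (2 * m + 1)) {x : Cfsg.Sz F m}
    (hx1 : x ≠ 1) (hd : orderOf x ∣ (2 ^ (2 * m + 1)) ^ 2 + 1) :
    ∃ A, IsTor A ∧ x ∈ A := by
  have hn : orderOf x ≠ 1 := fun h => hx1 (orderOf_eq_one_iff.mp h)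
  rcases sz_trichotomy hm hF hx1 with ⟨s, hs⟩ | ⟨s, k, hk⟩ | h
  · exfalso
    have h1 := Subgroup.orderOf_dvd_natCard _ hs
    have e := orderOf_conj s⁻¹ x
    rw [inv_inv] at e
    rw [e, card_tSub, ← pow_mul] at h1
    have hp := Nat.minFac_prime hn
    have h2 := (Nat.prime_dvd_prime_iff_eq hp Nat.prime_two).mp
      (hp.dvd_of_dvd_pow ((Nat.minFac_dvd _).trans h1))
    have h3 := h2 ▸ (Nat.minFac_dvd (orderOf x)).trans hd
    have : 2 ∣ (2 ^ (2 * m + 1)) ^ 2 := dvd_pow (q_even m) two_ne_zero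
    omega
  · exfalso
    have h1 : orderOf (s⁻¹ * x * s) ∣ 2 ^ (2 * m + 1) - 1 :=
      card_dSub (m := m) hF ▸ Subgroup.orderOf_dvd_natCard _ ⟨k, hk⟩
    have e := orderOf_conj s⁻¹ x
    rw [inv_inv] at e
    rw [e] at h1
    exact not_dvd_both (Nat.minFac_prime hn) ((Nat.minFac_dvd _).trans h1)
      ((Nat.minFac_dvd _).trans hd)
  · exact h

theorem solub_torus_order (hm : 1 ≤ m) (hF : Fintype.card F = 2 ^ (2 * m + 1)) {x : Cfsg.Sz F m}
    (hx1 : x ≠ 1) :
    (orderOf x ∣ 2 ^ (2 * m + 1) + 2 ^ (m + 1) + 1 →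
      solCount x = 4 * (2 ^ (2 * m + 1) + 2 ^ (m + 1) + 1)) ∧
    (orderOf x ∣ 2 ^ (2 * m + 1) - 2 ^ (m + 1) + 1 →
      solCount x = 4 * (2 ^ (2 * m + 1) - 2 ^ (m + 1) + 1)) := by
  have hn : orderOf x ≠ 1 := fun h => hx1 (orderOf_eq_one_iff.mp h)
  obtain ⟨Ap, Am, hAp, hAm, hcp, hcm, hall, -⟩ := tor_summary hm hF
  have hr := r_le_q m
  have hr2 := r_sq m
  have hprod : (2 ^ (2 * m + 1) + 2 ^ (m + 1) + 1) * (2 ^ (2 * m + 1) - 2 ^ (m + 1) + 1) =
      (2 ^ (2 * m + 1)) ^ 2 + 1 := by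
    generalize 2 ^ (2 * m + 1) = q at *
    generalize 2 ^ (m + 1) = r at *
    zify [hr] at hr2 ⊢
    linear_combination -hr2
  constructor
  · intro hd
    obtain ⟨A, hA, hxA⟩ := tor_of_dvd hm hF hx1 (hprod ▸ dvd_mul_of_dvd_left hd _)
    have hA' := Subgroup.orderOf_dvd_natCard _ hxA
    obtain ⟨g, h | h⟩ := hall A hA
    · rw [solub_tor hm hF hA hxA hx1, ← h, card_conj, hcp]
    · exfalso
      rw [← h, card_conj, hcm] at hA'
      exact hn (Nat.dvd_one.mp ((tor_coprime m) ▸ Nat.dvd_gcd hd hA'))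
  · intro hd
    obtain ⟨A, hA, hxA⟩ := tor_of_dvd hm hF hx1 (hprod ▸ dvd_mul_of_dvd_right hd _)
    have hA' := Subgroup.orderOf_dvd_natCard _ hxA
    obtain ⟨g, h | h⟩ := hall A hA
    · exfalso
      rw [← h, card_conj, hcp] at hA'
      exact hn (Nat.dvd_one.mp ((tor_coprime m) ▸ Nat.dvd_gcd hA' hd))
    · rw [solub_tor hm hF hA hxA hx1, ← h, card_conj, hcm]

end H57
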