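import Cfsg.Agent.H57.SzFixity
import Cfsg.Agent.H57.SzClassSquare
import Cfsg.Agent.H57.SzAut
import Cfsg.Agent.H57.BinaryTri
import Cfsg.Agent.H57.SzSolub

/-!
Binary coset actions of the Suzuki group.
-/

set_option autoImplicit false

namespace H57

open scoped Pointwise commutatorElement

variable {F : Type*} [Field F] [Fintype F] {m : ℕ}

/-- The centre of the Sylow `2`-subgroup `{T(a,b)}`, inside the whole group. -/
def zc (hF : Fintype.card F = 2 ^ (2 * m + 1)) : Subgroup (Cfsg.Sz F m) :=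
  (zSub (m := m) hF).map (tSub (m := m) hF).subtype

theorem mem_zc (hF : Fintype.card F = 2 ^ (2 * m + 1)) {x : Cfsg.Sz F m} :
    x ∈ zc hF ↔ ∃ b, x = tEl hF 0 b :=
  ⟨fun ⟨_, ⟨b, hb⟩, e⟩ => ⟨b, e ▸ hb⟩,
    fun ⟨b, hb⟩ => ⟨⟨x, hb ▸ tEl_mem_tSub hF 0 b⟩, ⟨b, hb⟩, rfl⟩⟩

theorem tEl_mem_zc (hF : Fintype.card F = 2 ^ (2 * m + 1)) (b : F) : tEl hF 0 b ∈ zc hF :=
  (mem_zc hF).mpr ⟨b, rfl⟩

theorem zc_le_tSub (hF : Fintype.card F = 2 ^ (2 * m + 1)) : zc hF ≤ tSub (m := m) hF :=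
  Subgroup.map_subtype_le _

theorem zc_exponent (hF : Fintype.card F = 2 ^ (2 * m + 1)) {x : Cfsg.Sz F m} (hx : x ∈ zc hF) :
    x * x = 1 := by
  obtain ⟨b, rfl⟩ := (mem_zc hF).mp hx
  rw [tEl_mul, th_zero, zero_mul, add_zero, add_zero, add_self_zero hF, tEl_zero]

theorem tSub_ti (hF : Fintype.card F = 2 ^ (2 * m + 1)) {s x : Cfsg.Sz F m}
    (hx : x ∈ tSub hF) (hx1 : x ≠ 1) (hs : s⁻¹ * x * s ∈ tSub hF) :
    s • Cfsg.suzukiPointInfinity F = Cfsg.suzukiPointInfinity F := by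
  obtain ⟨a, b, rfl⟩ := hx
  obtain ⟨c, d, he⟩ := hs
  refine tEl_unique_fixed hF hx1 (sz_smul_mem s infty_mem) ?_
  rw [← inv_smul_eq_iff, ← mul_smul, ← mul_smul, he, tEl_infty]

theorem stab_conj_zc (hm : 1 ≤ m) (hF : Fintype.card F = 2 ^ (2 * m + 1)) {s x : Cfsg.Sz F m}
    (hs : s • Cfsg.suzukiPointInfinity F = Cfsg.suzukiPointInfinity F) (hx : x ∈ zc hF) :
    s * x * s⁻¹ ∈ zc hF := by
  obtain ⟨a, b, k, rfl⟩ := fix_infty hm hF s hs
  obtain ⟨c, rfl⟩ := (mem_zc hF).mp hx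
  refine (mem_zc hF).mpr ⟨th m (k : F) * k * c, ?_⟩
  rw [mul_inv_eq_iff_eq_mul, mul_assoc (tEl hF a b), dEl_tEl, mul_zero, ← mul_assoc,
    center_commute, mul_assoc]

theorem zc_binary (hm : 1 ≤ m) (hF : Fintype.card F = 2 ^ (2 * m + 1)) :
    IsBinaryCoset (zc (m := m) hF) := by
  refine isBinaryCoset_of_exponent_two (fun x hx => zc_exponent hF hx) ?_
  intro s t x y hx hy hx1 hy1 hxy z hz
  obtain ⟨c, hc⟩ := (mem_zc hF).mp hx
  have hc0 : c ≠ 0 := by
    rintro rfl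
    rw [tEl_zero, mul_assoc, inv_mul_eq_one, right_eq_mul] at hc
    exact hx1 hc
  have hyT : s⁻¹ * y * s ∈ tSub hF := by
    rw [← centralizer_tEl_zero hm hF hc0, ← hc, Subgroup.mem_centralizer_singleton_iff]
    calc s⁻¹ * y * s * (s⁻¹ * x * s) = s⁻¹ * (y * x) * s := by group
      _ = s⁻¹ * (x * y) * s := by rw [hxy]
      _ = _ := by group
  have hu : (t⁻¹ * s) • Cfsg.suzukiPointInfinity F = Cfsg.suzukiPointInfinity F := by
    refine tSub_ti hF (zc_le_tSub hF hy) (fun h => hy1 ?_) ?_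
    · rwa [mul_assoc, inv_mul_eq_one, right_eq_mul] at h
    · convert hyT using 1; group
  have h := stab_conj_zc hm hF hu hz
  convert h using 1
  group

theorem isSS_of_odd (hF : Fintype.card F = 2 ^ (2 * m + 1)) {u : Cfsg.Sz F m} (hu1 : u ≠ 1)
    (hodd : ¬ 2 ∣ orderOf u) : IsSS hF u := by
  rintro s ⟨a, b, h⟩
  have ho : orderOf u = orderOf (tEl hF a b) := by
    rw [← h]
    have := orderOf_conj s⁻¹ u
    rw [inv_inv] at this
    exact this.symm
  obtain ⟨i, -, hi⟩ := (Nat.dvd_prime_pow Nat.prime_two).mp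
    (show orderOf (tEl hF a b) ∣ 2 ^ 2 from orderOf_dvd_of_pow_eq_one (tEl_pow' hF _ _))
  rcases Nat.eq_zero_or_pos i with h0 | h0
  · exact hu1 (orderOf_eq_one_iff.mp (by rw [ho, hi, h0, pow_zero]))
  · exact hodd (by rw [ho, hi]; exact dvd_pow_self 2 h0.ne')

theorem inter_ne_top {G : Type*} [Group G] [Finite G] {R H : Subgroup G} (h : R ≤ H)
    (hH : H ≠ ⊤) : R ≠ ⊤ := fun e => hH (eq_top_iff.mpr (e ▸ h))

/-- No nontrivial intersection of conjugates has odd order. -/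
theorem odd_inter_false (hm : 1 ≤ m) (hF : Fintype.card F = 2 ^ (2 * m + 1))
    {H R₀ : Subgroup (Cfsg.Sz F m)} (hB : IsBinaryCoset H) (h0 : IsInter H R₀) (hne : R₀ ≠ ⊥)
    (hodd : ¬ 2 ∣ Nat.card R₀) : False := by
  obtain ⟨R, hle, hR, hRne, -⟩ := exists_minimal_inter h0 hne
  obtain ⟨U, hU, hRU⟩ := odd_subgroup_in_torus hm hF
    (fun h => hodd (h.trans (Subgroup.card_dvd_of_le hle))) hRne
  obtain ⟨⟨u, hu⟩, hu1⟩ := Subgroup.ne_bot_iff_exists_ne_one.mp hRne
  replace hu1 : u ≠ 1 := fun h => hu1 (Subtype.ext h)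
  have hT : mtr u ≠ 0 := (mtr_classify hm hF).1 u hu1
    (isSS_of_odd hF hu1 (utor_no_fix_inv hm hF hU (hRU hu) hu1))
  obtain ⟨y, g', hg', e1, e2, hne'⟩ := ss_pair hm hF hT hT
  obtain ⟨σ, hσ⟩ := isConj_iff.mp hg'
  set b := σ * y⁻¹ * σ⁻¹ with hb
  set c := σ * (y * g') * σ⁻¹ with hc
  obtain ⟨p, hp⟩ := isConj_iff.mp ((mtr_classify hm hF).2 u b hT
    (by rw [hb, mtr_conj, mtr_inv hm hF, e1]))
  obtain ⟨r, hr⟩ := isConj_iff.mp ((mtr_classify hm hF).2 u c hT (by rw [hc, mtr_conj, e2]))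
  have hbc : u = b * c := by rw [← hσ, hb, hc]; group
  have hbU : b ∉ U := fun hbU => by
    have h := comm_of_cyclic (utor_comm hm hF hU) hbU (hRU hu)
    rw [← hσ, hb] at h
    have h' : y⁻¹ * g' = g' * y⁻¹ := by
      calc y⁻¹ * g' = σ⁻¹ * (σ * y⁻¹ * σ⁻¹ * (σ * g' * σ⁻¹)) * σ := by group
        _ = σ⁻¹ * (σ * g' * σ⁻¹ * (σ * y⁻¹ * σ⁻¹)) * σ := by rw [h]
        _ = _ := by group
    refine hne' ?_
    calc y * g' = y * (g' * y⁻¹) * y := by group
      _ = y * (y⁻¹ * g') * y := by rw [h']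
      _ = _ := by group
  set B := R.map (MulAut.conj p).toMonoidHom
  set C := R.map (MulAut.conj r).toMonoidHom
  have hbB : b ∈ B := hp ▸ mem_map_conj p hu
  have hcC : c ∈ C := hr ▸ mem_map_conj r hu
  have hAB : R ⊓ B = ⊥ := by
    rw [eq_bot_iff]
    rintro x ⟨hx, hx'⟩
    rw [Subgroup.mem_bot]
    by_contra hx1
    exact hbU ((utor_ti hm hF hU (utor_conj hF hU p) (hRU hx) (Subgroup.map_mono hRU hx') hx1).symm ▸
      Subgroup.map_mono hRU hbB)
  have huC := hB.triangle_bot hR (hR.conj p) (hR.conj r) hAB hu hbB hcC hbc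
  have hUC := utor_ti hm hF hU (utor_conj hF hU r) (hRU hu) (Subgroup.map_mono hRU huC) hu1
  have hcU : c ∈ U := hUC.symm ▸ Subgroup.map_mono hRU hcC
  exact hbU (eq_mul_inv_iff_mul_eq.mpr hbc.symm ▸ U.mul_mem (hRU hu) (U.inv_mem hcU))

theorem tSub_map_stab (hm : 1 ≤ m) (hF : Fintype.card F = 2 ^ (2 * m + 1)) {s : Cfsg.Sz F m}
    (hs : s • Cfsg.suzukiPointInfinity F = Cfsg.suzukiPointInfinity F) :
    (tSub (m := m) hF).map (MulAut.conj s).toMonoidHom = tSub hF :=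
  map_eq_of_mem_normalizer (by rw [normalizer_tSub hm hF]; exact hs)

theorem wEl_moves (hF : Fintype.card F = 2 ^ (2 * m + 1)) :
    wEl (m := m) hF • Cfsg.suzukiPointInfinity F ≠ Cfsg.suzukiPointInfinity F := by
  rw [wEl_infty]; exact ovPt_ne_infty 0 0

/-- The Sylow `2`-subgroup is not an intersection of conjugates. -/
theorem tSub_not_inter (hm : 1 ≤ m) (hF : Fintype.card F = 2 ^ (2 * m + 1))
    {H : Subgroup (Cfsg.Sz F m)} (hB : IsBinaryCoset H) (hT : IsInter H (tSub (m := m) hF)) :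
    False := by
  have hw : (wEl (m := m) hF)⁻¹ = wEl hF := inv_eq_of_mul_eq_one_right (wEl_mul_self hF)
  have hne : ∀ a b : F, (a ≠ 0 ∨ b ≠ 0) → tEl (m := m) hF a b ≠ 1 := fun a b h e => by
    obtain ⟨rfl, rfl⟩ := tEl_inj hF (e.trans (tEl_zero hF).symm)
    exact h.elim (· rfl) (· rfl)
  set a := tEl (m := m) hF 0 1
  set c := wEl (m := m) hF * tEl hF 1 0 * (wEl hF)⁻¹ with hc
  set r := a * c⁻¹ with hr
  have hr0 : mtr r = 0 := by
    have e : r = tEl hF 0 1 * (wEl hF * (tEl hF 1 1 * wEl hF)) := by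
      rw [hr, hc, mul_inv_rev, mul_inv_rev, inv_inv, tEl_inv, th_one, hw]
      simp [a]
    rw [e, mtr_uu]
    simp only [oF, zero_mul, th_zero, th_one, mul_one, one_pow, zero_add, add_zero]
    linear_combination two_eq_zero hF + two_eq_zero hF (F := F)
  obtain ⟨s, hs⟩ : ∃ s, s⁻¹ * r * s ∈ tSub hF := by
    by_contra! hss
    exact (mtr_classify hm hF).1 r (fun e => hss 1 (by rw [e]; simp)) hss hr0
  have hrc : a = r * c := by rw [hr, inv_mul_cancel_right]
  have hcC : c ∈ (tSub (m := m) hF).map (MulAut.conj (wEl hF)).toMonoidHom :=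
    mem_map_conj _ (tEl_mem_tSub hF 1 0)
  have hAB : tSub (m := m) hF ⊓ (tSub hF).map (MulAut.conj s).toMonoidHom = ⊥ := by
    rw [eq_bot_iff]
    rintro x ⟨hx, hx'⟩
    rw [Subgroup.mem_bot]
    by_contra hx1
    replace hx' : s⁻¹ * x * s ∈ tSub hF := mem_map_conj_iff.mp hx'
    have hrT : r ∈ (tSub hF).map (MulAut.conj s).toMonoidHom := mem_map_conj_iff.mpr hs
    rw [tSub_map_stab hm hF (tSub_ti hF hx hx1 hx')] at hrT
    have hcT : c ∈ tSub hF := by
      rw [show c = r⁻¹ * a by rw [hrc, inv_mul_cancel_left]]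
      exact mul_mem (inv_mem hrT) (tEl_mem_tSub hF 0 1)
    have hc1 : c ≠ 1 := by
      rw [hc, ne_eq, conj_eq_one_iff]
      exact hne 1 0 (Or.inl one_ne_zero)
    exact wEl_moves hF (tSub_ti hF hcT hc1 (mem_map_conj_iff.mp hcC))
  have haC := hB.triangle_bot hT (hT.conj s) (hT.conj _) hAB (tEl_mem_tSub hF 0 1)
    (mem_map_conj_iff.mpr hs) hcC hrc
  exact wEl_moves hF (tSub_ti hF (tEl_mem_tSub hF 0 1) (hne 0 1 (Or.inr one_ne_zero))
    (mem_map_conj_iff.mp haC))

theorem dEl_tEl_conj (hF : Fintype.card F = 2 ^ (2 * m + 1)) (k : Fˣ) (a b : F) :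
    dEl hF k * tEl hF a b * (dEl hF k)⁻¹ = tEl hF ((k : F) * a) (th m (k : F) * k * b) := by
  rw [mul_inv_eq_iff_eq_mul, dEl_tEl]

/-- A minimal intersection containing a standard involution is the centre. -/
theorem min_inter_eq_zc (hm : 1 ≤ m) (hF : Fintype.card F = 2 ^ (2 * m + 1))
    {H R : Subgroup (Cfsg.Sz F m)} (hB : IsBinaryCoset H) (hR : IsInter H R)
    (hmin : ∀ S, IsInter H S → R ⊓ S = ⊥ ∨ R ≤ S) (hRtop : R ≠ ⊤) {c : F} (hc : c ≠ 0)
    (hcR : tEl hF 0 c ∈ R) : R = zc hF := by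
  have h2 := two_eq_zero hF
  have hne : ∀ x : F, x ≠ 0 → tEl (m := m) hF 0 x ≠ 1 := fun x h e =>
    h (tEl_inj hF (e.trans (tEl_zero hF).symm)).2
  -- the Sylow subgroup normalises `R`
  have hTn : ∀ x y, R.map (MulAut.conj (tEl hF x y)).toMonoidHom = R := fun x y => by
    refine inter_ti hR hmin hcR ?_ (hne c hc)
    rw [mem_map_conj_iff]
    have : (tEl hF x y)⁻¹ * tEl hF 0 c * tEl hF x y = tEl hF 0 c := by
      rw [mul_assoc, ← center_commute, inv_mul_cancel_left]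
    rw [this]; exact hcR
  set N := Subgroup.normalizer (R : Set (Cfsg.Sz F m))
  have hN : N ≠ ⊤ := fun h => by
    haveI := sz_simple hm hF
    rcases (Subgroup.normalizer_eq_top_iff.mp h).eq_bot_or_eq_top with hb | ht
    · exact hne c hc (Subgroup.mem_bot.mp (hb ▸ hcR))
    · exact hRtop ht
  have hTN : tSub (m := m) hF ≤ N := by
    rintro _ ⟨x, y, rfl⟩
    exact mem_normalizer_of_map_eq (hTn x y)
  have hNB := subgroup_fix_infty hm hF hN (by
    rw [inf_eq_right.mpr hTN, card_tSub]; omega)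
  have hRT : R ≤ tSub hF := by
    intro g hg
    obtain ⟨a, b, k, rfl⟩ := fix_infty hm hF g (hNB (Subgroup.le_normalizer hg))
    rcases eq_or_ne k 1 with rfl | hk
    · rw [dEl_one, mul_one]; exact tEl_mem_tSub hF a b
    exfalso
    obtain ⟨x, y, hxy⟩ := exists_conj_diag (m := m) hF a b hk
    have hD : dEl hF k ∈ R := by
      have h := mem_map_conj (tEl hF x y) hg
      rwa [hTn, hxy] at h
    have hDi : dEl hF k⁻¹ ∈ R := by
      rw [← dHom_apply, map_inv, dHom_apply]; exact R.inv_mem hD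
    have hmem : dEl hF k⁻¹ ∈ R.map (MulAut.conj (wEl hF)).toMonoidHom := by
      refine mem_map_conj_iff.mpr ?_
      rw [inv_eq_of_mul_eq_one_right (wEl_mul_self hF), wEl_dEl, inv_inv]
      exact hD
    have hW := mem_normalizer_of_map_eq (inter_ti hR hmin hDi hmem fun h =>
      hk (inv_eq_one.mp (dHom_injective hF (h.trans (dEl_one hF).symm))))
    exact wEl_moves hF (hNB hW)
  by_cases hA : ∃ a b, a ≠ 0 ∧ tEl hF a b ∈ R
  · exfalso
    obtain ⟨a, b, ha, hab⟩ := hA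
    have hu : th m a * a ≠ 0 := mul_ne_zero (mt th_eq_zero.mp ha) ha
    have hsq : tEl hF 0 (th m a * a) ∈ R := by
      have := R.mul_mem hab hab
      rwa [← sq, tEl_sq] at this
    have hcom : ∀ x, tEl hF 0 (th m x * a + th m a * x) ∈ R := fun x => by
      have h1 : tEl hF x 0 * tEl hF a b * (tEl hF x 0)⁻¹ ∈ R := by
        have h := mem_map_conj (tEl hF x 0) hab
        rwa [hTn] at h
      have h3 := R.mul_mem h1 (R.inv_mem hab)
      rwa [← commutatorElement_def, tSub_commutator_value] at h3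
    have hZ : ∀ d, tEl hF 0 d ∈ R := by
      intro d
      rcases zmod_two_cases (fTr (m := m) hF (d / (th m a * a))) with h | h
      · obtain ⟨v, hv⟩ := (fTr_range hF).mp h
        have := hcom (a * v)
        rwa [show th m (a * v) * a + th m a * (a * v) = d by
          rw [th_mul]
          calc th m a * th m v * a + th m a * (a * v) = th m a * a * (v + th m v) := by ring
            _ = d := by rw [hv, mul_div_cancel₀ _ hu]] at this
      · obtain ⟨v, hv⟩ := (fTr_range (m := m) hF).mp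
          (show fTr (m := m) hF (d / (th m a * a) + 1) = 0 by rw [map_add, h, fTr_one]; rfl)
        have := R.mul_mem (hcom (a * v)) hsq
        rwa [tEl_mul, show th m (a * v) * a + th m a * (a * v) + th m a * a + th m 0 * 0 = d by
          rw [th_mul, th_zero]
          calc th m a * th m v * a + th m a * (a * v) + th m a * a + 0 * 0
              = th m a * a * (v + th m v + 1) := by ring
            _ = th m a * a * (d / (th m a * a)) := by rw [hv]; linear_combination th m a * a * h2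
            _ = d := mul_div_cancel₀ _ hu, add_zero] at this
    have hDn : ∀ k : Fˣ, R.map (MulAut.conj (dEl hF k)).toMonoidHom = R := fun k => by
      refine inter_ti hR hmin (hZ (th m (k : F) * k * 1)) ?_
        (hne _ (by simp [th_eq_zero]))
      have := mem_map_conj (dEl hF k) (hZ 1)
      rwa [dEl_tEl_conj, mul_zero] at this
    refine tSub_not_inter hm hF hB ?_
    rwa [show tSub hF = R from le_antisymm ?_ hRT]
    rintro _ ⟨x, y, rfl⟩
    rcases eq_or_ne x 0 with rfl | hx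
    · exact hZ y
    set k := Units.mk0 (x / a) (div_ne_zero hx ha)
    have h1 : tEl hF x (th m (k : F) * k * b) ∈ R := by
      have := mem_map_conj (dEl hF k) hab
      rwa [hDn, dEl_tEl_conj, Units.val_mk0, div_mul_cancel₀ _ ha] at this
    have := R.mul_mem h1 (hZ (y + th m (k : F) * k * b))
    rwa [tEl_mul, add_zero, mul_zero, add_zero, show th m (k : F) * k * b +
      (y + th m (k : F) * k * b) = y by linear_combination th m (k : F) * k * b * h2] at this
  push Not at hA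
  have hRz : R ≤ zc hF := by
    intro g hg
    obtain ⟨a, b, rfl⟩ := hRT hg
    by_cases ha : a = 0
    · subst ha; exact tEl_mem_zc hF b
    · exact (hA a b ha hg).elim
  refine le_antisymm hRz fun g hg => ?_
  obtain ⟨f, rfl⟩ := (mem_zc hF).mp hg
  by_contra hf
  have hf0 : f ≠ 0 := by rintro rfl; exact hf (tEl_zero hF ▸ R.one_mem)
  have hg0 : c + f ≠ 0 := fun h => hf ((add_eq_zero_iff hF).mp h ▸ hcR)
  have htr : ∀ x : F, x ≠ 0 → ∃ k : Fˣ,
      tEl hF 0 x ∈ R.map (MulAut.conj (dEl hF k)).toMonoidHom := fun x hx => by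
    obtain ⟨k, hk⟩ := (th_mul_self_bij (m := m) hF).2 (x / c)
    simp only at hk
    have hk0 : k ≠ 0 := by
      rintro rfl
      rw [mul_zero] at hk
      exact div_ne_zero hx hc hk.symm
    refine ⟨Units.mk0 k hk0, ?_⟩
    have := mem_map_conj (dEl hF (Units.mk0 k hk0)) hcR
    rwa [dEl_tEl_conj, mul_zero, Units.val_mk0, hk, div_mul_cancel₀ _ hc] at this
  obtain ⟨k, hk⟩ := htr f hf0
  obtain ⟨l, hl⟩ := htr (c + f) hg0
  have hAB : R ⊓ R.map (MulAut.conj (dEl hF k)).toMonoidHom = ⊥ :=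
    (hmin _ (hR.conj _)).resolve_right fun h => hf (eq_of_le_conj h ▸ hk)
  have haC := hB.triangle_bot hR (hR.conj _) (hR.conj _) hAB hcR hk hl (by
    rw [tEl_mul, add_zero, th_zero, zero_mul, add_zero]
    congr 1
    linear_combination (-f) * h2)
  have hgR : tEl hF 0 (c + f) ∈ R := by
    rwa [inter_ti hR hmin hcR haC (hne c hc)] at hl
  have := R.mul_mem hcR hgR
  rw [tEl_mul, add_zero, th_zero, zero_mul, add_zero,
    show c + (c + f) = f by linear_combination c * h2] at this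
  exact hf this

/-- A nontrivial proper intersection of conjugates contains a conjugate of the centre, which is
itself such an intersection. -/
theorem exists_conj_zc_le (hm : 1 ≤ m) (hF : Fintype.card F = 2 ^ (2 * m + 1))
    {H R₀ : Subgroup (Cfsg.Sz F m)} (hB : IsBinaryCoset H) (h0 : IsInter H R₀) (hne : R₀ ≠ ⊥)
    (htop : R₀ ≠ ⊤) :
    IsInter H (zc hF) ∧ ∃ s, (zc hF).map (MulAut.conj s).toMonoidHom ≤ R₀ := by
  haveI : Fact (Nat.Prime 2) := ⟨Nat.prime_two⟩
  obtain ⟨R, hle, hR, hRne, hmin⟩ := exists_minimal_inter h0 hne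
  have h2 : 2 ∣ Nat.card R := by
    by_contra hodd
    exact odd_inter_false hm hF hB hR hRne hodd
  obtain ⟨⟨g, hgR⟩, hg⟩ := exists_prime_orderOf_dvd_card' 2 h2
  rw [Subgroup.orderOf_mk] at hg
  obtain ⟨s, c, hc, hs⟩ := two_el_conj hm hF hg
  have e : R = (R.map (MulAut.conj s⁻¹).toMonoidHom).map (MulAut.conj s).toMonoidHom := by
    rw [conj_conj_map, mul_inv_cancel, conj_one_map]
  have hz : R.map (MulAut.conj s⁻¹).toMonoidHom = zc hF := by
    refine min_inter_eq_zc hm hF hB (hR.conj _) (fun S hS => ?_) ?_ hc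
      (hs ▸ (by simpa using mem_map_conj s⁻¹ hgR))
    · rcases hmin _ (hS.conj s) with h | h
      · refine Or.inl ?_
        rw [← Subgroup.map_eq_bot_iff_of_injective _ (f := (MulAut.conj s).toMonoidHom)
            (MulAut.conj s).injective,
          Subgroup.map_inf _ _ _ (MulAut.conj s).injective, ← e, h]
      · refine Or.inr ?_
        rw [← Subgroup.map_le_map_iff_of_injective (f := (MulAut.conj s).toMonoidHom)
          (MulAut.conj s).injective, ← e]
        exact h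
    · intro h
      apply htop
      rw [eq_top_iff]
      refine le_trans ?_ hle
      rw [e, h]
      exact (Subgroup.map_top_of_surjective _ (MulAut.conj s).surjective).ge
  exact ⟨hz ▸ hR.conj _, s, by rw [← hz, ← e]; exact hle⟩

theorem index_bound (hm : 1 ≤ m) (hF : Fintype.card F = 2 ^ (2 * m + 1))
    {H : Subgroup (Cfsg.Sz F m)} (hH : H ≠ ⊤) :
    2 ^ m * (2 ^ (2 * m + 1) - 1) + 1 ≤ H.index := by
  classical
  haveI := sz_simple hm hF
  haveI : FaithfulSMul (Cfsg.Sz F m) (Cfsg.Sz F m ⧸ H) := by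
    rcases (H.normalCore_normal).eq_bot_or_eq_top with hb | ht
    · refine ⟨fun {a b} hab => ?_⟩
      have : b⁻¹ * a ∈ H.normalCore := by
        rw [Subgroup.normalCore_eq_ker, MonoidHom.mem_ker]
        apply Equiv.ext
        intro x
        show (b⁻¹ * a) • x = x
        rw [mul_smul, hab x, inv_smul_smul]
      rw [hb, Subgroup.mem_bot, inv_mul_eq_one] at this
      exact this.symm
    · exact absurd (eq_top_iff.mpr (ht ▸ H.normalCore_le)) hH
  haveI := Fintype.ofFinite (Cfsg.Sz F m ⧸ H)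
  have hidx1 : 1 < Fintype.card (Cfsg.Sz F m ⧸ H) := by
    rw [← Nat.card_eq_fintype_card, ← Subgroup.index_eq_card]
    exact Subgroup.one_lt_index_of_ne_top hH
  rw [Subgroup.index_eq_card, Nat.card_eq_fintype_card]
  exact sz_perm_degree hm hF hidx1

/-- A proper subgroup containing two centres cannot meet every semisimple class. -/
theorem fix_of_zc_le (hm : 1 ≤ m) (hF : Fintype.card F = 2 ^ (2 * m + 1))
    {H : Subgroup (Cfsg.Sz F m)} (hH : H ≠ ⊤) (hz : zc hF ≤ H) :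
    H ≤ MulAction.stabilizer (Cfsg.Sz F m) (Cfsg.suzukiPointInfinity F) := by
  intro h hh
  rw [MulAction.mem_stabilizer_iff]
  rcases sz_cases hm hF h with ⟨a, b, k, rfl⟩ | ⟨a, b, c, d, k, rfl⟩
  · rw [mul_smul, dEl_infty, tEl_infty]
  exfalso
  set T := tEl hF a b with hT
  have hWW : ∀ e, T * (wEl hF * tEl hF 0 e * (wEl hF)⁻¹) * T⁻¹ ∈ H := by
    intro e
    obtain ⟨x, rfl⟩ : ∃ x, th m (k : F) * k * x = e :=
      ⟨e / (th m (k : F) * k), mul_div_cancel₀ _ (mul_ne_zero (mt th_eq_zero.mp k.ne_zero) k.ne_zero)⟩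
    have := H.mul_mem (H.mul_mem hh (hz (tEl_mem_zc hF x))) (H.inv_mem hh)
    convert this using 1
    have e1 : dEl hF k * tEl hF 0 x * (dEl hF k)⁻¹ = tEl hF 0 (th m (k : F) * k * x) := by
      rw [dEl_tEl_conj, mul_zero]
    have e2 : ∀ y, tEl hF c d * tEl hF 0 y * (tEl hF c d)⁻¹ = tEl hF 0 y := fun y => by
      rw [center_commute, mul_inv_cancel_right]
    rw [← e2, ← e1]
    group
  have hZ : ∀ e, T * tEl hF 0 e * T⁻¹ ∈ H := fun e => by
    rw [hT, center_commute, mul_inv_cancel_right]; exact hz (tEl_mem_zc hF e)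
  have hall : ∀ x : Cfsg.Sz F m, x ≠ 1 → ¬ 2 ∣ orderOf x → orderOf x ∣ Nat.card H := by
    intro x hx1 hx
    have ht := (mtr_classify hm hF).1 x hx1 (isSS_of_odd hF hx1 hx)
    obtain ⟨y, hy⟩ := (thEquiv (m := m) hF).surjective (mtr x)
    rw [thEquiv_apply] at hy
    have he : mtr (T * (tEl hF 0 y * (wEl hF * tEl hF 0 1 * (wEl hF)⁻¹)) * T⁻¹) = mtr x := by
      rw [mtr_conj, inv_eq_of_mul_eq_one_right (wEl_mul_self hF), mul_assoc (wEl hF), mtr_uu]
      simp [oF, hy]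
    obtain ⟨s, hs⟩ := isConj_iff.mp ((mtr_classify hm hF).2 _ x (he ▸ ht) he)
    rw [← hs, orderOf_conj]
    refine Subgroup.orderOf_dvd_natCard _ ?_
    have := H.mul_mem (hZ y) (hWW 1)
    convert this using 1
    group
  obtain ⟨Ap, Am, hAp, hAm, hcp, hcm, -⟩ := tor_summary hm hF
  have hcyc : ∀ U : Subgroup (Cfsg.Sz F m), IsUTor hF U → Nat.card U ∣ Nat.card H := by
    intro U hU
    obtain ⟨u, hu⟩ := (utor_comm hm hF hU).exists_ofOrder_eq_natCard
    rw [← hu, ← Subgroup.orderOf_coe]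
    rcases eq_or_ne (u : Cfsg.Sz F m) 1 with h1 | h1
    · rw [h1, orderOf_one]; exact one_dvd _
    · exact hall _ h1 (utor_no_fix_inv hm hF hU u.2 h1)
  have hd1 : Nat.card (dSub (m := m) hF) ∣ Nat.card H :=
    hcyc _ (Or.inl ⟨1, (conj_one_map _).symm⟩)
  have hd2 := hcyc _ (Or.inr hAp)
  have hd3 := hcyc _ (Or.inr hAm)
  have hd4 : 2 ^ (2 * m + 1) ∣ Nat.card H := by
    have := Subgroup.card_dvd_of_le hz
    rwa [zc, Subgroup.card_map_of_injective (tSub (m := m) hF).subtype_injective, card_zSub] at this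
  rw [card_dSub] at hd1
  rw [hcp] at hd2
  rw [hcm] at hd3
  have hq : 8 ≤ 2 ^ (2 * m + 1) := by
    have : 2 ^ 3 ≤ 2 ^ (2 * m + 1) := Nat.pow_le_pow_right (by norm_num) (by omega)
    omega
  have hev := q_even m
  have h23 := (tor_coprime m).mul_dvd_of_dvd_of_dvd hd2 hd3
  have hprod : (2 ^ (2 * m + 1) + 2 ^ (m + 1) + 1) * (2 ^ (2 * m + 1) - 2 ^ (m + 1) + 1) =
      (2 ^ (2 * m + 1)) ^ 2 + 1 := by
    have h1 := r_le_q m
    have h2 := r_sq m
    zify [h1] at h2 ⊢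
    linear_combination (-1 : ℤ) * h2
  rw [hprod] at h23
  have hsq := Nat.sq_sub_sq (2 ^ (2 * m + 1)) 1
  rw [one_pow] at hsq
  have hco : Nat.Coprime (2 ^ (2 * m + 1) - 1) ((2 ^ (2 * m + 1)) ^ 2 + 1) := by
    refine Nat.coprime_of_dvd fun p hp h1 h2 => ?_
    have h3 := Nat.dvd_sub h2 (Dvd.dvd.mul_left h1 (2 ^ (2 * m + 1) + 1))
    rw [← hsq, show (2 ^ (2 * m + 1)) ^ 2 + 1 - ((2 ^ (2 * m + 1)) ^ 2 - 1) = 2 by
      have : 1 ≤ (2 ^ (2 * m + 1)) ^ 2 := Nat.one_le_pow _ _ (by omega)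
      omega] at h3
    have := (Nat.prime_dvd_prime_iff_eq hp Nat.prime_two).mp h3
    subst this
    omega
  have hodd : ¬ 2 ∣ (2 ^ (2 * m + 1) - 1) * ((2 ^ (2 * m + 1)) ^ 2 + 1) := by
    rw [Nat.prime_two.dvd_mul]
    have : 2 ∣ (2 ^ (2 * m + 1)) ^ 2 := dvd_pow hev two_ne_zero
    omega
  have hdiv := (Nat.Coprime.pow_left (2 * m + 1)
    ((Nat.Prime.coprime_iff_not_dvd Nat.prime_two).mpr hodd)).mul_dvd_of_dvd_of_dvd hd4
      (hco.mul_dvd_of_dvd_of_dvd hd1 h23)
  have hidx := index_bound hm hF hH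
  have hmul := H.card_mul_index
  rw [card_sz hm hF] at hmul
  obtain ⟨e, he⟩ := hdiv
  have hle : H.index ≤ 2 ^ (2 * m + 1) := by
    refine Nat.le_of_dvd (by omega) ⟨e, ?_⟩
    have hpos : 0 < 2 ^ (2 * m + 1) * ((2 ^ (2 * m + 1) - 1) * ((2 ^ (2 * m + 1)) ^ 2 + 1)) :=
      Nat.mul_pos (by omega) (Nat.mul_pos (by omega) (by omega))
    refine Nat.eq_of_mul_eq_mul_left hpos ?_
    rw [he] at hmul
    calc _ = (2 ^ (2 * m + 1)) ^ 2 * ((2 ^ (2 * m + 1)) ^ 2 + 1) * (2 ^ (2 * m + 1) - 1) := by ring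
      _ = _ := by rw [← hmul]; ring
  have h2m : 2 * (2 ^ (2 * m + 1) - 1) ≤ 2 ^ m * (2 ^ (2 * m + 1) - 1) :=
    Nat.mul_le_mul_right _ (Nat.le_self_pow (by omega) 2)
  omega

/-- A proper binary point stabiliser containing the centre is the centre. -/
theorem eq_zc_of_binary (hm : 1 ≤ m) (hF : Fintype.card F = 2 ^ (2 * m + 1))
    {H : Subgroup (Cfsg.Sz F m)} (hB : IsBinaryCoset H) (hH : H ≠ ⊤) (hz : zc hF ≤ H) :
    H = zc hF := by
  have h2 := two_eq_zero hF
  have hfix := fix_of_zc_le hm hF hH hz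
  have hHT : H ≤ tSub hF := by
    intro g hg
    obtain ⟨a, b, k, rfl⟩ := fix_infty hm hF g (hfix hg)
    rcases eq_or_ne k 1 with rfl | hk
    · rw [dEl_one, mul_one]; exact tEl_mem_tSub hF a b
    exfalso
    obtain ⟨x, y, hxy⟩ := exists_conj_diag (m := m) hF a b hk
    set H' := H.map (MulAut.conj (tEl hF x y)).toMonoidHom
    have hD : dEl hF k ∈ H' := by
      have h := mem_map_conj (tEl hF x y) hg
      rwa [hxy] at h
    have hfix' : ∀ z ∈ H', z • Cfsg.suzukiPointInfinity F = Cfsg.suzukiPointInfinity F := by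
      rintro _ ⟨z, hz', rfl⟩
      have hz'' : z • Cfsg.suzukiPointInfinity F = Cfsg.suzukiPointInfinity F := hfix hz'
      have hi : (tEl hF x y)⁻¹ • Cfsg.suzukiPointInfinity F = Cfsg.suzukiPointInfinity F :=
        inv_smul_eq_iff.mpr (tEl_infty hF x y).symm
      simp [mul_smul, hi, hz'', tEl_infty]
    have hw : (wEl (m := m) hF)⁻¹ = wEl hF := inv_eq_of_mul_eq_one_right (wEl_mul_self hF)
    set K := H' ⊓ H'.map (MulAut.conj (wEl hF)).toMonoidHom
    have hDK : dEl hF k ∈ K := by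
      refine ⟨hD, mem_map_conj_iff.mpr ?_⟩
      rw [hw, wEl_dEl, ← dHom_apply, map_inv, dHom_apply]
      exact H'.inv_mem hD
    have hKD : K ≤ dSub hF := by
      rintro z ⟨hz1, hz2⟩
      replace hz2 : (wEl hF)⁻¹ * z * wEl hF ∈ H' := mem_map_conj_iff.mp hz2
      rw [hw] at hz2
      have hf := hfix' _ hz2
      rw [mul_smul, mul_smul, wEl_infty] at hf
      have hzero : z • ovPt m (0 : F) 0 = ovPt m (0 : F) 0 := by
        have := congrArg (fun p => wEl hF • p) hf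
        simp only [wEl_infty] at this
        rwa [← mul_smul, wEl_mul_self, one_smul] at this
      obtain ⟨l, rfl⟩ := fix_two hm hF z (hfix' z hz1) hzero
      exact ⟨l, rfl⟩
    refine odd_inter_false hm hF hB (((IsInter.self H).conj _).inf (((IsInter.self H).conj _).conj _))
      (fun hb => hk (dHom_injective hF
        ((Subgroup.mem_bot.mp (hb ▸ hDK)).trans (dEl_one hF).symm))) fun hd => ?_
    have h3 := hd.trans (Subgroup.card_dvd_of_le hKD)
    rw [card_dSub] at h3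
    have := q_even m
    have : 1 ≤ 2 ^ (2 * m + 1) := Nat.one_le_two_pow
    omega
  by_contra hne
  obtain ⟨P, ⟨hPH, hP, hPz⟩, hmin⟩ := exists_minimal_of_wellFoundedLT
    (fun P : Subgroup (Cfsg.Sz F m) => P ≤ H ∧ IsInter H P ∧ zc hF < P)
    ⟨H, le_rfl, IsInter.self H, lt_of_le_of_ne hz (Ne.symm hne)⟩
  have hTI : ∀ S, IsInter H S → zc hF ≤ S → ¬ P ≤ S → P ⊓ S ≤ zc hF := by
    intro S hS hzS hn
    rcases (le_inf hPz.le hzS).lt_or_eq with h | h
    · exact (hn (le_trans (hmin ⟨inf_le_left.trans hPH, hP.inf hS, h⟩ inf_le_left) inf_le_right)).elim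
    · exact h.ge
  have hPc : ∀ a b b', tEl hF a b ∈ P → tEl hF a b' ∈ P := fun a b b' h => by
    have := P.mul_mem h (hPz.le (tEl_mem_zc hF (b' + b)))
    rwa [tEl_mul, add_zero, mul_zero, add_zero,
      show b + (b' + b) = b' by linear_combination b * h2] at this
  obtain ⟨g, hgP, hgz⟩ := SetLike.exists_of_lt hPz
  obtain ⟨p, q, rfl⟩ := hHT (hPH hgP)
  have hp : p ≠ 0 := by rintro rfl; exact hgz (tEl_mem_zc hF q)
  by_cases hfull : ∀ f, tEl hF f 0 ∈ P
  · refine tSub_not_inter hm hF hB ?_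
    rwa [show tSub hF = P from le_antisymm
      (by rintro _ ⟨x, y, rfl⟩; exact hPc x 0 y (hfull x)) (hPH.trans hHT)]
  push Not at hfull
  obtain ⟨f, hf⟩ := hfull
  have hf0 : f ≠ 0 := by rintro rfl; exact hf (tEl_zero hF ▸ P.one_mem)
  have hg0 : p + f ≠ 0 := fun h => hf ((add_eq_zero_iff hF).mp h ▸ hPc p q 0 hgP)
  have htr : ∀ x : F, x ≠ 0 → ∃ k : Fˣ,
      zc hF ≤ P.map (MulAut.conj (dEl hF k)).toMonoidHom ∧
        ∀ y, tEl hF x y ∈ P.map (MulAut.conj (dEl hF k)).toMonoidHom := fun x hx => by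
    set k := Units.mk0 (x / p) (div_ne_zero hx hp) with hk
    have hk0 : th m (k : F) * k ≠ 0 := mul_ne_zero (mt th_eq_zero.mp k.ne_zero) k.ne_zero
    refine ⟨k, fun z hz' => ?_, fun y => ?_⟩
    · obtain ⟨e, rfl⟩ := (mem_zc hF).mp hz'
      have := mem_map_conj (dEl hF k) (hPz.le (tEl_mem_zc hF (e / (th m (k : F) * k))))
      rwa [dEl_tEl_conj, mul_zero, mul_div_cancel₀ _ hk0] at this
    · have := mem_map_conj (dEl hF k) (hPc p q (y / (th m (k : F) * k)) hgP)
      rwa [dEl_tEl_conj, mul_div_cancel₀ _ hk0, hk, Units.val_mk0, div_mul_cancel₀ _ hp] at this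
  obtain ⟨k, hkz, hkm⟩ := htr f hf0
  obtain ⟨l, hlz, hlm⟩ := htr (p + f) hg0
  have hAB := hTI _ (hP.conj _) hkz fun h => hf (eq_of_le_conj h ▸ hkm 0)
  set c := (tEl hF f 0)⁻¹ * tEl hF p q with hc
  have hcC : c ∈ P.map (MulAut.conj (dEl hF l)).toMonoidHom := by
    rw [hc, tEl_inv, tEl_mul, add_comm f p]; exact hlm _
  obtain ⟨d, hd, hda⟩ := hB.triangle hP (hP.conj _) (hP.conj _) hgP (hkm 0) hcC
    (mul_inv_cancel_left _ _).symm
  have haC : tEl hF p q ∈ P.map (MulAut.conj (dEl hF l)).toMonoidHom := by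
    have := mul_mem (hlz (hAB hd)) hda
    rwa [mul_inv_cancel_left] at this
  have hPl : P ≤ P.map (MulAut.conj (dEl hF l)).toMonoidHom := by
    by_contra h
    exact hgz (hTI _ (hP.conj _) hlz h ⟨hgP, haC⟩)
  have h1 : tEl hF (p + f) 0 ∈ P := by
    have h := hlm 0
    rwa [eq_of_le_conj hPl] at h
  have h3 := P.mul_mem hgP h1
  rw [tEl_mul, show p + (p + f) = f by linear_combination p * h2] at h3
  exact hf (hPc _ _ 0 h3)

/-- The binary coset actions of the Suzuki group. -/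
theorem sz_binary_iff (hm : 1 ≤ m) (hF : Fintype.card F = 2 ^ (2 * m + 1))
    {H : Subgroup (Cfsg.Sz F m)} (hH : H ≠ ⊤) :
    IsBinaryCoset H ↔ H = ⊥ ∨ ∃ s, H = (zc hF).map (MulAut.conj s).toMonoidHom := by
  constructor
  · intro hB
    rw [or_iff_not_imp_left]
    intro hne
    obtain ⟨-, s, hs⟩ := exists_conj_zc_le hm hF hB (IsInter.self H) hne hH
    refine ⟨s, ?_⟩
    set H' := H.map (MulAut.conj s⁻¹).toMonoidHom with hH'
    have hB' : IsBinaryCoset H' := hB.map _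
    have hle : zc hF ≤ H' := by
      have := Subgroup.map_mono (f := (MulAut.conj s⁻¹).toMonoidHom) hs
      rwa [conj_conj_map, inv_mul_cancel, conj_one_map] at this
    have e : H = H'.map (MulAut.conj s).toMonoidHom := by
      rw [hH', conj_conj_map, mul_inv_cancel, conj_one_map]
    have htop : H' ≠ ⊤ := fun h => hH (by
      rw [e, h]; exact Subgroup.map_top_of_surjective _ (MulAut.conj s).surjective)
    rw [e, eq_zc_of_binary hm hF hB' htop hle]
  · rintro (rfl | ⟨s, rfl⟩)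
    · exact isBinaryCoset_bot
    · exact (zc_binary hm hF).map _

end H57
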