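import Mathlib
import Cfsg.Agent.H39.Tori
import Cfsg.Agent.H39.FieldOrders
import Cfsg.Agent.H40.GL2Classes
import Cfsg.Agent.H42.PSL2Descent
import Cfsg.Agent.H42.PSL2Cases
import Cfsg.Agent.H41.PSL2ClassSize

/-!
Trace triples in `SL₂(q)`, and what they give in `PSL₂(q)`.
-/

set_option autoImplicit false
set_option linter.unusedSectionVars false

namespace H57.PSL

open Matrix H39
open scoped MatrixGroups

variable {F : Type*} [Field F]

local notation "G2" => Matrix.ProjectiveSpecialLinearGroup (Fin 2) F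

theorem tr_inv' (g : SL(2, F)) : tr g⁻¹ = tr g := by
  rw [tr_def, tr_def, Matrix.SpecialLinearGroup.coe_inv, Matrix.adjugate_fin_two]
  simp [add_comm]

theorem tr_inv_mul (g h : SL(2, F)) : tr (g⁻¹ * h) = tr g * tr h - tr (g * h) := by
  simp only [tr_def, Matrix.SpecialLinearGroup.coe_mul, Matrix.SpecialLinearGroup.coe_inv,
    Matrix.adjugate_fin_two, Matrix.mul_apply, Fin.sum_univ_two]
  simp
  ring

theorem tr_mul_comm' (g h : SL(2, F)) : tr (g * h) = tr (h * g) := by
  rw [show g * h = g * (h * g) * g⁻¹ by group, tr_conj]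

theorem tr_sq' (g : SL(2, F)) : tr (g * g) = tr g ^ 2 - 2 := by
  have h := tr_inv_mul g g
  rw [inv_mul_cancel, tr_one] at h
  linear_combination h

theorem not_isScalar2_of_tr {g : SL(2, F)} (hg : tr g ^ 2 ≠ 4) :
    ¬ H40.IsScalar2 (g : Matrix (Fin 2) (Fin 2) F) := fun h =>
  not_center_of_tr hg (mem_center_iff_isScalar2.2 h)

theorem cjSL_coe (P : GL (Fin 2) F) (g : SL(2, F)) :
    ((cjSL P g : SL(2, F)) : Matrix (Fin 2) (Fin 2) F) =
      (P : Matrix (Fin 2) (Fin 2) F) * g * ((P⁻¹ : GL (Fin 2) F) : Matrix (Fin 2) (Fin 2) F) := rfl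

theorem cjSL_eq_iff (P : GL (Fin 2) F) (g h : SL(2, F)) :
    cjSL P g = h ↔ (P : Matrix (Fin 2) (Fin 2) F) * g = (h : Matrix (Fin 2) (Fin 2) F) * P := by
  constructor
  · rintro rfl
    rw [cjSL_coe, mul_assoc, Units.inv_mul, mul_one]
  · intro e
    apply Subtype.ext
    rw [cjSL_coe, e, mul_assoc, Units.mul_inv, mul_one]

/-- Bring a non-scalar element to companion form. -/
theorem exists_cjSL_comp2 {g : SL(2, F)} (hg : ¬ H40.IsScalar2 (g : Matrix (Fin 2) (Fin 2) F)) :
    ∃ P : GL (Fin 2) F, ((cjSL P g : SL(2, F)) : Matrix (Fin 2) (Fin 2) F) =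
      H40.comp2 (tr g) 1 := by
  obtain ⟨P, hP, hPe⟩ := H40.exists_intertwiner hg (H40.not_isScalar2_comp2 (tr g) (1 : F))
    (by rw [H40.trace_comp2]; rfl) (by rw [H40.det_comp2, g.2])
  refine ⟨Matrix.GeneralLinearGroup.mkOfDetNeZero P hP, ?_⟩
  rw [cjSL_coe]
  show P * (g : Matrix (Fin 2) (Fin 2) F) * _ = _
  rw [hPe, mul_assoc]
  have : P * ((Matrix.GeneralLinearGroup.mkOfDetNeZero P hP)⁻¹ : GL (Fin 2) F) = 1 :=
    Units.mul_inv (Matrix.GeneralLinearGroup.mkOfDetNeZero P hP)
  rw [this, mul_one]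

/-- For semisimple `g`, an element of given trace whose quotient with `g` has given trace. -/
theorem exists_product [Fintype F] {g : SL(2, F)} (hg : tr g ^ 2 ≠ 4) (β γ : F)
    (hk : β ^ 2 + γ ^ 2 + tr g ^ 2 - β * γ * tr g ≠ 4) :
    ∃ b : SL(2, F), tr b = β ∧ tr (b⁻¹ * g) = γ ∧ ¬ Commute b g := by
  obtain ⟨P, hP⟩ := exists_cjSL_comp2 (not_isScalar2_of_tr hg)
  set t := tr g with ht
  obtain ⟨x, -, z, -, hxz⟩ := H42.exists_conic_point (⊤ : Subfield F) (t := t) (b := β)
    (c := t * β - γ) trivial trivial trivial hg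
  set B : SL(2, F) := ⟨!![x, t * β - γ + z - t * (β - x); z, β - x],
    by rw [Matrix.det_fin_two_of]; linear_combination hxz⟩ with hB
  have hBe : (B : Matrix (Fin 2) (Fin 2) F) = !![x, t * β - γ + z - t * (β - x); z, β - x] := rfl
  have hM : tr (B⁻¹ * cjSL P g) = γ := by
    rw [tr_def, Matrix.SpecialLinearGroup.coe_mul, Matrix.SpecialLinearGroup.coe_inv, hP, hBe]
    simp [Matrix.adjugate_fin_two, H40.comp2, Matrix.mul_apply, Fin.sum_univ_two]
    ring
  refine ⟨(cjSL P).symm B, ?_, ?_, ?_⟩
  · rw [← tr_cjSL P, MulEquiv.apply_symm_apply, tr_def, hBe]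
    simp
  · rw [← tr_cjSL P, map_mul, map_inv, MulEquiv.apply_symm_apply, hM]
  · intro hc
    have hc' : Commute B (cjSL P g) := by
      simpa using hc.map (cjSL P).toMonoidHom
    obtain ⟨a, b, hab⟩ := (mem_centralizer_iff (g := cjSL P g) (not_center_of_tr
      (by rw [tr_cjSL]; exact hg))).1 (Subgroup.mem_centralizer_singleton_iff.2 hc'.eq)
    rw [hBe, hP] at hab
    have e00 := congrFun (congrFun hab 0) 0
    have e10 := congrFun (congrFun hab 1) 0
    have e01 := congrFun (congrFun hab 0) 1
    have e11 := congrFun (congrFun hab 1) 1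
    simp [H40.comp2] at e00 e10 e01 e11
    subst e00 e10
    apply hk
    have hb : β = 2 * x + z * t := by linear_combination e11
    have hg' : γ = x * t + 2 * z := by
      rw [hb] at e01
      linear_combination -e01
    have hd : x ^ 2 + x * z * t + z ^ 2 = 1 := by
      linear_combination hxz + (-x) * e11 + z * e01
    rw [hb, hg']
    linear_combination (4 - t ^ 2) * hd

variable [Fintype F]

/-- Semisimple elements of equal trace are conjugate in `PSL₂`. -/
theorem proj_isConj {g h : SL(2, F)} (ht : tr h = tr g) (hg : tr g ^ 2 ≠ 4) :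
    IsConj (proj g) (proj h) :=
  proj.map_isConj (H40.isConj_SL2_of_trace (not_isScalar2_of_tr hg)
    (not_isScalar2_of_tr (ht.symm ▸ hg)) ht.symm (Or.inl hg))

theorem commute_of_proj_commute {b g : SL(2, F)} (ht : tr g ≠ 0)
    (h : Commute (proj b) (proj g)) : Commute b g := by
  have h' := h.eq
  rw [← map_mul, ← map_mul, proj_eq_proj_iff] at h'
  rcases h' with h' | h'
  · exact h'.symm
  · by_cases h2 : (2 : F) = 0
    · have hn : -(b * g) = b * g := by
        apply Subtype.ext
        rw [Matrix.SpecialLinearGroup.coe_neg]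
        ext i j
        simp only [Matrix.neg_apply]
        linear_combination (-((b * g : SL(2, F)) i j)) * h2
      exact (h'.trans hn).symm
    · exfalso
      apply ht
      have e : g * b = -(b * g) := h'
      have e2 : b * g * b⁻¹ = -g := by
        calc b * g * b⁻¹ = -(g * b) * b⁻¹ := by rw [e, neg_neg]
          _ = -g := by rw [neg_mul, mul_inv_cancel_right]
      have h3 := congrArg tr e2
      rw [tr_conj, tr_neg] at h3
      exact (mul_eq_zero.1 (show 2 * tr g = 0 by linear_combination h3)).resolve_left h2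

/-- The centraliser of a semisimple non-involution is its torus. -/
theorem centralizer_proj {g : SL(2, F)} (ht : tr g ≠ 0) :
    Subgroup.centralizer ({proj g} : Set G2) = tor (proj g) := by
  ext c
  obtain ⟨b, rfl⟩ := proj_surjective c
  rw [Subgroup.mem_centralizer_singleton_iff, proj_mem_tor_iff]
  exact ⟨fun h => commute_of_proj_commute ht h, fun h => (h.map proj).eq⟩

theorem proj_pow_char_ne {g : SL(2, F)} (p : ℕ) [Fact p.Prime] [CharP F p] (hg : tr g ^ 2 ≠ 4) :
    proj g ^ p ≠ 1 := fun h => hg ((pow_char_eq_one_iff p).1 h)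

theorem card_centralizer_ge (p : ℕ) [Fact p.Prime] [CharP F p] {g : SL(2, F)} (ht : tr g ≠ 0)
    (hg : tr g ^ 2 ≠ 4) :
    (Fintype.card F - 1) / Nat.gcd 2 (Fintype.card F - 1) ≤
      Nat.card (Subgroup.centralizer ({proj g} : Set G2)) := by
  rw [centralizer_proj ht]
  rcases (tor_trichotomy p (proj_pow_char_ne p hg)).1 with e | e <;> rw [e]
  exact Nat.div_le_div_right (by omega)

theorem isSimple (h4 : 4 ≤ Fintype.card F) : IsSimpleGroup G2 :=
  Matrix.ProjectiveSpecialLinearGroup.rank_two_simple (by rwa [Nat.card_eq_fintype_card])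

theorem normalizer_ne_top (h4 : 4 ≤ Fintype.card F) {R : Subgroup G2} (hne : R ≠ ⊥) (hR : R ≠ ⊤) :
    Subgroup.normalizer (R : Set G2) ≠ ⊤ := fun e => by
  have hs := isSimple h4
  exact (hs.eq_bot_or_eq_top_of_normal R (Subgroup.normalizer_eq_top_iff.1 e)).elim hne hR

/-- The index of a proper subgroup: the group order divides its factorial. -/
theorem card_dvd_factorial_index (h4 : 4 ≤ Fintype.card F) {M : Subgroup G2} (hM : M ≠ ⊤) :
    Nat.card G2 ∣ M.index.factorial := by
  have hs := isSimple h4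
  have hc : M.normalCore = ⊥ :=
    (hs.eq_bot_or_eq_top_of_normal M.normalCore M.normalCore_normal).resolve_right fun e =>
      hM (eq_top_iff.2 (e ▸ M.normalCore_le))
  rw [M.normalCore_eq_ker] at hc
  have hinj := (MonoidHom.ker_eq_bot_iff _).1 hc
  have := Subgroup.card_dvd_of_injective _ hinj
  rwa [Nat.card_perm] at this

/-- Proper subgroups are too small for the class counting. -/
theorem card_lt_count (p : ℕ) [Fact p.Prime] [CharP F p] (h4 : 4 ≤ Fintype.card F)
    (h5 : Fintype.card F ≠ 5) {M : Subgroup G2} (hM : M ≠ ⊤) :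
    Nat.card M < 2 * (Fintype.card F - 1) *
      ((Fintype.card F - 1) / Nat.gcd 2 (Fintype.card F - 1)) := by
  have hG := card_G2_eq (F := F)
  by_cases hsmall : Fintype.card F ∈ ({7, 9, 11} : Finset ℕ)
  · simp only [Finset.mem_insert, Finset.mem_singleton] at hsmall
    have hdvd := card_dvd_factorial_index h4 hM
    have hmul := M.card_mul_index
    have key : ∀ N k L B : ℕ, Nat.card G2 = N → ¬ N ∣ k.factorial →
        (∀ i, i < k → i.factorial ∣ k.factorial) → L = N / (k + 1) → L < B → Nat.card M < B := by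
      intro N k L B hN hk hf hL hB
      have hi : k + 1 ≤ M.index := by
        by_contra hlt
        exact hk (hN ▸ hdvd.trans (Nat.factorial_dvd_factorial (by omega)))
      have : Nat.card M ≤ L := by
        rw [hL, Nat.le_div_iff_mul_le (Nat.succ_pos k), ← hN, ← hmul]
        exact Nat.mul_le_mul_left _ hi
      omega
    rcases hsmall with e | e | e <;> rw [e] at hG ⊢ <;> norm_num at hG ⊢
    · exact key 168 6 24 36 hG (by decide) (fun i hi => Nat.factorial_dvd_factorial hi.le) rfl
        (by norm_num)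
    · exact key 360 5 60 64 hG (by decide) (fun i hi => Nat.factorial_dvd_factorial hi.le) rfl
        (by norm_num)
    · exact key 660 10 60 100 hG (by decide) (fun i hi => Nat.factorial_dvd_factorial hi.le) rfl
        (by norm_num)
  · simp only [Finset.mem_insert, Finset.mem_singleton, not_or] at hsmall
    have hle := card_le_borel p (F := F) (by
      simp only [Finset.mem_insert, Finset.mem_singleton, not_or]; omega) hM
    refine lt_of_le_of_lt hle ((Nat.mul_lt_mul_right ?_).2 (by omega))
    have := (H42.card_G2_lower (F := F) h4).1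
    omega

end H57.PSL
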