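import Mathlib
import Cfsg.Agent.H57.BinaryTri

/-!
Binary coset actions: minimal intersections as trivial intersection subgroups, class counting.
-/

set_option autoImplicit false
set_option linter.unusedSectionVars false

namespace H57

open scoped Pointwise

variable {G : Type*} [Group G] [Finite G]

/-- In a binary action, a product of two elements of conjugates of a minimal intersection `R`
lying in `R` has both factors in `R`. -/
theorem IsBinaryCoset.factor_mem {H R : Subgroup G} (hB : IsBinaryCoset H) (hR : IsInter H R)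
    (hmin : ∀ S, IsInter H S → R ⊓ S = ⊥ ∨ R ≤ S) {u b c p r : G} (hu : u ∈ R) (hu1 : u ≠ 1)
    (hb : b ∈ R.map (MulAut.conj p).toMonoidHom) (hc : c ∈ R.map (MulAut.conj r).toMonoidHom)
    (hbc : u = b * c) : b ∈ R := by
  by_contra hbR
  have hRB : R ⊓ R.map (MulAut.conj p).toMonoidHom = ⊥ := by
    rcases hmin _ (hR.conj p) with h | h
    · exact h
    · exact absurd (eq_of_le_conj h ▸ hb) hbR
  have huC := hB.triangle_bot hR (hR.conj p) (hR.conj r) hRB hu hb hc hbc
  rw [inter_ti hR hmin hu huC hu1] at hc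
  exact hbR ((eq_mul_inv_of_mul_eq hbc.symm) ▸ R.mul_mem hu (R.inv_mem hc))

/-- The conjugate containing a given conjugate element. -/
theorem mem_conj_of_isConj {R : Subgroup G} {u b : G} (hu : u ∈ R) (h : IsConj u b) :
    ∃ p, b ∈ R.map (MulAut.conj p).toMonoidHom := by
  obtain ⟨p, hp⟩ := isConj_iff.mp h
  exact ⟨p, ⟨u, hu, hp⟩⟩

theorem IsBinaryCoset.factor_mem' {H R : Subgroup G} (hB : IsBinaryCoset H) (hR : IsInter H R)
    (hmin : ∀ S, IsInter H S → R ⊓ S = ⊥ ∨ R ≤ S) {v w u b c : G} (hu : u ∈ R) (hu1 : u ≠ 1)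
    (hv : v ∈ R) (hw : w ∈ R) (hb : IsConj v b) (hc : IsConj w c) (hbc : u = b * c) : b ∈ R := by
  obtain ⟨p, hp⟩ := mem_conj_of_isConj hv hb
  obtain ⟨r, hr⟩ := mem_conj_of_isConj hw hc
  exact hB.factor_mem hR hmin hu hu1 hp hr hbc

theorem mem_normalizer_of_map_eq {R : Subgroup G} {g : G}
    (h : R.map (MulAut.conj g).toMonoidHom = R) : g ∈ Subgroup.normalizer (R : Set G) := by
  rw [Subgroup.mem_normalizer_iff]
  intro x
  constructor
  · intro hx
    rw [← h]
    exact ⟨x, hx, rfl⟩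
  · intro hx
    rw [← h] at hx
    obtain ⟨y, hy, e⟩ := hx
    rwa [← (MulAut.conj g).injective (show MulAut.conj g y = MulAut.conj g x from e)]

/-- The TI property of a minimal intersection, for normalisers. -/
theorem ti_normalizer {H R : Subgroup G} (hR : IsInter H R)
    (hmin : ∀ S, IsInter H S → R ⊓ S = ⊥ ∨ R ≤ S) {g x : G} (hx : x ∈ R) (hx1 : x ≠ 1)
    (hgx : g * x * g⁻¹ ∈ R) : g ∈ Subgroup.normalizer (R : Set G) :=
  mem_normalizer_of_map_eq (inter_ti hR hmin hgx ⟨x, hx, rfl⟩ fun e => hx1 (conj_eq_one_iff.mp e))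

/-- An intersection, minimal among those containing an element of a conjugation invariant kind. -/
theorem exists_minimal_inter_with {H R₀ : Subgroup G} (P : G → Prop) (h0 : IsInter H R₀)
    (hne : ∃ x ∈ R₀, P x) :
    ∃ S, S ≤ R₀ ∧ IsInter H S ∧ (∃ x ∈ S, P x) ∧
      ∀ S', IsInter H S' → (∃ x ∈ S, x ∈ S' ∧ P x) → S ≤ S' := by
  obtain ⟨S, ⟨hle, hS, hSx⟩, hmin⟩ := exists_minimal_of_wellFoundedLT
    (fun S : Subgroup G => S ≤ R₀ ∧ IsInter H S ∧ ∃ x ∈ S, P x) ⟨R₀, le_rfl, h0, hne⟩
  refine ⟨S, hle, hS, hSx, fun S' hS' ⟨x, h1, h2, h3⟩ => ?_⟩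
  exact le_trans (hmin ⟨inf_le_left.trans hle, hS.inf hS', x, ⟨h1, h2⟩, h3⟩ inf_le_left) inf_le_right

/-- Counting a conjugacy class through the conjugates of a subgroup meeting it in a TI fashion. -/
theorem card_mul_centralizer_le (S : Subgroup G) (a : G) (X : Finset G)
    (hX : ∀ x ∈ X, x ∈ S ∧ IsConj a x)
    (hTI : ∀ g : G, ∀ x ∈ X, g * x * g⁻¹ ∈ S → g ∈ Subgroup.normalizer (S : Set G)) :
    X.card * Nat.card (Subgroup.centralizer ({a} : Set G)) ≤
      Nat.card (Subgroup.normalizer (S : Set G)) := by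
  classical
  set N := Subgroup.normalizer (S : Set G) with hN
  have hcls : Nat.card (MulAction.orbit (ConjAct G) a) * Nat.card (Subgroup.centralizer ({a} : Set G))
      = Nat.card G := by
    rw [mul_comm, ← Nat.card_congr (MulAction.orbitEquivQuotientStabilizer (ConjAct G) a).symm]
    have h1 := Subgroup.card_mul_index (MulAction.stabilizer (ConjAct G) a)
    have h2 : Nat.card (MulAction.stabilizer (ConjAct G) a) =
        Nat.card (Subgroup.centralizer ({a} : Set G)) := by
      refine Nat.card_congr ⟨fun g => ⟨ConjAct.ofConjAct g.1, ?_⟩,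
        fun g => ⟨ConjAct.toConjAct g.1, ?_⟩, fun g => rfl, fun g => rfl⟩
      · have := g.2
        rw [MulAction.mem_stabilizer_iff, ConjAct.smul_def] at this
        exact Subgroup.mem_centralizer_singleton_iff.mpr (mul_inv_eq_iff_eq_mul.mp this)
      · have := Subgroup.mem_centralizer_singleton_iff.mp g.2
        rw [MulAction.mem_stabilizer_iff, ConjAct.smul_def]
        simp [this]
    rw [← h2]
    simpa [Subgroup.index] using h1.trans (Nat.card_congr ConjAct.ofConjAct.toEquiv)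
  let f : (G ⧸ N) × X → MulAction.orbit (ConjAct G) a := fun z =>
    ⟨z.1.out * z.2.1 * z.1.out⁻¹, by
      obtain ⟨d, hd⟩ := isConj_iff.mp (hX _ z.2.2).2
      refine ⟨ConjAct.toConjAct (z.1.out * d), ?_⟩
      show ConjAct.toConjAct (z.1.out * d) • a = _
      rw [ConjAct.toConjAct_smul, ← hd]
      group⟩
  have hf : Function.Injective f := by
    rintro ⟨g, x, hx⟩ ⟨g', x', hx'⟩ e
    have e' : g.out * x * g.out⁻¹ = g'.out * x' * g'.out⁻¹ := congrArg Subtype.val e
    have hconj : (g'.out⁻¹ * g.out) * x * (g'.out⁻¹ * g.out)⁻¹ = x' := by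
      calc (g'.out⁻¹ * g.out) * x * (g'.out⁻¹ * g.out)⁻¹
          = g'.out⁻¹ * (g.out * x * g.out⁻¹) * g'.out := by group
        _ = x' := by rw [e']; group
    have hm := hTI _ x hx (hconj ▸ (hX x' hx').1)
    have hgg : g' = g := by
      rw [← g'.out_eq, ← g.out_eq]
      exact QuotientGroup.eq.mpr hm
    subst hgg
    have hxx : x = x' := by simpa using hconj
    subst hxx
    rfl
  have := Nat.card_le_card_of_injective f hf
  rw [Nat.card_prod, Nat.card_eq_fintype_card (α := X), Fintype.card_coe] at this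
  have h2 := Nat.mul_le_mul_right (Nat.card (Subgroup.centralizer ({a} : Set G))) this
  rw [hcls, ← Subgroup.card_mul_index N, mul_assoc] at h2
  have h3 : N.index * (X.card * Nat.card (Subgroup.centralizer ({a} : Set G))) ≤
      N.index * Nat.card N := by
    rw [mul_comm (Nat.card N)] at h2
    exact h2
  exact Nat.le_of_mul_le_mul_left h3 (Nat.pos_of_ne_zero N.index_ne_zero_of_finite)

/-- An action is binary when the product of two nontrivial elements of conjugates of `H` lies in a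
conjugate of `H` only inside one conjugate. -/
theorem isBinaryCoset_of_closed {H : Subgroup G}
    (hmul : ∀ s t r x y : G, s⁻¹ * x * s ∈ H → t⁻¹ * y * t ∈ H → r⁻¹ * (x * y) * r ∈ H →
      x ≠ 1 → y ≠ 1 → ∀ z, s⁻¹ * z * s ∈ H → t⁻¹ * z * t ∈ H) :
    IsBinaryCoset H := by
  intro n I J hn hp
  choose a ha using fun i => QuotientGroup.mk_surjective (I i)
  set S : Fin n → G → Prop := fun i x => (a i)⁻¹ * x * a i ∈ H with hS
  have hfix : ∀ i x, x • I i = I i ↔ S i x := fun i x => by rw [← ha i, smul_mk_eq_iff]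
  have hSmul : ∀ i x y, S i x → S i y → S i (x⁻¹ * y) := fun i x y h1 h2 => by
    have := H.mul_mem (H.inv_mem h1) h2
    show (a i)⁻¹ * (x⁻¹ * y) * a i ∈ H
    convert this using 1
    group
  have hSinv : ∀ i x, S i x → S i x⁻¹ := fun i x h => by
    have := H.inv_mem h
    show (a i)⁻¹ * x⁻¹ * a i ∈ H
    convert this using 1
    group
  let i0 : Fin n := ⟨0, by omega⟩
  have h1 : ∀ j, ∃ g : G, g • I i0 = J i0 ∧ g • I j = J j := fun j => by
    by_cases hj : i0 = j
    · obtain ⟨g, hg, -⟩ := hp i0 ⟨1, by omega⟩ (by simp [i0, Fin.ext_iff])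
      exact ⟨g, hg, hj ▸ hg⟩
    · exact hp i0 j hj
  choose k hk0 hk using h1
  have hc : ∀ j, S i0 ((k i0)⁻¹ * k j) := fun j =>
    (hfix _ _).mp (by rw [mul_smul, hk0, ← hk0 i0, inv_smul_smul])
  by_cases hall : ∀ j x, S i0 x → S j x
  · refine ⟨k i0, fun j => ?_⟩
    have := (hfix j _).mpr (hall j _ (hc j))
    rw [mul_smul, hk j, inv_smul_eq_iff] at this
    exact this.symm
  push Not at hall
  obtain ⟨j, w, hw0, hwj⟩ := hall
  refine ⟨k j, fun l => ?_⟩
  by_cases hl : ∀ x, S i0 x → S l x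
  · have hml : S i0 ((k l)⁻¹ * k j) := by
      have := hSmul i0 _ _ (hc l) (hc j)
      simpa [mul_assoc] using this
    have := (hfix l _).mpr (hl _ hml)
    rw [mul_smul, inv_smul_eq_iff, hk l] at this
    exact this
  push Not at hl
  obtain ⟨v, hv0, hvl⟩ := hl
  by_cases hjl : j = l
  · exact hjl ▸ hk j
  obtain ⟨g, hgj, hgl⟩ := hp j l hjl
  set A := (k l)⁻¹ * k j with hA
  set Y := (k l)⁻¹ * g with hY
  set X := g⁻¹ * k j with hX
  have hA0 : S i0 A := by simpa [hA, mul_assoc] using hSmul i0 _ _ (hc l) (hc j)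
  have hYl : S l Y := (hfix l _).mp (by rw [mul_smul, hgl, ← hk l, inv_smul_smul])
  have hXj : S j X := (hfix j _).mp (by rw [mul_smul, hk j, ← hgj, inv_smul_smul])
  have hAYX : A = Y * X := by rw [hA, hY, hX]; group
  suffices A = 1 by
    rw [hA, inv_mul_eq_one] at this
    exact this ▸ hk l
  by_contra hA1
  by_cases hX1 : X = 1
  · rw [hX1, mul_one] at hAYX
    refine hvl (hmul (a i0) (a l) (a i0) A A⁻¹ hA0 (hSinv l A (hAYX ▸ hYl)) ?_ hA1
      (inv_ne_one.mpr hA1) v hv0)
    rw [mul_inv_cancel]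
    simp
  exact hwj (hmul (a i0) (a j) (a l) A X⁻¹ hA0 (hSinv j X hXj)
    (by rw [hAYX, mul_inv_cancel_right]; exact hYl) hA1 (inv_ne_one.mpr hX1) w hw0)

end H57
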