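import Mathlib

/-!
Small facts about finite nilpotent groups used for nilpotent covers.
-/

set_option autoImplicit false
set_option linter.style.haveILetI false

namespace H57.Cover

variable {Γ : Type*} [Group Γ]

/-- In a finite nilpotent group the Sylow subgroup for a prime is unique. -/
theorem sylow_unique [Finite Γ] [Group.IsNilpotent Γ] {r : ℕ} [Fact r.Prime] (P Q : Sylow r Γ) :
    Q = P := by
  obtain ⟨g, hg⟩ := MulAction.exists_smul_eq Γ P Q
  rw [← hg]
  exact Sylow.smul_eq_of_normal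

/-- A Sylow subgroup of a finite nilpotent group contains every element of prime power order. -/
theorem mem_sylow_of_pow [Finite Γ] [Group.IsNilpotent Γ] {r : ℕ} [Fact r.Prime] (P : Sylow r Γ)
    {a : Γ} {i : ℕ} (ha : a ^ r ^ i = 1) : a ∈ (P : Subgroup Γ) := by
  have hp : IsPGroup r (Subgroup.zpowers a) := by
    rintro ⟨b, hb⟩
    obtain ⟨k, rfl⟩ := Subgroup.mem_zpowers_iff.1 hb
    refine ⟨i, Subtype.ext ?_⟩
    simp only [SubmonoidClass.coe_pow, OneMemClass.coe_one]
    rw [← zpow_natCast, ← zpow_mul, mul_comm, zpow_mul, zpow_natCast, ha, one_zpow]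
  obtain ⟨Q, hQ⟩ := hp.exists_le_sylow
  rw [← sylow_unique P Q]
  exact hQ (Subgroup.mem_zpowers a)

/-- Elements of coprime prime-power orders commute in a finite nilpotent group. -/
theorem commute_of_pow [Finite Γ] [Group.IsNilpotent Γ] {r s : ℕ} (hr : r.Prime) (hs : s.Prime)
    (hne : r ≠ s) {a b : Γ} {i j : ℕ} (ha : a ^ r ^ i = 1) (hb : b ^ s ^ j = 1) : a * b = b * a := by
  haveI := Fact.mk hr
  haveI := Fact.mk hs
  let P : Sylow r Γ := default
  let Q : Sylow s Γ := default
  exact Subgroup.commute_of_normal_of_disjoint (P : Subgroup Γ) (Q : Subgroup Γ) inferInstance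
    inferInstance (IsPGroup.disjoint_of_ne r s hne _ _ P.isPGroup' Q.isPGroup') a b
    (mem_sylow_of_pow P ha) (mem_sylow_of_pow Q hb)

/-- The centre of a finite nilpotent group has an element of every prime order dividing the group. -/
theorem exists_orderOf_mem_center [Finite Γ] [Group.IsNilpotent Γ] {l : ℕ} (hl : l.Prime)
    (hdvd : l ∣ Nat.card Γ) : ∃ z ∈ Subgroup.center Γ, orderOf z = l := by
  haveI := Fact.mk hl
  let P : Sylow l Γ := default
  haveI : Nontrivial (P : Subgroup Γ) :=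
    (Subgroup.nontrivial_iff_ne_bot _).2 (P.ne_bot_of_dvd_card hdvd)
  haveI := P.isPGroup'.center_nontrivial
  obtain ⟨k, hk⟩ := IsPGroup.iff_card.1 (P.isPGroup'.to_subgroup (Subgroup.center (P : Subgroup Γ)))
  have hk0 : k ≠ 0 := by
    intro h
    rw [h, pow_zero] at hk
    have := Finite.one_lt_card (α := Subgroup.center (P : Subgroup Γ))
    omega
  obtain ⟨w, hw⟩ := exists_prime_orderOf_dvd_card' (G := Subgroup.center (P : Subgroup Γ)) l
    (hk ▸ dvd_pow_self l hk0)
  refine ⟨((w : (P : Subgroup Γ)) : Γ), ?_, by rwa [Subgroup.orderOf_coe, Subgroup.orderOf_coe]⟩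
  rw [Subgroup.mem_center_iff]
  set C := Subgroup.centralizer ({((w : (P : Subgroup Γ)) : Γ)} : Set Γ) with hC
  suffices hCtop : C = ⊤ by
    intro g
    have hg : g ∈ C := hCtop ▸ Subgroup.mem_top g
    rw [hC, Subgroup.mem_centralizer_singleton_iff] at hg
    exact hg
  have hsyl : ∀ (r : ℕ) [Fact r.Prime] (Q : Sylow r Γ), (Q : Subgroup Γ) ≤ C := by
    intro r _ Q g hg
    rw [hC, Subgroup.mem_centralizer_singleton_iff]
    by_cases hrl : r = l
    · subst hrl
      have hgP : g ∈ (P : Subgroup Γ) := sylow_unique P Q ▸ hg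
      exact congrArg Subtype.val (Subgroup.mem_center_iff.1 w.2 ⟨g, hgP⟩)
    · exact Subgroup.commute_of_normal_of_disjoint (Q : Subgroup Γ) (P : Subgroup Γ) inferInstance
        inferInstance (IsPGroup.disjoint_of_ne r l hrl _ _ Q.isPGroup' P.isPGroup') g _ hg (w : (P : Subgroup Γ)).2
  refine Subgroup.eq_top_of_card_eq C (Nat.dvd_antisymm (Subgroup.card_subgroup_dvd_card C) ?_)
  rw [Nat.dvd_iff_prime_pow_dvd_dvd]
  intro r k hr hrk
  haveI := Fact.mk hr
  let Q : Sylow r Γ := default
  refine (Q.pow_dvd_card_of_pow_dvd_card hrk).trans ?_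
  exact Subgroup.card_dvd_of_le (hsyl r Q)

/-- A nontrivial finite nilpotent group has a nontrivial central element. -/
theorem exists_mem_center_ne_one [Finite Γ] [Group.IsNilpotent Γ] [Nontrivial Γ] :
    ∃ z ∈ Subgroup.center Γ, z ≠ 1 := by
  obtain ⟨l, hl, hdvd⟩ := Nat.exists_prime_and_dvd (Finite.one_lt_card (α := Γ)).ne'
  obtain ⟨z, hz, ho⟩ := exists_orderOf_mem_center hl hdvd
  exact ⟨z, hz, fun h => hl.one_lt.ne (by rw [← ho, h, orderOf_one])⟩

end H57.Cover
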