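import Mathlib
import Cfsg.Agent.H57.CoverGroup

/-!
Field subalgebras of degree `n` in the algebra of `n × n` matrices.
-/

set_option autoImplicit false
set_option linter.style.haveILetI false
set_option linter.unusedSectionVars false

open Polynomial Module

namespace H57.Cover

variable {F : Type*} [Field F] {n : ℕ}

/-- A subalgebra of matrices which is a field of degree `n`. -/
def IsFld (K : Subalgebra F (Matrix (Fin n) (Fin n) F)) : Prop :=
  IsField ↥K ∧ finrank F ↥K = n

variable [Fintype F]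

theorem isField_of_units [NeZero n] (K : Subalgebra F (Matrix (Fin n) (Fin n) F))
    (hc : ∀ a ∈ K, ∀ b ∈ K, a * b = b * a) (hu : ∀ a ∈ K, a ≠ 0 → IsUnit a) : IsField ↥K := by
  haveI : Finite ↥K := inferInstance
  refine ⟨⟨0, 1, fun h => ?_⟩, fun a b => Subtype.ext (hc a a.2 b b.2), ?_⟩
  · exact zero_ne_one (congrArg Subtype.val h : (0 : Matrix (Fin n) (Fin n) F) = 1)
  intro a ha
  have hau : IsUnit (a : Matrix (Fin n) (Fin n) F) := hu a a.2 fun h => ha (Subtype.ext h)
  have hinj : Function.Injective fun b : ↥K => a * b := by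
    intro b c hbc
    exact Subtype.ext (hau.mul_left_cancel (congrArg Subtype.val hbc))
  obtain ⟨b, hb⟩ := (Finite.injective_iff_surjective.1 hinj) 1
  exact ⟨b, hb⟩

namespace IsFld

variable {K : Subalgebra F (Matrix (Fin n) (Fin n) F)}

theorem comm (hK : IsFld K) {a b : Matrix (Fin n) (Fin n) F} (ha : a ∈ K) (hb : b ∈ K) :
    a * b = b * a := congrArg Subtype.val (hK.1.mul_comm ⟨a, ha⟩ ⟨b, hb⟩)

theorem exists_inv (hK : IsFld K) {a : Matrix (Fin n) (Fin n) F} (ha : a ∈ K) (h0 : a ≠ 0) :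
    ∃ b ∈ K, b * a = 1 := by
  obtain ⟨b, hb⟩ := hK.1.mul_inv_cancel (a := ⟨a, ha⟩) (fun h => h0 (congrArg Subtype.val h))
  exact ⟨b, b.2, (hK.comm b.2 ha).trans (congrArg Subtype.val hb)⟩

theorem mul_eq_zero (hK : IsFld K) {a : Matrix (Fin n) (Fin n) F} (ha : a ∈ K)
    {b : Matrix (Fin n) (Fin n) F} (hab : a * b = 0) : a = 0 ∨ b = 0 := by
  by_cases h0 : a = 0
  · exact Or.inl h0
  obtain ⟨c, -, hc⟩ := hK.exists_inv ha h0
  exact Or.inr (by rw [← one_mul b, ← hc, mul_assoc, hab, mul_zero])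

theorem pow_eq_zero (hK : IsFld K) {a : Matrix (Fin n) (Fin n) F} (ha : a ∈ K) {m : ℕ}
    (h : a ^ m = 0) : a = 0 := by
  induction m with
  | zero =>
    rw [pow_zero] at h
    rw [← one_mul a, h, zero_mul]
  | succ m ih =>
    rw [pow_succ'] at h
    exact (hK.mul_eq_zero ha h).elim id ih

theorem eq_zero_of_mulVec (hK : IsFld K) {a : Matrix (Fin n) (Fin n) F} (ha : a ∈ K)
    {v : Fin n → F} (hv : v ≠ 0) (h : a.mulVec v = 0) : a = 0 := by
  by_contra h0
  obtain ⟨b, -, hb⟩ := hK.exists_inv ha h0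
  exact hv (by rw [← Matrix.one_mulVec v, ← hb, ← Matrix.mulVec_mulVec, h, Matrix.mulVec_zero])

theorem exists_mulVec_eq (hK : IsFld K) {v : Fin n → F} (hv : v ≠ 0) (w : Fin n → F) :
    ∃ a ∈ K, a.mulVec v = w := by
  let ev : ↥K →ₗ[F] (Fin n → F) :=
    { toFun := fun a => (a : Matrix (Fin n) (Fin n) F).mulVec v
      map_add' := fun a b => by simp [Matrix.add_mulVec]
      map_smul' := fun c a => by simp [Matrix.smul_mulVec] }
  have hinj : Function.Injective ev := by
    rw [injective_iff_map_eq_zero]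
    intro a ha
    exact Subtype.ext (hK.eq_zero_of_mulVec a.2 hv ha)
  obtain ⟨a, ha⟩ := (LinearMap.injective_iff_surjective_of_finrank_eq_finrank
    (by rw [hK.2, finrank_fin_fun])).1 hinj w
  exact ⟨a, a.2, ha⟩

theorem ne_zero (hK : IsFld K) : NeZero n := by
  refine ⟨fun h => ?_⟩
  obtain ⟨a, b, hab⟩ := hK.1.exists_pair_ne
  subst h
  exact hab (Subtype.ext (Matrix.ext fun i => i.elim0))

/-- A field of degree `n` is its own centraliser. -/
theorem mem_of_commute (hK : IsFld K) {y : Matrix (Fin n) (Fin n) F}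
    (hy : ∀ a ∈ K, y * a = a * y) : y ∈ K := by
  haveI := hK.ne_zero
  obtain ⟨v, hv⟩ := exists_ne (0 : Fin n → F)
  obtain ⟨a, ha, hav⟩ := hK.exists_mulVec_eq hv (y.mulVec v)
  suffices y = a by rwa [this]
  refine Matrix.ext_of_mulVec_single fun i => ?_
  obtain ⟨b, hb, hbv⟩ := hK.exists_mulVec_eq hv (Pi.single i 1)
  rw [← hbv, Matrix.mulVec_mulVec, Matrix.mulVec_mulVec, hy b hb, hK.comm ha hb,
    ← Matrix.mulVec_mulVec, ← Matrix.mulVec_mulVec, hav]

theorem mem_of_commute_gen (hK : IsFld K) {x y : Matrix (Fin n) (Fin n) F}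
    (hx : Algebra.adjoin F ({x} : Set (Matrix (Fin n) (Fin n) F)) = K) (hy : y * x = x * y) :
    y ∈ K := by
  refine hK.mem_of_commute fun a ha => ?_
  have : K ≤ Subalgebra.centralizer F ({y} : Set (Matrix (Fin n) (Fin n) F)) := by
    rw [← hx]
    refine Algebra.adjoin_le ?_
    intro z hz
    rw [Set.mem_singleton_iff] at hz
    subst hz
    intro b hb
    rw [Set.mem_singleton_iff] at hb
    subst hb
    exact hy
  exact this ha y rfl

theorem card_eq (hK : IsFld K) : Nat.card ↥K = Fintype.card F ^ n := by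
  rw [Module.natCard_eq_pow_finrank (K := F), hK.2, Nat.card_eq_fintype_card]

theorem le_antisymm {L : Subalgebra F (Matrix (Fin n) (Fin n) F)} (hK : IsFld K) (hL : IsFld L)
    (h : L ≤ K) : L = K := by
  apply Subalgebra.toSubmodule_injective
  exact Submodule.eq_of_le_of_finrank_eq h (hL.2.trans hK.2.symm)

/-- An element of `K` fixed by no proper power of Frobenius generates `K`. -/
theorem adjoin_eq (hK : IsFld K) {x : Matrix (Fin n) (Fin n) F} (hx : x ∈ K)
    (hdeg : ∀ e, 0 < e → e < n → x ^ (Fintype.card F ^ e) ≠ x) :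
    Algebra.adjoin F ({x} : Set (Matrix (Fin n) (Fin n) F)) = K := by
  haveI := hK.ne_zero
  set S := Algebra.adjoin F ({x} : Set (Matrix (Fin n) (Fin n) F)) with hS
  have hle : S ≤ K := Algebra.adjoin_le (Set.singleton_subset_iff.2 hx)
  have hSF : IsField ↥S := isField_of_units S (fun a ha b hb => hK.comm (hle ha) (hle hb))
    (fun a ha h0 => by
      obtain ⟨b, hb, hba⟩ := hK.exists_inv (hle ha) h0
      exact ⟨⟨a, b, (hK.comm (hle ha) hb).trans hba, hba⟩, rfl⟩)
  have hcard : Nat.card ↥S = Fintype.card F ^ finrank F ↥S := by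
    rw [Module.natCard_eq_pow_finrank (K := F), Nat.card_eq_fintype_card]
  have hfr : finrank F ↥(Subalgebra.toSubmodule S) ≤ finrank F ↥(Subalgebra.toSubmodule K) :=
    Submodule.finrank_mono hle
  have hxS : x ∈ S := Algebra.subset_adjoin rfl
  have hpos : 0 < finrank F ↥S := by
    haveI : Nontrivial ↥S := ⟨hSF.exists_pair_ne⟩
    exact finrank_pos
  have hpow : x ^ (Fintype.card F ^ finrank F ↥S) = x := by
    letI : Field ↥S := hSF.toField
    haveI : Fintype ↥S := Fintype.ofFinite _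
    have := FiniteField.pow_card (⟨x, hxS⟩ : ↥S)
    rw [← Nat.card_eq_fintype_card, hcard] at this
    exact congrArg Subtype.val this
  have hge : n ≤ finrank F ↥S := by
    by_contra hlt
    exact hdeg _ hpos (by omega) hpow
  apply Subalgebra.toSubmodule_injective
  refine Submodule.eq_of_le_of_finrank_le hle ?_
  change finrank F ↥K ≤ finrank F ↥S
  rw [hK.2]
  exact hge

/-- An element of `K` of order `k`, when `q` has order at least `n` modulo `k`, generates `K`. -/
theorem adjoin_eq_of_order (hK : IsFld K) {k : ℕ} {x : GL (Fin n) F}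
    (hx : (x : Matrix (Fin n) (Fin n) F) ∈ K) (ho : orderOf x = k)
    (hk : ∀ e, 0 < e → e < n → ¬ k ∣ Fintype.card F ^ e - 1) :
    Algebra.adjoin F ({(x : Matrix (Fin n) (Fin n) F)} : Set (Matrix (Fin n) (Fin n) F)) = K := by
  refine hK.adjoin_eq hx fun e he hen h => hk e he hen ?_
  rw [← ho]
  apply orderOf_dvd_of_pow_eq_one
  have h1 : x ^ (Fintype.card F ^ e) = x := Units.ext (by simpa using h)
  have h2 : Fintype.card F ^ e = (Fintype.card F ^ e - 1) + 1 :=
    (Nat.sub_add_cancel (Nat.one_le_pow _ _ Fintype.card_pos)).symm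
  rw [h2, pow_succ] at h1
  exact mul_eq_right.1 h1

theorem exists_orderOf (hK : IsFld K) {k : ℕ} (hk : k ∣ Fintype.card F ^ n - 1) :
    ∃ x : GL (Fin n) F, (x : Matrix (Fin n) (Fin n) F) ∈ K ∧ orderOf x = k := by
  classical
  letI : Field ↥K := hK.1.toField
  haveI : Fintype ↥K := Fintype.ofFinite _
  have hcard : Fintype.card (↥K)ˣ = Fintype.card F ^ n - 1 := by
    rw [Fintype.card_units, ← Nat.card_eq_fintype_card, hK.card_eq]
  obtain ⟨x, hx⟩ := IsCyclic.exists_generator (α := (↥K)ˣ)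
  have hox : orderOf x = Fintype.card F ^ n - 1 := by
    rw [orderOf_eq_card_of_forall_mem_zpowers hx, Nat.card_eq_fintype_card, hcard]
  let ψ : (↥K)ˣ →* GL (Fin n) F := Units.map (K.val : ↥K →* Matrix (Fin n) (Fin n) F)
  have hψ : Function.Injective ψ := Units.map_injective Subtype.val_injective
  refine ⟨ψ (x ^ ((Fintype.card F ^ n - 1) / k)), ((x ^ ((Fintype.card F ^ n - 1) / k) : (↥K)ˣ) : ↥K).2, ?_⟩
  rw [orderOf_injective ψ hψ]
  have hpos : 0 < Fintype.card F ^ n - 1 := hcard ▸ Fintype.card_pos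
  obtain ⟨c, hc⟩ := hk
  have hk0 : k ≠ 0 := by rintro rfl; simp at hc; omega
  have hc0 : c ≠ 0 := by rintro rfl; simp at hc; omega
  rw [hc, Nat.mul_div_cancel_left _ (Nat.pos_of_ne_zero hk0),
    orderOf_pow_of_dvd hc0 (by rw [hox, hc]; exact dvd_mul_left c k), hox, hc,
    Nat.mul_div_cancel _ (Nat.pos_of_ne_zero hc0)]

/-- An element of `K` of prime order in a nilpotent group meeting a generator of `K` is central. -/
theorem mem_center_of_prime (hK : IsFld K) {Γ : Subgroup (GL (Fin n) F)} [Group.IsNilpotent ↥Γ]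
    {x y : ↥Γ} {l : ℕ} (hl : l.Prime)
    (hx : Algebra.adjoin F ({((x : GL (Fin n) F) : Matrix (Fin n) (Fin n) F)} :
      Set (Matrix (Fin n) (Fin n) F)) = K)
    (hy : ((y : GL (Fin n) F) : Matrix (Fin n) (Fin n) F) ∈ K) (ho : orderOf y = l) :
    y ∈ Subgroup.center ↥Γ := by
  haveI : NeZero l := ⟨hl.ne_zero⟩
  have hdvd : l ∣ Nat.card ↥Γ := ho ▸ orderOf_dvd_natCard y
  obtain ⟨z, hz, hzo⟩ := exists_orderOf_mem_center hl hdvd
  have hzK : ((z : GL (Fin n) F) : Matrix (Fin n) (Fin n) F) ∈ K := by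
    refine hK.mem_of_commute_gen hx ?_
    exact congrArg (fun w : ↥Γ => ((w : GL (Fin n) F) : Matrix (Fin n) (Fin n) F))
      (Subgroup.mem_center_iff.1 hz x).symm
  letI : Field ↥K := hK.1.toField
  have hprim : IsPrimitiveRoot (⟨_, hzK⟩ : ↥K) l := by
    rw [IsPrimitiveRoot.iff_orderOf,
      ← orderOf_injective (K.val : ↥K →* Matrix (Fin n) (Fin n) F) Subtype.val_injective]
    change orderOf ((z : GL (Fin n) F) : Matrix (Fin n) (Fin n) F) = l
    rw [orderOf_units, Subgroup.orderOf_coe, hzo]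
  have hpow : (⟨_, hy⟩ : ↥K) ^ l = 1 := by
    apply Subtype.ext
    rw [SubmonoidClass.coe_pow, OneMemClass.coe_one]
    have : y ^ l = 1 := ho ▸ pow_orderOf_eq_one y
    simpa using congrArg (fun w : ↥Γ => ((w : GL (Fin n) F) : Matrix (Fin n) (Fin n) F)) this
  obtain ⟨i, -, hi⟩ := hprim.eq_pow_of_pow_eq_one hpow
  have : y = z ^ i := by
    apply Subtype.ext
    apply Units.ext
    have := congrArg Subtype.val hi
    simpa using this.symm
  rw [this]
  exact pow_mem hz i

end IsFld

/-- If `g` has no invariant subspace of small positive dimension then it lies in a field of degree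
`n`. -/
theorem exists_fld_of_irreducible [NeZero n] (g : GL (Fin n) F)
    (hg : ∀ W : Submodule F (Fin n → F), 1 ≤ finrank F ↥W → finrank F ↥W ≤ n / 2 →
      W.map (Matrix.mulVecLin (g : Matrix (Fin n) (Fin n) F)) ≠ W) :
    ∃ K, IsFld K ∧ (g : Matrix (Fin n) (Fin n) F) ∈ K := by
  set X₀ := (g : Matrix (Fin n) (Fin n) F) with hX₀
  have hinjg : Function.Injective (Matrix.mulVecLin X₀) :=
    Matrix.mulVec_injective_of_isUnit g.isUnit
  -- invariant subspaces are not small
  have hsmall : ∀ W : Submodule F (Fin n → F), W ≠ ⊥ →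
      (∀ v ∈ W, X₀.mulVec v ∈ W) → n / 2 < finrank F ↥W := by
    intro W hW hinv
    by_contra hle
    refine hg W ?_ (by omega) ?_
    · exact Nat.one_le_iff_ne_zero.2 fun h => hW (Submodule.finrank_eq_zero.1 h)
    · refine Submodule.eq_of_le_of_finrank_eq ?_
        (LinearEquiv.finrank_eq (Submodule.equivMapOfInjective _ hinjg W).symm)
      rintro w ⟨v, hv, rfl⟩
      exact hinv v hv
  -- the annihilators of non-zero vectors have large degree
  have hann : ∀ f : F[X], f ≠ 0 → ∀ v : Fin n → F, v ≠ 0 → (aeval X₀ f).mulVec v = 0 →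
      n / 2 < f.natDegree := by
    intro f hf v hv hfv
    set m := f.natDegree with hm
    set f₁ := f * C f.leadingCoeff⁻¹ with hf₁
    have hf₁m : f₁.Monic := monic_mul_leadingCoeff_inv hf
    have hf₁d : f₁.natDegree = m := natDegree_mul_leadingCoeff_inv f hf
    have hf₁v : (aeval X₀ f₁).mulVec v = 0 := by
      rw [hf₁, mul_comm, map_mul, ← Matrix.mulVec_mulVec, hfv, Matrix.mulVec_zero]
    let L : F[X] →ₗ[F] (Fin n → F) :=
      { toFun := fun p => (aeval X₀ p).mulVec v
        map_add' := fun a b => by simp [Matrix.add_mulVec]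
        map_smul' := fun c a => by simp [Matrix.smul_mulVec] }
    have hW : LinearMap.range L ≤ (degreeLT F m).map L := by
      rintro w ⟨p, rfl⟩
      refine ⟨p %ₘ f₁, ?_, ?_⟩
      · rw [SetLike.mem_coe, mem_degreeLT]
        calc (p %ₘ f₁).degree < f₁.degree := degree_modByMonic_lt p hf₁m
          _ = (m : WithBot ℕ) := by rw [degree_eq_natDegree hf₁m.ne_zero, hf₁d]
      · conv_rhs => rw [← modByMonic_add_div p f₁]
        change (aeval X₀ (p %ₘ f₁)).mulVec v = (aeval X₀ (p %ₘ f₁ + f₁ * (p /ₘ f₁))).mulVec v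
        rw [map_add, mul_comm f₁, map_mul, Matrix.add_mulVec, ← Matrix.mulVec_mulVec, hf₁v,
          Matrix.mulVec_zero, add_zero]
    have hdim : finrank F ↥(LinearMap.range L) ≤ m := by
      haveI : FiniteDimensional F (degreeLT F m) :=
        LinearEquiv.finiteDimensional (degreeLTEquiv F m).symm
      refine (Submodule.finrank_mono hW).trans ((Submodule.finrank_map_le _ _).trans ?_)
      rw [LinearEquiv.finrank_eq (degreeLTEquiv F m), finrank_fin_fun]
    refine lt_of_lt_of_le (hsmall _ ?_ ?_) hdim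
    · refine (Submodule.ne_bot_iff _).2 ⟨v, ⟨1, ?_⟩, hv⟩
      simp [L]
    · rintro w ⟨p, rfl⟩
      refine ⟨X * p, ?_⟩
      simp [L, Matrix.mulVec_mulVec]
  -- minimal polynomial
  have hint : IsIntegral F X₀ := IsIntegral.of_finite F X₀
  set μ := minpoly F X₀ with hμ
  have hμn : μ.natDegree ≤ n := by
    refine (natDegree_le_of_dvd (Matrix.minpoly_dvd_charpoly X₀) (Matrix.charpoly_monic X₀).ne_zero).trans ?_
    rw [Matrix.charpoly_natDegree_eq_dim, Fintype.card_fin]
  have hker : ∀ a b : F[X], a * b = μ → b ≠ 0 → ¬ IsUnit a → n / 2 < a.natDegree := by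
    intro a b hab hb ha
    have ha0 : a ≠ 0 := fun h => minpoly.ne_zero hint (by rw [← hμ, ← hab, h, zero_mul])
    have hbd : b.degree < μ.degree := by
      rw [← hab, mul_comm, degree_mul, degree_eq_natDegree hb, degree_eq_natDegree ha0]
      have : a.natDegree ≠ 0 := fun h => ha (by
        rw [eq_C_of_natDegree_eq_zero h]
        refine isUnit_C.2 (IsUnit.mk0 _ ?_)
        intro h0
        exact ha0 (by rw [eq_C_of_natDegree_eq_zero h, h0, C_0]))
      exact_mod_cast (Nat.lt_add_of_pos_right (Nat.pos_of_ne_zero this))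
    have hbX : aeval X₀ b ≠ 0 := fun h => (minpoly.degree_le_of_ne_zero F X₀ hb h).not_gt hbd
    obtain ⟨w, hw⟩ : ∃ w, (aeval X₀ b).mulVec w ≠ 0 := by
      by_contra h
      push Not at h
      exact hbX (Matrix.ext_of_mulVec_single fun i => by rw [h, Matrix.zero_mulVec])
    refine hann a ha0 _ hw ?_
    rw [Matrix.mulVec_mulVec, ← map_mul, hab, minpoly.aeval, Matrix.zero_mulVec]
  have hirr : Irreducible μ := by
    refine ⟨minpoly.not_isUnit F X₀, fun a b hab => ?_⟩
    by_contra h
    push Not at h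
    have hb0 : b ≠ 0 := fun hb => minpoly.ne_zero hint (by rw [← hμ, hab, hb, mul_zero])
    have ha0 : a ≠ 0 := fun ha => minpoly.ne_zero hint (by rw [← hμ, hab, ha, zero_mul])
    have h1 := hker a b hab.symm hb0 h.1
    have h2 := hker b a (by rw [mul_comm, ← hab]) ha0 h.2
    have : μ.natDegree = a.natDegree + b.natDegree := by rw [hab, natDegree_mul ha0 hb0]
    omega
  set K := Algebra.adjoin F ({X₀} : Set (Matrix (Fin n) (Fin n) F)) with hK
  have hKp : ∀ a ∈ K, ∃ p : F[X], aeval X₀ p = a := by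
    intro a ha
    rw [hK, Algebra.adjoin_singleton_eq_range_aeval] at ha
    exact ha
  have hgK : X₀ ∈ K := Algebra.subset_adjoin rfl
  have hunit : ∀ a ∈ K, a ≠ 0 → IsUnit a := by
    intro a ha h0
    obtain ⟨p, rfl⟩ := hKp a ha
    have hnd : ¬ μ ∣ p := fun hd => h0 (by
      obtain ⟨c, rfl⟩ := hd
      rw [map_mul, hμ, minpoly.aeval, zero_mul])
    obtain ⟨u, w, huw⟩ := hirr.coprime_iff_not_dvd.2 hnd
    have h1 : aeval X₀ w * aeval X₀ p = 1 := by
      have := congrArg (aeval X₀) huw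
      rwa [map_add, map_mul, map_mul, hμ, minpoly.aeval, mul_zero, zero_add, map_one] at this
    exact ⟨⟨aeval X₀ p, aeval X₀ w, by rw [← map_mul, mul_comm, map_mul, h1], h1⟩, rfl⟩
  have hcomm : ∀ a ∈ K, ∀ b ∈ K, a * b = b * a := by
    intro a ha b hb
    obtain ⟨p, rfl⟩ := hKp a ha
    obtain ⟨r, rfl⟩ := hKp b hb
    rw [← map_mul, mul_comm, map_mul]
  refine ⟨K, ⟨isField_of_units K hcomm hunit, ?_⟩, hgK⟩
  have hinj : ∀ v : Fin n → F, v ≠ 0 → ∀ a ∈ K, a.mulVec v = 0 → a = 0 := by
    intro v hv a ha hav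
    by_contra h0
    obtain ⟨u, hu⟩ := hunit a ha h0
    apply hv
    rw [← Matrix.one_mulVec v, ← u.inv_mul, hu, ← Matrix.mulVec_mulVec, hav, Matrix.mulVec_zero]
  obtain ⟨v, hv⟩ := exists_ne (0 : Fin n → F)
  let ev : ↥K →ₗ[F] (Fin n → F) :=
    { toFun := fun a => (a : Matrix (Fin n) (Fin n) F).mulVec v
      map_add' := fun a b => by simp [Matrix.add_mulVec]
      map_smul' := fun c a => by simp [Matrix.smul_mulVec] }
  have hev : Function.Injective ev := by
    rw [injective_iff_map_eq_zero]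
    exact fun a ha => Subtype.ext (hinj v hv a a.2 ha)
  refine Nat.le_antisymm (by simpa using LinearMap.finrank_le_finrank_of_injective hev) ?_
  by_contra hlt
  have hsurj : LinearMap.range ev ≠ ⊤ := fun h => hlt (by
    rw [← LinearMap.finrank_range_of_inj hev, h, finrank_top, finrank_fin_fun])
  obtain ⟨v', hv'⟩ : ∃ v', v' ∉ LinearMap.range ev := by
    by_contra h
    push Not at h
    exact hsurj (eq_top_iff.2 fun w _ => h w)
  have hd : n / 2 < finrank F ↥(LinearMap.range ev) := by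
    refine hsmall _ ?_ ?_
    · refine (Submodule.ne_bot_iff _).2 ⟨v, ⟨1, ?_⟩, hv⟩
      simp [ev]
    · rintro w ⟨a, rfl⟩
      refine ⟨⟨X₀, hgK⟩ * a, ?_⟩
      simp [ev, Matrix.mulVec_mulVec]
  rw [LinearMap.finrank_range_of_inj hev] at hd
  let ev₂ : ↥K × ↥K →ₗ[F] (Fin n → F) :=
    { toFun := fun a => (a.1 : Matrix (Fin n) (Fin n) F).mulVec v
        + (a.2 : Matrix (Fin n) (Fin n) F).mulVec v'
      map_add' := fun a b => by simp [Matrix.add_mulVec]; abel
      map_smul' := fun c a => by simp [Matrix.smul_mulVec, smul_add] }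
  have hev₂ : Function.Injective ev₂ := by
    rw [injective_iff_map_eq_zero]
    rintro ⟨a, b⟩ hab
    change (a : Matrix (Fin n) (Fin n) F).mulVec v + (b : Matrix (Fin n) (Fin n) F).mulVec v' = 0 at hab
    by_cases hb : (b : Matrix (Fin n) (Fin n) F) = 0
    · rw [hb, Matrix.zero_mulVec, add_zero] at hab
      have ha := hinj v hv a a.2 hab
      exact Prod.ext (Subtype.ext ha) (Subtype.ext hb)
    · exfalso
      obtain ⟨c, hc⟩ := (isField_of_units K hcomm hunit).mul_inv_cancel (a := b)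
        (fun h => hb (congrArg Subtype.val h))
      refine hv' ⟨-(c * a), ?_⟩
      have hcb : (c : Matrix (Fin n) (Fin n) F) * b = 1 :=
        (hcomm _ c.2 _ b.2).trans (congrArg Subtype.val hc)
      have : (b : Matrix (Fin n) (Fin n) F).mulVec v' = -((a : Matrix (Fin n) (Fin n) F).mulVec v) :=
        eq_neg_of_add_eq_zero_right hab
      change ((-(c * a) : ↥K) : Matrix (Fin n) (Fin n) F).mulVec v = v'
      rw [NegMemClass.coe_neg, MulMemClass.coe_mul, Matrix.neg_mulVec, ← Matrix.mulVec_mulVec,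
        ← Matrix.mulVec_neg, ← this, Matrix.mulVec_mulVec, hcb, Matrix.one_mulVec]
  have := LinearMap.finrank_le_finrank_of_injective hev₂
  rw [finrank_prod, finrank_fin_fun] at this
  omega

end H57.Cover
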