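import Mathlib
import Cfsg.Agent.H37.Sylow
import Cfsg.Agent.H57.CoverGroup

/-!
Flags, regular unipotent elements and the count of flags through a subspace.
-/

set_option autoImplicit false
set_option linter.style.haveILetI false
set_option linter.unusedSectionVars false

open Module Matrix

namespace H57.Cover

variable {F : Type*} [Field F] {n : ℕ}

/-- Image of a subspace under an invertible matrix. -/
def app (g : GL (Fin n) F) (W : Submodule F (Fin n → F)) : Submodule F (Fin n → F) :=
  W.map (Matrix.mulVecLin (g : Matrix (Fin n) (Fin n) F))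

theorem app_mul (g h : GL (Fin n) F) (W : Submodule F (Fin n → F)) :
    app (g * h) W = app g (app h W) := by
  unfold app
  rw [Units.val_mul, Matrix.mulVecLin_mul, Submodule.map_comp]

theorem app_one (W : Submodule F (Fin n → F)) : app (1 : GL (Fin n) F) W = W := by
  unfold app
  rw [Units.val_one, Matrix.mulVecLin_one, Submodule.map_id]

theorem app_inv_app (g : GL (Fin n) F) (W : Submodule F (Fin n → F)) : app g⁻¹ (app g W) = W := by
  rw [← app_mul, inv_mul_cancel, app_one]

theorem app_injective (g : GL (Fin n) F) : Function.Injective (app g) :=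
  Function.LeftInverse.injective (app_inv_app g)

theorem mem_app {g : GL (Fin n) F} {W : Submodule F (Fin n → F)} {w : Fin n → F} :
    w ∈ app g W ↔ ∃ v ∈ W, (g : Matrix (Fin n) (Fin n) F).mulVec v = w := Iff.rfl

theorem app_finrank (g : GL (Fin n) F) (W : Submodule F (Fin n → F)) :
    finrank F ↥(app g W) = finrank F ↥W :=
  (LinearEquiv.finrank_eq (Submodule.equivMapOfInjective _
    (Matrix.mulVec_injective_of_isUnit g.isUnit) W)).symm

/-- The invertible matrix of a linear equivalence. -/
noncomputable def ofEquiv (e : (Fin n → F) ≃ₗ[F] (Fin n → F)) : GL (Fin n) F :=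
  Matrix.GeneralLinearGroup.toLin.symm (LinearMap.GeneralLinearGroup.ofLinearEquiv e)

theorem ofEquiv_mulVec (e : (Fin n → F) ≃ₗ[F] (Fin n → F)) (v : Fin n → F) :
    (ofEquiv e : Matrix (Fin n) (Fin n) F).mulVec v = e v := by
  have h : Matrix.GeneralLinearGroup.toLin (ofEquiv e) =
      LinearMap.GeneralLinearGroup.ofLinearEquiv e := MulEquiv.apply_symm_apply _ _
  have h2 := congrArg (fun u : LinearMap.GeneralLinearGroup F (Fin n → F) =>
    (u : (Fin n → F) →ₗ[F] (Fin n → F)) v) h
  exact h2

/-- The span of the first `i` standard basis vectors. -/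
def stdS (F : Type*) [Field F] (n i : ℕ) : Submodule F (Fin n → F) where
  carrier := {v | ∀ j : Fin n, i ≤ (j : ℕ) → v j = 0}
  add_mem' {a b} ha hb j hj := by simp [ha j hj, hb j hj]
  zero_mem' j _ := rfl
  smul_mem' c a ha j hj := by simp [ha j hj]

theorem mem_stdS {i : ℕ} {v : Fin n → F} :
    v ∈ stdS F n i ↔ ∀ j : Fin n, i ≤ (j : ℕ) → v j = 0 := Iff.rfl

theorem stdS_eq_top {i : ℕ} (h : n ≤ i) : stdS F n i = ⊤ :=
  eq_top_iff.2 fun v _ j hj => absurd j.2 (by omega)

theorem single_mem_stdS {i : ℕ} {j : Fin n} :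
    Pi.single j (1 : F) ∈ stdS F n i ↔ (j : ℕ) < i := by
  constructor
  · intro h
    by_contra hji
    simpa using h j (not_lt.1 hji)
  · intro h k hk
    have : k ≠ j := by rintro rfl; omega
    simp [this]

theorem finrank_stdS {i : ℕ} (h : i ≤ n) : finrank F ↥(stdS F n i) = i := by
  have e : ↥(stdS F n i) ≃ₗ[F] (Fin i → F) :=
    { toFun := fun v j => (v : Fin n → F) (Fin.castLE h j)
      map_add' := fun a b => rfl
      map_smul' := fun c a => rfl
      invFun := fun w => ⟨fun j => if hj : (j : ℕ) < i then w ⟨j, hj⟩ else 0, fun j hj => by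
        simp [not_lt.2 hj]⟩
      left_inv := fun v => by
        apply Subtype.ext
        funext j
        by_cases hj : (j : ℕ) < i
        · simp [hj]
        · simp [hj, v.2 j (not_lt.1 hj)]
      right_inv := fun w => by
        funext j
        simp }
  rw [LinearEquiv.finrank_eq e, finrank_fin_fun]

/-- The flag of a standard basis moved by `g`. -/
def flagOf (g : GL (Fin n) F) : ℕ → Submodule F (Fin n → F) := fun i => app g (stdS F n i)

/-- The kernels of the powers of `u - 1`. -/
def kerFlag (u : GL (Fin n) F) : ℕ → Submodule F (Fin n → F) := fun i =>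
  LinearMap.ker (Matrix.mulVecLin (((u : Matrix (Fin n) (Fin n) F) - 1) ^ i))

theorem conj_sub_one (g u : GL (Fin n) F) :
    ((g * u * g⁻¹ : GL (Fin n) F) : Matrix (Fin n) (Fin n) F) - 1 =
      (g : Matrix (Fin n) (Fin n) F) * ((u : Matrix (Fin n) (Fin n) F) - 1) *
        ((g⁻¹ : GL (Fin n) F) : Matrix (Fin n) (Fin n) F) := by
  rw [mul_sub, sub_mul, mul_one, Units.val_mul, Units.val_mul, ← Units.val_mul g g⁻¹,
    mul_inv_cancel, Units.val_one]

theorem conj_sub_one_pow (g u : GL (Fin n) F) (i : ℕ) :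
    (((g * u * g⁻¹ : GL (Fin n) F) : Matrix (Fin n) (Fin n) F) - 1) ^ i =
      (g : Matrix (Fin n) (Fin n) F) * ((u : Matrix (Fin n) (Fin n) F) - 1) ^ i *
        ((g⁻¹ : GL (Fin n) F) : Matrix (Fin n) (Fin n) F) := by
  rw [conj_sub_one]
  exact Units.conj_pow g _ i

theorem kerFlag_conj (g u : GL (Fin n) F) (i : ℕ) :
    kerFlag (g * u * g⁻¹) i = app g (kerFlag u i) := by
  ext w
  unfold kerFlag
  rw [LinearMap.mem_ker, Matrix.mulVecLin_apply, conj_sub_one_pow, mem_app]
  constructor
  · intro h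
    refine ⟨((g⁻¹ : GL (Fin n) F) : Matrix (Fin n) (Fin n) F).mulVec w, ?_, ?_⟩
    · rw [LinearMap.mem_ker, Matrix.mulVecLin_apply, Matrix.mulVec_mulVec]
      apply Matrix.mulVec_injective_of_isUnit g.isUnit
      rw [Matrix.mulVec_mulVec, Matrix.mulVec_zero, ← mul_assoc, h]
    · rw [Matrix.mulVec_mulVec, ← Units.val_mul, mul_inv_cancel, Units.val_one, Matrix.one_mulVec]
  · rintro ⟨v, hv, rfl⟩
    rw [LinearMap.mem_ker, Matrix.mulVecLin_apply] at hv
    rw [Matrix.mulVec_mulVec, mul_assoc _ _ (g : Matrix (Fin n) (Fin n) F), ← Units.val_mul,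
      inv_mul_cancel, Units.val_one, mul_one, ← Matrix.mulVec_mulVec, hv, Matrix.mulVec_zero]

/-- A regular element: `u - 1` has kernel of dimension at most one. -/
def Reg (u : GL (Fin n) F) : Prop := finrank F ↥(kerFlag u 1) ≤ 1

theorem reg_conj {u : GL (Fin n) F} (hu : Reg u) (g : GL (Fin n) F) : Reg (g * u * g⁻¹) := by
  unfold Reg
  rw [kerFlag_conj, app_finrank]
  exact hu

theorem finrank_ker_pow_le (N : Matrix (Fin n) (Fin n) F)
    (h : finrank F ↥(LinearMap.ker (Matrix.mulVecLin N)) ≤ 1) (i : ℕ) :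
    finrank F ↥(LinearMap.ker (Matrix.mulVecLin (N ^ i))) ≤ i := by
  induction i with
  | zero =>
    rw [pow_zero, Matrix.mulVecLin_one, LinearMap.ker_id, finrank_bot]
  | succ i ih =>
    set L := Matrix.mulVecLin N with hL
    set A := LinearMap.ker (Matrix.mulVecLin (N ^ (i + 1))) with hA
    have h1 := LinearMap.finrank_range_add_finrank_ker (L.domRestrict A)
    have h2 : finrank F ↥(LinearMap.range (L.domRestrict A)) ≤ i := by
      refine le_trans (Submodule.finrank_mono ?_) ih
      rintro w ⟨v, rfl⟩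
      have hv : (N ^ (i + 1)).mulVec (v : Fin n → F) = 0 := v.2
      rw [LinearMap.mem_ker, LinearMap.domRestrict_apply, hL, Matrix.mulVecLin_apply,
        Matrix.mulVecLin_apply, Matrix.mulVec_mulVec, ← pow_succ]
      exact hv
    have h3 : finrank F ↥(LinearMap.ker (L.domRestrict A)) ≤ 1 := by
      rw [LinearMap.ker_domRestrict]
      refine le_trans ?_ h
      let ι : ↥((LinearMap.ker L).comap A.subtype) →ₗ[F] ↥(LinearMap.ker L) :=
        { toFun := fun v => ⟨((v : ↥A) : Fin n → F), v.2⟩
          map_add' := fun a b => rfl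
          map_smul' := fun c a => rfl }
      exact LinearMap.finrank_le_finrank_of_injective (f := ι)
        (fun a b hab => Subtype.ext (Subtype.ext (congrArg Subtype.val hab :)))
    omega

theorem kerFlag_unitriangular {u : GL (Fin n) F} (hu : u ∈ H37.unitriangular n F) (hr : Reg u)
    (i : ℕ) : kerFlag u i = stdS F n i := by
  obtain ⟨ht, hd⟩ := (H37.mem_unitriangular u).1 hu
  set N := (u : Matrix (Fin n) (Fin n) F) - 1 with hN
  have hNz : ∀ a b : Fin n, b ≤ a → N a b = 0 := by
    intro a b hba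
    rcases eq_or_lt_of_le hba with rfl | hlt
    · simp [hN, hd]
    · have := ht (show id b < id a from hlt)
      simp [hN, Matrix.one_apply_ne (ne_of_gt hlt), this]
  have hdown : ∀ (j : ℕ) (v : Fin n → F), v ∈ stdS F n (j + 1) → N.mulVec v ∈ stdS F n j := by
    intro j v hv a ha
    change ∑ b : Fin n, N a b * v b = 0
    refine Finset.sum_eq_zero fun b _ => ?_
    rcases le_or_gt b a with hba | hab
    · simp [hNz a b hba]
    · have : j + 1 ≤ (b : ℕ) := by
        have : (a : ℕ) < b := hab
        omega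
      simp [hv b this]
  have hkill : ∀ (j : ℕ) (v : Fin n → F), v ∈ stdS F n j → (N ^ j).mulVec v = 0 := by
    intro j
    induction j with
    | zero =>
      intro v hv
      funext a
      simp [hv a (Nat.zero_le _)]
    | succ j ih =>
      intro v hv
      rw [pow_succ, ← Matrix.mulVec_mulVec]
      exact ih _ (hdown j v hv)
  have hle : stdS F n i ≤ kerFlag u i := fun v hv => hkill i v hv
  rcases le_or_gt i n with hin | hni
  · refine (Submodule.eq_of_le_of_finrank_le hle ?_).symm
    rw [finrank_stdS hin]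
    refine finrank_ker_pow_le N ?_ i
    have h1 : Reg u := hr
    unfold Reg kerFlag at h1
    rwa [pow_one] at h1
  · rw [stdS_eq_top hni.le] at hle ⊢
    exact eq_top_iff.2 hle

/-- The superdiagonal regular unipotent matrix. -/
noncomputable def jordan (F : Type*) [Field F] (n : ℕ) : GL (Fin n) F :=
  Matrix.GeneralLinearGroup.mkOfDetNeZero
    (Matrix.of fun i j : Fin n => if j = i ∨ (j : ℕ) = (i : ℕ) + 1 then (1 : F) else 0)
    (by
      rw [Matrix.det_of_isUpperTriangular]
      · simp
      · intro i j (hij : (j : Fin n) < i)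
        have h1 : j ≠ i := ne_of_lt hij
        have h2 : (j : ℕ) ≠ (i : ℕ) + 1 := by
          have : (j : ℕ) < i := hij
          omega
        simp [h1, h2])

theorem jordan_apply (i j : Fin n) : (jordan F n : Matrix (Fin n) (Fin n) F) i j =
    if j = i ∨ (j : ℕ) = (i : ℕ) + 1 then (1 : F) else 0 := rfl

theorem jordan_mem : jordan F n ∈ H37.unitriangular n F := by
  refine (H37.mem_unitriangular _).2 ⟨?_, fun i => by simp [jordan_apply]⟩
  intro i j (hij : (j : Fin n) < i)
  have h1 : j ≠ i := ne_of_lt hij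
  have h2 : (j : ℕ) ≠ (i : ℕ) + 1 := by
    have : (j : ℕ) < i := hij
    omega
  simp [jordan_apply, h1, h2]

theorem jordan_reg : Reg (jordan F n) := by
  unfold Reg kerFlag
  rw [pow_one]
  have key : LinearMap.ker (Matrix.mulVecLin ((jordan F n : Matrix (Fin n) (Fin n) F) - 1)) ≤
      stdS F n 1 := by
    intro v hv b hb
    obtain ⟨k, hk⟩ : ∃ k, (b : ℕ) = k + 1 := ⟨(b : ℕ) - 1, by omega⟩
    let a : Fin n := ⟨k, by omega⟩
    have h := congrFun (show ((jordan F n : Matrix (Fin n) (Fin n) F) - 1).mulVec v = 0 from hv) a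
    rw [Matrix.mulVec, dotProduct, Finset.sum_eq_single b] at h
    · have hne : a ≠ b := fun he => by
        have := congrArg Fin.val he
        simp [a, hk] at this
      simpa [jordan_apply, Matrix.one_apply_ne hne, hk, a] using h
    · intro c _ hc
      have h2 : ¬ (c : ℕ) = (a : ℕ) + 1 := fun he => hc (Fin.ext (by simp [a] at he; omega))
      by_cases hca : c = a
      · simp [jordan_apply, hca]
      · simp [jordan_apply, hca, h2, Matrix.one_apply_ne (Ne.symm hca)]
    · simp
  refine (Submodule.finrank_mono key).trans ?_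
  rcases Nat.eq_zero_or_pos n with rfl | hn
  · exact (Submodule.finrank_le _).trans (by simp)
  · rw [finrank_stdS hn]

/-- The regular unipotent element of the flag of `g`. -/
noncomputable def unip (g : GL (Fin n) F) : GL (Fin n) F := g * jordan F n * g⁻¹

theorem kerFlag_unip (g : GL (Fin n) F) : kerFlag (unip g) = flagOf g := by
  funext i
  rw [unip, kerFlag_conj, kerFlag_unitriangular jordan_mem jordan_reg]
  rfl

theorem unip_det (g : GL (Fin n) F) : Matrix.GeneralLinearGroup.det (unip g) = 1 := by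
  obtain ⟨t, ht⟩ := H37.unitriangular_le_range_toGL n (jordan_mem (F := F) (n := n))
  have : Matrix.GeneralLinearGroup.det (jordan F n) = 1 := by
    rw [← ht]
    exact Units.ext t.2
  rw [unip, map_mul, map_mul, this, mul_one, ← map_mul, mul_inv_cancel, map_one]

theorem unip_ne_one (hn : 2 ≤ n) (g : GL (Fin n) F) : unip g ≠ 1 := by
  intro h
  rw [unip, conj_eq_one_iff] at h
  have := congrArg (fun w : GL (Fin n) F => (w : Matrix (Fin n) (Fin n) F) ⟨0, by omega⟩ ⟨1, by omega⟩) h
  simp [jordan_apply] at this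

theorem unip_pow [Finite F] {p : ℕ} [Fact p.Prime] [CharP F p] (g : GL (Fin n) F) :
    ∃ a, unip g ^ p ^ a = 1 := by
  obtain ⟨a, ha⟩ := H37.isPGroup_unitriangular (F := F) p n ⟨_, jordan_mem⟩
  refine ⟨a, ?_⟩
  have ha' : jordan F n ^ p ^ a = 1 := congrArg Subtype.val ha
  rw [unip, conj_pow, ha', mul_one, mul_inv_cancel]

/-- Two regular `p`-elements of a nilpotent group have the same flag. -/
theorem kerFlag_eq [Finite F] {p : ℕ} [Fact p.Prime] [CharP F p]
    {Γ : Subgroup (GL (Fin n) F)} [Group.IsNilpotent ↥Γ] {u u' : GL (Fin n) F} (hu : u ∈ Γ)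
    (hu' : u' ∈ Γ) (hr : Reg u) (hr' : Reg u') {a a' : ℕ} (ha : u ^ p ^ a = 1)
    (ha' : u' ^ p ^ a' = 1) : kerFlag u = kerFlag u' := by
  let P : Sylow p ↥Γ := default
  have hP : IsPGroup p ((P : Subgroup ↥Γ).map Γ.subtype) := P.isPGroup'.map _
  obtain ⟨Q, hQ⟩ := hP.exists_le_sylow
  obtain ⟨c, hc⟩ := MulAction.exists_smul_eq (GL (Fin n) F) Q (H37.sylowGL p n)
  have key : ∀ w ∈ Γ, Reg w → (∃ b, w ^ p ^ b = 1) →
      kerFlag w = fun i => app c⁻¹ (stdS F n i) := by
    rintro w hw hwr ⟨b, hb⟩
    have hwP : (⟨w, hw⟩ : ↥Γ) ∈ (P : Subgroup ↥Γ) := mem_sylow_of_pow P (i := b) (Subtype.ext hb)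
    have hwQ : w ∈ (Q : Subgroup (GL (Fin n) F)) := hQ ⟨_, hwP, rfl⟩
    have hconj : c * w * c⁻¹ ∈ H37.unitriangular n F := by
      rw [← H37.coe_sylowGL (F := F) p n, ← hc, Sylow.coe_subgroup_smul,
        Subgroup.mem_pointwise_smul_iff_inv_smul_mem]
      simpa [MulAut.smul_def, mul_assoc] using hwQ
    funext i
    rw [← kerFlag_unitriangular hconj (reg_conj hwr c) i, kerFlag_conj, app_inv_app]
  rw [key u hu hr ⟨a, ha⟩, key u' hu' hr' ⟨a', ha'⟩]

/-- Every subspace is the image of a standard one. -/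
theorem exists_app_stdS (W : Submodule F (Fin n → F)) :
    ∃ g : GL (Fin n) F, app g (stdS F n (finrank F ↥W)) = W := by
  set k := finrank F ↥W with hk
  have hkn : k ≤ n := (Submodule.finrank_le W).trans (by rw [finrank_fin_fun])
  obtain ⟨C, hC⟩ := (stdS F n k).exists_isCompl
  obtain ⟨D, hD⟩ := W.exists_isCompl
  have h1 : finrank F ↥(stdS F n k) = finrank F ↥W := finrank_stdS hkn
  have h2 : finrank F ↥C = finrank F ↥D := by
    have a := Submodule.finrank_add_eq_of_isCompl hC
    have b := Submodule.finrank_add_eq_of_isCompl hD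
    omega
  let e1 := LinearEquiv.ofFinrankEq _ _ h1
  let e2 := LinearEquiv.ofFinrankEq _ _ h2
  let e : (Fin n → F) ≃ₗ[F] (Fin n → F) :=
    (Submodule.prodEquivOfIsCompl _ _ hC).symm ≪≫ₗ (LinearEquiv.prodCongr e1 e2) ≪≫ₗ
      (Submodule.prodEquivOfIsCompl _ _ hD)
  refine ⟨ofEquiv e, Submodule.eq_of_le_of_finrank_eq ?_ (by rw [app_finrank]; exact h1)⟩
  intro w hw
  obtain ⟨v, hv, rfl⟩ := mem_app.1 hw
  rw [ofEquiv_mulVec]
  have he : e v = (e1 ⟨v, hv⟩ : Fin n → F) := by
    change (Submodule.prodEquivOfIsCompl _ _ hD) ((LinearEquiv.prodCongr e1 e2)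
      ((Submodule.prodEquivOfIsCompl _ _ hC).symm ((⟨v, hv⟩ : ↥(stdS F n k)) : Fin n → F))) = _
    rw [Submodule.prodEquivOfIsCompl_symm_apply_left]
    simp
  rw [he]
  exact SetLike.coe_mem _

/-- The permutation matrix sending `eⱼ` to `e_{σ j}`. -/
noncomputable def permGL (σ : Equiv.Perm (Fin n)) : GL (Fin n) F :=
  ofEquiv (LinearEquiv.funCongrLeft F F σ.symm)

theorem permGL_mulVec (σ : Equiv.Perm (Fin n)) (v : Fin n → F) (j : Fin n) :
    ((permGL σ : GL (Fin n) F) : Matrix (Fin n) (Fin n) F).mulVec v j = v (σ.symm j) := by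
  rw [permGL, ofEquiv_mulVec]
  rfl

theorem permGL_single (σ : Equiv.Perm (Fin n)) (j : Fin n) :
    ((permGL σ : GL (Fin n) F) : Matrix (Fin n) (Fin n) F).mulVec (Pi.single j 1) = Pi.single (σ j) 1 := by
  funext k
  rw [permGL_mulVec]
  by_cases h : k = σ j
  · simp [h]
  · have h' : σ.symm k ≠ j := fun he => h (by rw [← he, Equiv.apply_symm_apply])
    simp [h, h']

theorem eq_one_of_le {τ : Equiv.Perm (Fin n)} (h : ∀ j, (τ j : ℕ) ≤ (j : ℕ)) : τ = 1 := by
  apply Equiv.ext
  suffices ∀ m, ∀ j : Fin n, (j : ℕ) = m → τ j = j from fun j => this _ j rfl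
  intro m
  induction m using Nat.strong_induction_on with
  | _ m ih =>
    intro j hj
    rcases eq_or_lt_of_le (h j) with he | hlt
    · exact Fin.ext he
    · have := ih (τ j) (hj ▸ hlt) (τ j) rfl
      exact τ.injective this

theorem permGL_flag_injective {g : GL (Fin n) F} {σ τ : Equiv.Perm (Fin n)}
    (h : flagOf (g * permGL σ) = flagOf (g * permGL (F := F) τ)) : σ = τ := by
  suffices τ⁻¹ * σ = 1 from (inv_mul_eq_one.1 this).symm
  refine eq_one_of_le fun j => Nat.lt_succ_iff.1 ?_
  have h1 := congrFun h ((j : ℕ) + 1)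
  unfold flagOf at h1
  rw [app_mul, app_mul] at h1
  have h2 := app_injective g h1
  have hmem : Pi.single (σ j) (1 : F) ∈ app (permGL σ) (stdS F n ((j : ℕ) + 1)) :=
    ⟨_, single_mem_stdS.2 (Nat.lt_succ_self _), permGL_single σ j⟩
  rw [h2] at hmem
  obtain ⟨v, hv, hvj⟩ := mem_app.1 hmem
  by_contra hlt
  have hz := hv ((τ⁻¹ * σ) j) (not_lt.1 hlt)
  have hj := congrFun hvj (σ j)
  rw [permGL_mulVec, Pi.single_eq_same] at hj
  exact one_ne_zero (hj.symm.trans hz)

theorem app_permGL_stdS {σ : Equiv.Perm (Fin n)} {k : ℕ}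
    (hσ : ∀ j : Fin n, (σ j : ℕ) < k ↔ (j : ℕ) < k) :
    app (permGL σ) (stdS F n k) = stdS F n k := by
  refine Submodule.eq_of_le_of_finrank_eq ?_ (app_finrank _ _)
  intro w hw
  obtain ⟨v, hv, rfl⟩ := mem_app.1 hw
  intro j hj
  rw [permGL_mulVec]
  refine hv _ (not_lt.1 fun hlt => ?_)
  have := (hσ (σ.symm j)).2 hlt
  rw [Equiv.apply_symm_apply] at this
  omega

theorem card_perm_preserving (k : ℕ) (hk : k ≤ n) :
    k.factorial * (n - k).factorial ≤
      Nat.card {σ : Equiv.Perm (Fin n) // ∀ j : Fin n, (σ j : ℕ) < k ↔ (j : ℕ) < k} := by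
  classical
  let p : Fin n → Prop := fun j => (j : ℕ) < k
  let f : Equiv.Perm {j // p j} × Equiv.Perm {j // ¬ p j} →
      {σ : Equiv.Perm (Fin n) // ∀ j : Fin n, (σ j : ℕ) < k ↔ (j : ℕ) < k} := fun e =>
    ⟨Equiv.Perm.subtypeCongr e.1 e.2, fun j => by
      by_cases hj : p j
      · rw [Equiv.Perm.subtypeCongr.left_apply _ _ hj]
        exact iff_of_true (e.1 ⟨j, hj⟩).2 hj
      · rw [Equiv.Perm.subtypeCongr.right_apply _ _ hj]
        exact iff_of_false (e.2 ⟨j, hj⟩).2 hj⟩
  have hf : Function.Injective f := by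
    intro a b hab
    have h := congrArg Subtype.val hab
    refine Prod.ext (Equiv.ext fun j => ?_) (Equiv.ext fun j => ?_)
    · have := Equiv.congr_fun h (j : Fin n)
      simp only [f, Equiv.Perm.subtypeCongr.left_apply _ _ j.2] at this
      exact Subtype.ext this
    · have := Equiv.congr_fun h (j : Fin n)
      simp only [f, Equiv.Perm.subtypeCongr.right_apply _ _ j.2] at this
      exact Subtype.ext this
  refine le_trans (le_of_eq ?_) (Nat.card_le_card_of_injective f hf)
  have hp : Fintype.card {j : Fin n // p j} = k :=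
    (Fintype.card_congr
      { toFun := fun j : {j : Fin n // p j} => (⟨(j : Fin n), j.2⟩ : Fin k)
        invFun := fun i => ⟨Fin.castLE hk i, i.2⟩
        left_inv := fun j => rfl
        right_inv := fun i => rfl }).trans (Fintype.card_fin k)
  rw [Nat.card_eq_fintype_card, Fintype.card_prod, Fintype.card_perm, Fintype.card_perm,
    Fintype.card_subtype_compl, hp, Fintype.card_fin]

/-- Arithmetic: more permutations than dimensions. -/
theorem factorial_bound {n k : ℕ} (hn : 3 ≤ n) (hk1 : 1 ≤ k) (hk2 : k ≤ n / 2) :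
    n / 2 + 1 ≤ k.factorial * (n - k).factorial := by
  have h1 : n - k ≤ (n - k).factorial := Nat.self_le_factorial _
  have h2 : 1 ≤ k.factorial := Nat.factorial_pos k
  rcases eq_or_lt_of_le hk2 with h | h
  · rcases Nat.even_or_odd n with ⟨c, hc⟩ | ⟨c, hc⟩
    · have h3 : 2 ≤ k.factorial := le_trans (by omega) (Nat.self_le_factorial k)
      calc n / 2 + 1 ≤ 2 * (n - k) := by omega
        _ ≤ k.factorial * (n - k).factorial := Nat.mul_le_mul h3 h1
    · calc n / 2 + 1 ≤ 1 * (n - k) := by omega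
        _ ≤ k.factorial * (n - k).factorial := Nat.mul_le_mul h2 h1
  · calc n / 2 + 1 ≤ 1 * (n - k) := by omega
      _ ≤ k.factorial * (n - k).factorial := Nat.mul_le_mul h2 h1

variable (F n) in
/-- The set of all flags. -/
abbrev Fl : Type _ := ↥(Set.range (flagOf : GL (Fin n) F → ℕ → Submodule F (Fin n → F)))

variable (F n) in
/-- Subspaces of positive dimension at most `n / 2`. -/
abbrev Small : Type _ :=
  {W : Submodule F (Fin n → F) // 1 ≤ finrank F ↥W ∧ finrank F ↥W ≤ n / 2}

theorem card_small_lt_flags [Finite F] (hn : 3 ≤ n) :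
    Nat.card (Small F n) < Nat.card (Fl F n) := by
  classical
  haveI : Finite (GL (Fin n) F) := inferInstance
  haveI : Nonempty (Fl F n) := ⟨⟨_, 1, rfl⟩⟩
  haveI : Fintype (Fl F n) := Fintype.ofFinite _
  choose g hg using fun W : Small F n => exists_app_stdS (W : Submodule F (Fin n → F))
  have hperm : ∀ W : Small F n, Nonempty (Fin (n / 2 + 1) ↪ {σ : Equiv.Perm (Fin n) //
      ∀ j : Fin n, (σ j : ℕ) < finrank F ↥(W : Submodule F (Fin n → F)) ↔
        (j : ℕ) < finrank F ↥(W : Submodule F (Fin n → F))}) := by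
    intro W
    refine Function.Embedding.nonempty_of_card_le ?_
    rw [Fintype.card_fin, ← Nat.card_eq_fintype_card]
    exact (factorial_bound hn W.2.1 W.2.2).trans
      (card_perm_preserving _ (W.2.2.trans (Nat.div_le_self n 2)))
  let emb := fun W => (hperm W).some
  let f : Small F n × Fin (n / 2 + 1) → Fl F n × Fin (n / 2) := fun x =>
    (⟨flagOf (g x.1 * permGL (emb x.1 x.2).1), _, rfl⟩,
      ⟨finrank F ↥(x.1 : Submodule F (Fin n → F)) - 1, by have := x.1.2; omega⟩)
  have hf : Function.Injective f := by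
    rintro ⟨W, j⟩ ⟨W', j'⟩ h
    have hd : finrank F ↥(W : Submodule F (Fin n → F)) = finrank F ↥(W' : Submodule F (Fin n → F)) := by
      have := congrArg (fun y : Fl F n × Fin (n / 2) => (y.2 : ℕ)) h
      simp only [f] at this
      have := W.2; have := W'.2
      omega
    have hfl : flagOf (g W * permGL (emb W j).1) = flagOf (g W' * permGL (emb W' j').1) :=
      congrArg (fun y : Fl F n × Fin (n / 2) => (y.1 : ℕ → Submodule F (Fin n → F))) h
    have hWW : W = W' := by
      apply Subtype.ext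
      have h1 := congrFun hfl (finrank F ↥(W : Submodule F (Fin n → F)))
      unfold flagOf at h1
      rw [app_mul, app_mul, app_permGL_stdS (emb W j).2, hg W, hd,
        app_permGL_stdS (emb W' j').2, hg W'] at h1
      exact h1
    subst hWW
    exact Prod.ext rfl ((emb W).injective (Subtype.ext (permGL_flag_injective hfl)))
  have := Nat.card_le_card_of_injective f hf
  rw [Nat.card_prod, Nat.card_prod, Nat.card_fin, Nat.card_fin] at this
  by_contra hle
  push Not at hle
  have hpos : 0 < Nat.card (Fl F n) := Nat.card_pos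
  have h2 := Nat.mul_le_mul_right (n / 2 + 1) hle
  nlinarith

end H57.Cover
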