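import Mathlib
import Cfsg.Agent.H57.CoverFields
import Cfsg.Agent.H57.CoverFlags
import Cfsg.Agent.H43.Primitive
import Cfsg.Agent.H76.Zsigmondy

/-!
Groups between `PSL_n(q)` and `PGL_n(q)` have no nilpotent minimal cover.
-/

set_option autoImplicit false
set_option linter.style.haveILetI false
set_option linter.unusedSectionVars false
set_option maxHeartbeats 1000000

open Module Matrix

namespace H57.Cover

variable {F : Type*} [Field F] [Fintype F] {n : ℕ}

local notation "π" => QuotientGroup.mk' (Subgroup.center (GL (Fin n) F))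

theorem center_scalar {z : GL (Fin n) F} (hz : z ∈ Subgroup.center (GL (Fin n) F)) :
    ∃ c : F, (z : Matrix (Fin n) (Fin n) F) = c • 1 := by
  obtain ⟨c, hc⟩ := Matrix.GeneralLinearGroup.mem_center_iff_val_mem_range_scalar.1 hz
  exact ⟨c, by rw [← hc, Matrix.smul_one_eq_diagonal]; rfl⟩

theorem mem_center_of_scalar {z : GL (Fin n) F} {c : F}
    (hz : (z : Matrix (Fin n) (Fin n) F) = c • 1) : z ∈ Subgroup.center (GL (Fin n) F) :=
  Matrix.GeneralLinearGroup.mem_center_iff_val_mem_range_scalar.2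
    ⟨c, by rw [hz, Matrix.smul_one_eq_diagonal]; rfl⟩

/-- The core counting argument. -/
theorem no_cover {I T : Type*} [Finite I] [Finite T] (hlt : Nat.card I < Nat.card T)
    (N : I → Subgroup (GL (Fin n) F)) (hZ : ∀ i, Subgroup.center (GL (Fin n) F) ≤ N i)
    (hproper : ∀ i, ∃ x : GL (Fin n) F, Matrix.GeneralLinearGroup.det x = 1 ∧ x ∉ N i)
    (hcov : ∀ g, ∃ i, g ∈ N i) (ι : T → GL (Fin n) F)
    (hι : ∀ t, Matrix.GeneralLinearGroup.det (ι t) = 1)
    (hsep : ∀ Γ : Subgroup (GL (Fin n) F), Group.IsNilpotent ↥Γ → ∀ t t', ι t ∈ Γ → ι t' ∈ Γ → t = t')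
    (G : Subgroup (GL (Fin n) F ⧸ Subgroup.center (GL (Fin n) F)))
    (hG : ((Matrix.SpecialLinearGroup.toGL : Matrix.SpecialLinearGroup (Fin n) F →* GL (Fin n) F).range).map
      (QuotientGroup.mk' (Subgroup.center (GL (Fin n) F))) ≤ G) :
    ¬ ∃ 𝓐 : Finset (Subgroup ↥G), ((∀ A ∈ 𝓐, A ≠ ⊤) ∧ (∀ g : ↥G, ∃ A ∈ 𝓐, g ∈ A)) ∧
      (∀ 𝓑 : Finset (Subgroup ↥G), (∀ A ∈ 𝓑, A ≠ ⊤) ∧ (∀ g : ↥G, ∃ A ∈ 𝓑, g ∈ A) →
        𝓐.card ≤ 𝓑.card) ∧ (∀ A ∈ 𝓐, Group.IsNilpotent ↥A) := by
  classical
  rintro ⟨𝓐, ⟨-, hAcov⟩, hmin, hnil⟩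
  haveI := Fintype.ofFinite I
  haveI := Fintype.ofFinite T
  have hdet : ∀ x : GL (Fin n) F, Matrix.GeneralLinearGroup.det x = 1 → π x ∈ G := fun x hx =>
    hG ⟨x, ⟨⟨x, congrArg Units.val hx⟩, Units.ext rfl⟩, rfl⟩
  let B : I → Subgroup ↥G := fun i => ((N i).map π).subgroupOf G
  have h1 : 𝓐.card ≤ Nat.card I := by
    refine (hmin (Finset.univ.image B) ⟨?_, ?_⟩).trans ?_
    · intro A hA
      obtain ⟨i, -, rfl⟩ := Finset.mem_image.1 hA
      obtain ⟨x, hx, hxN⟩ := hproper i
      intro htop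
      have : (⟨π x, hdet x hx⟩ : ↥G) ∈ B i := htop ▸ Subgroup.mem_top _
      obtain ⟨y, hy, hyx⟩ := this
      refine hxN ?_
      have hz : y⁻¹ * x ∈ Subgroup.center (GL (Fin n) F) := QuotientGroup.eq.1 hyx
      simpa using mul_mem hy (hZ i hz)
    · intro g
      obtain ⟨y, hy⟩ := QuotientGroup.mk'_surjective _ g.val
      obtain ⟨i, hi⟩ := hcov y
      exact ⟨B i, Finset.mem_image.2 ⟨i, Finset.mem_univ _, rfl⟩, ⟨y, hi, hy⟩⟩
    · exact Finset.card_image_le.trans (by rw [Finset.card_univ, Nat.card_eq_fintype_card])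
  have hmem : ∀ t, ∃ A ∈ 𝓐, ι t ∈ (A.map G.subtype).comap π := by
    intro t
    obtain ⟨A, hA, hxA⟩ := hAcov ⟨π (ι t), hdet _ (hι t)⟩
    exact ⟨A, hA, ⟨_, hxA, rfl⟩⟩
  choose f hf𝓐 hf using hmem
  have hinj : Function.Injective (fun t => (⟨f t, hf𝓐 t⟩ : ↥𝓐)) := by
    intro t t' h
    have h' : f t = f t' := congrArg Subtype.val h
    refine hsep (((f t).map G.subtype).comap π) ?_ t t' (hf t) (h' ▸ hf t')
    haveI : Group.IsNilpotent ↥(f t) := hnil _ (hf𝓐 t)
    haveI : Group.IsNilpotent ↥((f t).map G.subtype) :=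
      Group.nilpotent_of_mulEquiv ((f t).equivMapOfInjective _ Subtype.val_injective)
    refine Subgroup.isNilpotent_of_ker_le_center
      ((MonoidHom.comp π (((f t).map G.subtype).comap π).subtype).codRestrict ((f t).map G.subtype)
        (fun z => z.2)) ?_
    intro z hz
    rw [MonoidHom.mem_ker] at hz
    have hz' : (z : GL (Fin n) F) ∈ Subgroup.center (GL (Fin n) F) :=
      (QuotientGroup.eq_one_iff _).1 (congrArg Subtype.val hz)
    exact Subgroup.mem_center_iff.2 fun w => Subtype.ext (Subgroup.mem_center_iff.1 hz' w)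
  have h2 := Nat.card_le_card_of_injective _ hinj
  rw [Nat.card_eq_finsetCard] at h2
  omega

/-- The normaliser of a subalgebra. -/
def normK (K : Subalgebra F (Matrix (Fin n) (Fin n) F)) : Subgroup (GL (Fin n) F) where
  carrier := {g | ∀ a, a ∈ K ↔ (g : Matrix (Fin n) (Fin n) F) * a * ((g⁻¹ : GL (Fin n) F) : Matrix (Fin n) (Fin n) F) ∈ K}
  mul_mem' {g h} hg hh a := by
    rw [hh a, hg, _root_.mul_inv_rev, Units.val_mul, Units.val_mul]
    simp only [mul_assoc]
  one_mem' a := by simp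
  inv_mem' {g} hg a := by
    rw [hg (_ * a * _), inv_inv]
    simp [mul_assoc]

/-- The stabiliser of a subspace. -/
def stabW (W : Submodule F (Fin n → F)) : Subgroup (GL (Fin n) F) where
  carrier := {g | app g W = W}
  mul_mem' {g h} hg hh := by
    change app (g * h) W = W
    rw [app_mul, show app h W = W from hh, show app g W = W from hg]
  one_mem' := app_one W
  inv_mem' {g} hg := by
    change app g⁻¹ W = W
    conv_lhs => rw [← show app g W = W from hg]
    exact app_inv_app g W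

variable (F n) in
/-- The fields of degree `n`. -/
abbrev Flds : Type _ := {K : Subalgebra F (Matrix (Fin n) (Fin n) F) // IsFld K}

variable (F n) in
/-- The members of the small cover. -/
def coverN : Flds F n ⊕ Small F n → Subgroup (GL (Fin n) F) :=
  Sum.elim (fun K => normK K.1) (fun W => stabW W.1)

theorem center_le_coverN (i : Flds F n ⊕ Small F n) :
    Subgroup.center (GL (Fin n) F) ≤ coverN F n i := by
  intro z hz
  obtain ⟨c, hc⟩ := center_scalar hz
  rcases i with K | W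
  · intro a
    have h : (z : Matrix (Fin n) (Fin n) F) * a *
        ((z⁻¹ : GL (Fin n) F) : Matrix (Fin n) (Fin n) F) = a := by
      have hcomm : (z : Matrix (Fin n) (Fin n) F) * a = a * z := by
        rw [hc]; simp
      rw [hcomm, mul_assoc, ← Units.val_mul, mul_inv_cancel, Units.val_one, mul_one]
    rw [h]
  · refine Submodule.eq_of_le_of_finrank_eq ?_ (app_finrank z W.1)
    intro w hw
    obtain ⟨v, hv, rfl⟩ := mem_app.1 hw
    rw [hc, Matrix.smul_mulVec, Matrix.one_mulVec]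
    exact Submodule.smul_mem _ c hv

theorem coverN_covers [NeZero n] (g : GL (Fin n) F) : ∃ i, g ∈ coverN F n i := by
  by_cases h : ∃ W : Small F n, g ∈ stabW W.1
  · obtain ⟨W, hW⟩ := h
    exact ⟨Sum.inr W, hW⟩
  push Not at h
  obtain ⟨K, hK, hgK⟩ := exists_fld_of_irreducible g fun W h1 h2 => h ⟨W, h1, h2⟩
  refine ⟨Sum.inl ⟨K, hK⟩, fun a => ?_⟩
  constructor
  · intro ha
    rw [hK.comm hgK ha, mul_assoc, ← Units.val_mul, mul_inv_cancel, Units.val_one, mul_one]
    exact ha
  · intro ha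
    have h1 := hK.comm ha hgK
    rw [mul_assoc, ← Units.val_mul, inv_mul_cancel, Units.val_one, mul_one, mul_assoc] at h1
    have h2 := congrArg (((g⁻¹ : GL (Fin n) F) : Matrix (Fin n) (Fin n) F) * ·) h1
    simp only [← mul_assoc, ← Units.val_mul, inv_mul_cancel, Units.val_one, one_mul] at h2
    rw [← h2] at ha
    exact ha

/-- An elementary transvection. -/
noncomputable def tvec {i j : Fin n} (hij : i ≠ j) (c : F) : GL (Fin n) F :=
  Matrix.GeneralLinearGroup.mkOfDetNeZero (Matrix.transvection i j c)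
    (by rw [Matrix.det_transvection_of_ne _ _ hij]; exact one_ne_zero)

theorem tvec_det {i j : Fin n} (hij : i ≠ j) (c : F) :
    Matrix.GeneralLinearGroup.det (tvec hij c) = 1 :=
  Units.ext (Matrix.det_transvection_of_ne i j hij c)

theorem tvec_mul {i j : Fin n} (hij : i ≠ j) (c d : F) :
    tvec hij c * tvec hij d = tvec hij (c + d) :=
  Units.ext (Matrix.transvection_mul_transvection_same i j hij c d)

theorem tvec_zero {i j : Fin n} (hij : i ≠ j) : tvec hij (0 : F) = 1 :=
  Units.ext (Matrix.transvection_zero i j)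

theorem tvec_inv {i j : Fin n} (hij : i ≠ j) (c : F) : (tvec hij c)⁻¹ = tvec hij (-c) :=
  inv_eq_of_mul_eq_one_right (by rw [tvec_mul, add_neg_cancel, tvec_zero])

theorem tvec_val {i j : Fin n} (hij : i ≠ j) (c : F) :
    (tvec hij c : Matrix (Fin n) (Fin n) F) = 1 + c • Matrix.single i j 1 := by
  change Matrix.transvection i j c = _
  rw [Matrix.transvection, Matrix.smul_single, smul_eq_mul, mul_one]

theorem not_scalar_of_gen {K : Subalgebra F (Matrix (Fin n) (Fin n) F)} (hK : IsFld K)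
    (hn : 2 ≤ n) {x : Matrix (Fin n) (Fin n) F}
    (hgen : Algebra.adjoin F ({x} : Set (Matrix (Fin n) (Fin n) F)) = K) (c : F) : x ≠ c • 1 := by
  intro h
  have hbot : K ≤ ⊥ := by
    rw [← hgen]
    refine Algebra.adjoin_le (Set.singleton_subset_iff.2 ?_)
    rw [h, SetLike.mem_coe, Algebra.mem_bot]
    exact ⟨c, by rw [Algebra.algebraMap_eq_smul_one]⟩
  haveI : NeZero n := ⟨by omega⟩
  have h1 : finrank F ↥K ≤ finrank F ↥(⊥ : Subalgebra F (Matrix (Fin n) (Fin n) F)) :=
    Submodule.finrank_mono (s := Subalgebra.toSubmodule K) (t := Subalgebra.toSubmodule ⊥) hbot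
  rw [hK.2, Subalgebra.finrank_bot] at h1
  omega

theorem sq_eq_two (x : Matrix (Fin 2) (Fin 2) F) :
    x * x = Matrix.trace x • x - Matrix.det x • (1 : Matrix (Fin 2) (Fin 2) F) := by
  ext i j
  fin_cases i <;> fin_cases j <;>
    simp [Matrix.mul_apply, Fin.sum_univ_two, Matrix.trace_fin_two, Matrix.det_fin_two] <;> ring

theorem exists_not_mem_normK {K : Subalgebra F (Matrix (Fin n) (Fin n) F)} (hK : IsFld K)
    (hn : 3 ≤ n ∨ (n = 2 ∧ 4 ≤ Fintype.card F)) {x : Matrix (Fin n) (Fin n) F}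
    (hgen : Algebra.adjoin F ({x} : Set (Matrix (Fin n) (Fin n) F)) = K) :
    ∃ t : GL (Fin n) F, Matrix.GeneralLinearGroup.det t = 1 ∧ t ∉ normK K := by
  by_contra hcon
  push Not at hcon
  have hx : x ∈ K := hgen ▸ Algebra.subset_adjoin rfl
  suffices key : ∀ i j : Fin n, i ≠ j → Commute (Matrix.single i j (1 : F)) x by
    obtain ⟨c, hc⟩ := Matrix.mem_range_scalar_of_commute_single key
    refine not_scalar_of_gen hK (by omega) hgen c ?_
    rw [← hc, Matrix.smul_one_eq_diagonal]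
    rfl
  intro i j hij
  have hconj : ∀ c : F, (tvec hij c : Matrix (Fin n) (Fin n) F) * x *
      (tvec hij (-c) : Matrix (Fin n) (Fin n) F) ∈ K := fun c => by
    have := (hcon _ (tvec_det hij c) x).1 hx
    rwa [tvec_inv] at this
  have hfin : ∀ c : F, c ≠ 0 →
      (tvec hij c : Matrix (Fin n) (Fin n) F) * x * (tvec hij (-c) : Matrix (Fin n) (Fin n) F) = x →
      Commute (Matrix.single i j (1 : F)) x := by
    intro c hc h
    have h1 : (tvec hij c : Matrix (Fin n) (Fin n) F) * x = x * tvec hij c := by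
      conv_rhs => rw [← h]
      rw [mul_assoc _ _ (tvec hij c : Matrix (Fin n) (Fin n) F), ← Units.val_mul, tvec_mul,
        neg_add_cancel, tvec_zero, Units.val_one, mul_one]
    rw [tvec_val, add_mul, mul_add, one_mul, mul_one, add_right_inj, smul_mul_assoc,
      mul_smul_comm] at h1
    exact smul_right_injective _ hc h1
  rcases hn with hn | ⟨rfl, hq⟩
  · refine hfin 1 one_ne_zero (sub_eq_zero.1 ?_)
    set E := Matrix.single i j (1 : F) with hE
    let L : (Fin n → F) →ₗ[F] F × F :=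
      { toFun := fun v => (v j, (x.mulVec v) j)
        map_add' := fun a b => by simp [Matrix.mulVec_add]
        map_smul' := fun c a => by simp [Matrix.mulVec_smul] }
    obtain ⟨v, hv, hv0⟩ : ∃ v, L v = 0 ∧ v ≠ 0 := by
      by_contra h
      push Not at h
      have := LinearMap.finrank_le_finrank_of_injective (f := L)
        ((injective_iff_map_eq_zero L).2 h)
      simp at this
      omega
    have hv1 : v j = 0 := congrArg Prod.fst hv
    have hv2 : (x.mulVec v) j = 0 := congrArg Prod.snd hv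
    have hEv : ∀ w : Fin n → F, w j = 0 → E.mulVec w = 0 := by
      intro w hw
      funext k
      simp [hE, Matrix.single_mulVec, hw]
    refine hK.eq_zero_of_mulVec (sub_mem (hconj 1) hx) hv0 ?_
    rw [tvec_val, tvec_val, ← hE, Matrix.sub_mulVec, ← Matrix.mulVec_mulVec,
      ← Matrix.mulVec_mulVec, Matrix.add_mulVec (A := (1 : Matrix (Fin n) (Fin n) F))
      (B := (-1 : F) • E) v, Matrix.smul_mulVec, hEv v hv1, smul_zero, add_zero, Matrix.one_mulVec,
      Matrix.add_mulVec, Matrix.smul_mulVec, hEv _ hv2, smul_zero, add_zero, Matrix.one_mulVec,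
      sub_self]
  · classical
    set τ := Matrix.trace x • (1 : Matrix (Fin 2) (Fin 2) F) with hτ
    let Y : F → Matrix (Fin 2) (Fin 2) F := fun c =>
      (tvec hij c : Matrix (Fin 2) (Fin 2) F) * x * (tvec hij (-c) : Matrix (Fin 2) (Fin 2) F)
    have hY : ∀ c, Y c = x ∨ Y c = τ - x := by
      intro c
      have hcan : (tvec hij (-c) : Matrix (Fin 2) (Fin 2) F) * (tvec hij c : Matrix (Fin 2) (Fin 2) F)
          = 1 := by rw [← Units.val_mul, tvec_mul, neg_add_cancel, tvec_zero, Units.val_one]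
      have hcan' : (tvec hij c : Matrix (Fin 2) (Fin 2) F) * (tvec hij (-c) : Matrix (Fin 2) (Fin 2) F)
          = 1 := by rw [← Units.val_mul, tvec_mul, add_neg_cancel, tvec_zero, Units.val_one]
      have hyy : Y c * Y c = Matrix.trace x • Y c - Matrix.det x • (1 : Matrix (Fin 2) (Fin 2) F) := by
        calc Y c * Y c = (tvec hij c : Matrix (Fin 2) (Fin 2) F) * (x * x) *
              (tvec hij (-c) : Matrix (Fin 2) (Fin 2) F) := by
              simp only [Y, mul_assoc]
              rw [← mul_assoc ((tvec hij (-c) : GL (Fin 2) F) : Matrix (Fin 2) (Fin 2) F)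
                ((tvec hij c : GL (Fin 2) F) : Matrix (Fin 2) (Fin 2) F), hcan, one_mul]
          _ = _ := by
              rw [sq_eq_two, mul_sub, sub_mul, mul_smul_comm, smul_mul_assoc, mul_smul_comm,
                mul_one, smul_mul_assoc, hcan']
      have hprod : (Y c - x) * (Y c + x - τ) = 0 := by
        have hc' : x * Y c = Y c * x := hK.comm hx (hconj c)
        rw [sub_mul, mul_sub, mul_sub, mul_add, mul_add, hyy, hc', sq_eq_two x, hτ, mul_smul_comm,
          mul_smul_comm, mul_one, mul_one]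
        abel
      have hτK : τ ∈ K := by rw [hτ]; exact K.smul_mem (one_mem K) _
      rcases hK.mul_eq_zero (sub_mem (hconj c) hx) hprod with h | h
      · exact Or.inl (sub_eq_zero.1 h)
      · right
        rw [sub_eq_zero] at h
        exact eq_sub_of_add_eq h
    obtain ⟨c, -, d, -, hcd, heq⟩ := Finset.exists_ne_map_eq_of_card_lt_of_maps_to
      (s := (Finset.univ : Finset F)) (t := ({x, τ - x} : Finset (Matrix (Fin 2) (Fin 2) F)))
      (by
        have := Finset.card_le_two (a := x) (b := τ - x)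
        rw [Finset.card_univ]
        omega)
      (f := Y) (fun c _ => by
        simp only [Finset.coe_insert, Finset.coe_singleton, Set.mem_insert_iff,
          Set.mem_singleton_iff]
        exact hY c)
    refine hfin (c - d) (sub_ne_zero.2 hcd) ?_
    have h := congrArg (fun M => (tvec hij (-d) : Matrix (Fin 2) (Fin 2) F) * M *
      (tvec hij d : Matrix (Fin 2) (Fin 2) F)) heq
    simp only [Y, ← mul_assoc] at h
    rw [mul_assoc _ ((tvec hij (-c) : GL (Fin 2) F) : Matrix (Fin 2) (Fin 2) F),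
      mul_assoc _ ((tvec hij (-d) : GL (Fin 2) F) : Matrix (Fin 2) (Fin 2) F)
      ((tvec hij d : GL (Fin 2) F) : Matrix (Fin 2) (Fin 2) F)] at h
    simp only [← Units.val_mul, tvec_mul, neg_add_cancel, tvec_zero, Units.val_one, one_mul,
      mul_one] at h
    rw [neg_sub, sub_eq_add_neg, add_comm c, sub_eq_add_neg, add_comm d]
    exact h

theorem exists_not_mem_stabW (hn : 2 ≤ n) (W : Small F n) :
    ∃ t : GL (Fin n) F, Matrix.GeneralLinearGroup.det t = 1 ∧ t ∉ stabW W.1 := by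
  obtain ⟨g, hg⟩ := exists_app_stdS W.1
  have hk1 := W.2.1
  have hk2 := W.2.2
  set k := finrank F ↥W.1 with hk
  let i : Fin n := ⟨n - 1, by omega⟩
  let j : Fin n := ⟨0, by omega⟩
  have hij : i ≠ j := fun h => by have := congrArg Fin.val h; simp [i, j] at this; omega
  refine ⟨g * tvec hij 1 * g⁻¹, ?_, ?_⟩
  · rw [map_mul, map_mul, tvec_det, mul_one, ← map_mul, mul_inv_cancel, map_one]
  intro h
  have h1 : app (g * tvec hij 1 * g⁻¹) W.1 = W.1 := h
  rw [← hg, app_mul, app_inv_app, app_mul] at h1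
  have h2 := app_injective g h1
  have hmem : (tvec hij (1 : F) : Matrix (Fin n) (Fin n) F).mulVec (Pi.single j 1) ∈ stdS F n k := by
    rw [← h2]
    exact ⟨_, single_mem_stdS.2 (show (j : ℕ) < k by simp [j]; omega), rfl⟩
  have := hmem i (show k ≤ n - 1 by omega)
  simp [tvec_val, Matrix.one_apply_ne hij] at this

theorem coverN_proper (hn : 3 ≤ n ∨ (n = 2 ∧ 4 ≤ Fintype.card F))
    (hgen : ∀ K : Flds F n, ∃ x, Algebra.adjoin F ({x} : Set (Matrix (Fin n) (Fin n) F)) = K.1)
    (i : Flds F n ⊕ Small F n) :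
    ∃ x : GL (Fin n) F, Matrix.GeneralLinearGroup.det x = 1 ∧ x ∉ coverN F n i := by
  rcases i with K | W
  · obtain ⟨x, hx⟩ := hgen K
    exact exists_not_mem_normK K.2 hn hx
  · exact exists_not_mem_stabW (by omega) W

/-- The marked element of a field for `n ≥ 3`. -/
theorem exists_marked (hn : 3 ≤ n) (K : Flds F n) :
    ∃ x : GL (Fin n) F, Matrix.GeneralLinearGroup.det x = 1 ∧
      Algebra.adjoin F ({(x : Matrix (Fin n) (Fin n) F)} : Set (Matrix (Fin n) (Fin n) F)) = K.1 ∧
      ∀ Γ : Subgroup (GL (Fin n) F), Group.IsNilpotent ↥Γ → ∀ hxΓ : x ∈ Γ,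
        (⟨x, hxΓ⟩ : ↥Γ) ∈ Subgroup.center ↥Γ := by
  obtain ⟨K, hK⟩ := K
  have hq : 2 ≤ Fintype.card F := Fintype.one_lt_card
  have hppd : (∃ r : ℕ, r.Prime ∧ r ∣ Fintype.card F ^ n - 1 ∧
      orderOf ((Fintype.card F : ℕ) : ZMod r) = n) ∨ (Fintype.card F = 2 ∧ n = 6) := by
    rcases eq_or_lt_of_le hq with h2 | h3
    · by_cases h6 : n = 6
      · exact Or.inr ⟨h2.symm, h6⟩
      · obtain ⟨r, hr, hd, ho⟩ := H76.exists_primitive_two hn h6
        refine Or.inl ⟨r, hr, h2 ▸ hd, ?_⟩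
        rw [← h2]
        simpa using ho
    · exact Or.inl (H43.exists_primitive_prime h3 hn)
  rcases hppd with ⟨r, hr, hrd, hro⟩ | ⟨hq2, rfl⟩
  · have hk : ∀ e, 0 < e → e < n → ¬ r ∣ Fintype.card F ^ e - 1 := by
      intro e he hen hd
      have h1 : ((Fintype.card F : ℕ) : ZMod r) ^ e = 1 := by
        rw [← Nat.cast_pow, ← Nat.cast_one, ZMod.natCast_eq_natCast_iff]
        exact ((Nat.modEq_iff_dvd' (Nat.one_le_pow _ _ (by omega))).2 hd).symm
      have := Nat.le_of_dvd he (hro ▸ orderOf_dvd_of_pow_eq_one h1)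
      omega
    obtain ⟨x, hxK, hxo⟩ := hK.exists_orderOf hrd
    have hgen := hK.adjoin_eq_of_order hxK hxo hk
    refine ⟨x, ?_, hgen, fun Γ _ hxΓ => ?_⟩
    · rw [← orderOf_eq_one_iff]
      have h1 : orderOf (Matrix.GeneralLinearGroup.det x) ∣ r := hxo ▸ orderOf_map_dvd _ x
      rcases (Nat.dvd_prime hr).1 h1 with h | h
      · exact h
      · exfalso
        classical
        have h2 := orderOf_dvd_card (x := Matrix.GeneralLinearGroup.det x)
        rw [h, Fintype.card_units] at h2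
        exact hk 1 one_pos (by omega) (by rwa [pow_one])
    · refine hK.mem_center_of_prime (x := ⟨x, hxΓ⟩) hr hgen hxK ?_
      rw [← Subgroup.orderOf_coe]
      exact hxo
  · obtain ⟨x, hxK, hxo⟩ := hK.exists_orderOf (k := 21) (by rw [hq2]; norm_num)
    have hgen := hK.adjoin_eq_of_order hxK hxo (by
      intro e he he6
      rw [hq2]
      interval_cases e <;> norm_num)
    refine ⟨x, ?_, hgen, fun Γ _ hxΓ => ?_⟩
    · classical
      have : Subsingleton Fˣ := Fintype.card_le_one_iff_subsingleton.1 (by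
        rw [Fintype.card_units, hq2])
      exact Subsingleton.elim _ _
    · have hxo' : orderOf (⟨x, hxΓ⟩ : ↥Γ) = 21 := by rw [← Subgroup.orderOf_coe]; exact hxo
      have hmk : ∀ m l : ℕ, l.Prime → m ≠ 0 → 21 = m * l →
          (⟨x, hxΓ⟩ : ↥Γ) ^ m ∈ Subgroup.center ↥Γ := by
        intro m l hl hm hml
        refine hK.mem_center_of_prime (x := ⟨x, hxΓ⟩) hl hgen ?_ ?_
        · simpa using pow_mem hxK m
        · rw [orderOf_pow_of_dvd hm (by rw [hxo', hml]; exact dvd_mul_right m l), hxo', hml,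
            Nat.mul_div_cancel_left _ (Nat.pos_of_ne_zero hm)]
      have h7 := hmk 7 3 Nat.prime_three (by norm_num) (by norm_num)
      have h3 := hmk 3 7 (by norm_num) (by norm_num) (by norm_num)
      have he : (⟨x, hxΓ⟩ : ↥Γ) = (⟨x, hxΓ⟩ : ↥Γ) ^ 7 * ((⟨x, hxΓ⟩ : ↥Γ) ^ 3 * (⟨x, hxΓ⟩ : ↥Γ) ^ 3)⁻¹ := by
        rw [← pow_add, eq_mul_inv_iff_mul_eq, ← pow_succ']
      rw [he]
      exact mul_mem h7 (inv_mem (mul_mem h3 h3))

/-- The result for `n ≥ 3`. -/
theorem no_cover_ge_three (hn : 3 ≤ n)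
    (G : Subgroup (GL (Fin n) F ⧸ Subgroup.center (GL (Fin n) F)))
    (hG : ((Matrix.SpecialLinearGroup.toGL : Matrix.SpecialLinearGroup (Fin n) F →* GL (Fin n) F).range).map
      (QuotientGroup.mk' (Subgroup.center (GL (Fin n) F))) ≤ G) :
    ¬ ∃ 𝓐 : Finset (Subgroup ↥G), ((∀ A ∈ 𝓐, A ≠ ⊤) ∧ (∀ g : ↥G, ∃ A ∈ 𝓐, g ∈ A)) ∧
      (∀ 𝓑 : Finset (Subgroup ↥G), (∀ A ∈ 𝓑, A ≠ ⊤) ∧ (∀ g : ↥G, ∃ A ∈ 𝓑, g ∈ A) →
        𝓐.card ≤ 𝓑.card) ∧ (∀ A ∈ 𝓐, Group.IsNilpotent ↥A) := by
  haveI : NeZero n := ⟨by omega⟩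
  choose xK hdet hgen hcen using exists_marked (F := F) hn
  choose gF hgF using fun f : Fl F n => f.2
  obtain ⟨p, hp⟩ := CharP.exists F
  haveI := hp
  haveI : Fact p.Prime := ⟨CharP.char_is_prime F p⟩
  haveI : Finite (Fl F n) := inferInstance
  refine no_cover (T := Flds F n ⊕ Fl F n) ?_ (coverN F n) center_le_coverN
    (coverN_proper (Or.inl hn) fun K => ⟨_, hgen K⟩) coverN_covers
    (Sum.elim xK fun f => unip (gF f)) (fun t => ?_) ?_ G hG
  · rw [Nat.card_sum, Nat.card_sum]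
    have := card_small_lt_flags (F := F) (n := n) hn
    omega
  · rcases t with K | f
    · exact hdet K
    · exact unip_det _
  · intro Γ hΓ
    have hxu : ∀ (K : Flds F n) (g : GL (Fin n) F), xK K ∈ Γ → unip g ∈ Γ → False := by
      intro K g hx hu
      obtain ⟨a, ha⟩ := unip_pow (p := p) g
      have hmem : (unip g : Matrix (Fin n) (Fin n) F) ∈ K.1 :=
        K.2.mem_of_commute_gen (hgen K) (congrArg (fun w : ↥Γ => ((w : GL (Fin n) F) : Matrix (Fin n) (Fin n) F))
          (Subgroup.mem_center_iff.1 (hcen K Γ hΓ hx) ⟨_, hu⟩))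
      have h0 : ((unip g : Matrix (Fin n) (Fin n) F) - 1) ^ p ^ a = 0 := by
        rw [sub_pow_char_pow_of_commute _ _ (Commute.one_right _), one_pow, ← Units.val_pow_eq_pow_val,
          ha, Units.val_one, sub_self]
      have := K.2.pow_eq_zero (sub_mem hmem (one_mem _)) h0
      exact unip_ne_one (by omega) g (Units.ext (sub_eq_zero.1 this))
    rintro (K | f) (K' | f') h h'
    · congr 1
      have hmem : (xK K' : Matrix (Fin n) (Fin n) F) ∈ K.1 :=
        K.2.mem_of_commute_gen (hgen K) (congrArg (fun w : ↥Γ => ((w : GL (Fin n) F) : Matrix (Fin n) (Fin n) F))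
          (Subgroup.mem_center_iff.1 (hcen K Γ hΓ h) ⟨_, h'⟩))
      have hle : K'.1 ≤ K.1 := by
        rw [← hgen K']
        exact Algebra.adjoin_le (Set.singleton_subset_iff.2 hmem)
      exact Subtype.ext (K.2.le_antisymm K'.2 hle).symm
    · exact (hxu K _ h h').elim
    · exact (hxu K' _ h' h).elim
    · congr 1
      obtain ⟨a, ha⟩ := unip_pow (p := p) (gF f)
      obtain ⟨a', ha'⟩ := unip_pow (p := p) (gF f')
      have : kerFlag (unip (gF f)) = kerFlag (unip (gF f')) := kerFlag_eq (Γ := Γ) h h' (reg_conj jordan_reg _) (reg_conj jordan_reg _) ha ha'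
      rw [kerFlag_unip, kerFlag_unip, hgF, hgF] at this
      exact Subtype.ext this

end H57.Cover
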