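import Mathlib
import Cfsg.Agent.H57.CoverPGL

/-!
Groups between `PSL_2(q)` and `PGL_2(q)`, `q ≥ 4`, have no nilpotent minimal cover.
-/

set_option autoImplicit false
set_option linter.style.haveILetI false
set_option linter.unusedSectionVars false
set_option maxHeartbeats 1000000

open Module Matrix

namespace H57.Cover

variable {F : Type*} [Field F] [Fintype F]

/-- Nonscalar, and with nonzero trace unless the characteristic is two. -/
def Good (g : Matrix (Fin 2) (Fin 2) F) : Prop :=
  (∀ c : F, g ≠ c • 1) ∧ (Matrix.trace g ≠ 0 ∨ (2 : F) = 0)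

theorem exists_coeffs_of_commute {g y : Matrix (Fin 2) (Fin 2) F} (hg : ∀ c : F, g ≠ c • 1)
    (h : y * g = g * y) : ∃ a b : F, y = a • (1 : Matrix (Fin 2) (Fin 2) F) + b • g := by
  have h00 := congrFun (congrFun h 0) 0
  have h01 := congrFun (congrFun h 0) 1
  have h10 := congrFun (congrFun h 1) 0
  simp only [Matrix.mul_apply, Fin.sum_univ_two] at h00 h01 h10
  by_cases hb : g 0 1 = 0
  · by_cases hc : g 1 0 = 0
    · have hne : g 0 0 - g 1 1 ≠ 0 := by
        intro h0
        refine hg (g 0 0) ?_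
        ext i j
        fin_cases i <;> fin_cases j <;> simp [hb, hc]
        linear_combination -h0
      have hy01 : y 0 1 = 0 := by
        have h0 : y 0 1 * (g 0 0 - g 1 1) = 0 := by
          rw [hb] at h01
          linear_combination -h01
        exact (mul_eq_zero.1 h0).resolve_right hne
      have hy10 : y 1 0 = 0 := by
        have h0 : y 1 0 * (g 0 0 - g 1 1) = 0 := by
          rw [hc] at h10
          linear_combination h10
        exact (mul_eq_zero.1 h0).resolve_right hne
      refine ⟨y 0 0 - (y 0 0 - y 1 1) / (g 0 0 - g 1 1) * g 0 0,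
        (y 0 0 - y 1 1) / (g 0 0 - g 1 1), ?_⟩
      ext i j
      fin_cases i <;> fin_cases j <;> simp [hb, hc, hy01, hy10]
      field_simp
      ring
    · refine ⟨y 0 0 - y 1 0 / g 1 0 * g 0 0, y 1 0 / g 1 0, ?_⟩
      have hy01 : y 0 1 = 0 := by
        have h0 : y 0 1 * g 1 0 = 0 := by
          rw [hb] at h00
          linear_combination h00
        exact (mul_eq_zero.1 h0).resolve_right hc
      ext i j
      fin_cases i <;> fin_cases j <;> simp [hb, hy01]
      · field_simp
      · field_simp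
        linear_combination h10
  · refine ⟨y 0 0 - y 0 1 / g 0 1 * g 0 0, y 0 1 / g 0 1, ?_⟩
    ext i j
    fin_cases i <;> fin_cases j <;> simp
    · field_simp
    · field_simp
      linear_combination -h00
    · field_simp
      linear_combination -h01

theorem mem_adjoin_of_commute {g y : Matrix (Fin 2) (Fin 2) F} (hg : ∀ c : F, g ≠ c • 1)
    (h : y * g = g * y) : y ∈ Algebra.adjoin F ({g} : Set (Matrix (Fin 2) (Fin 2) F)) := by
  obtain ⟨a, b, rfl⟩ := exists_coeffs_of_commute hg h
  have h1 : g ∈ Algebra.adjoin F ({g} : Set (Matrix (Fin 2) (Fin 2) F)) :=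
    Algebra.subset_adjoin (Set.mem_singleton g)
  exact Subalgebra.add_mem _ (Subalgebra.smul_mem _ (Subalgebra.one_mem _) a)
    (Subalgebra.smul_mem _ h1 b)

theorem commute_of_mem_adjoin {g y : Matrix (Fin 2) (Fin 2) F}
    (h : y ∈ Algebra.adjoin F ({g} : Set (Matrix (Fin 2) (Fin 2) F))) : y * g = g * y := by
  rw [Algebra.adjoin_singleton_eq_range_aeval] at h
  obtain ⟨f, rfl⟩ := h
  calc Polynomial.aeval g f * g = Polynomial.aeval g (f * Polynomial.X) := by
        rw [map_mul, Polynomial.aeval_X]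
    _ = g * Polynomial.aeval g f := by rw [mul_comm, map_mul, Polynomial.aeval_X]

/-- A projectively central nonscalar element of a nilpotent group. -/
theorem exists_proj_central {Γ : Subgroup (GL (Fin 2) F)} [Group.IsNilpotent ↥Γ]
    {g : GL (Fin 2) F} (hgΓ : g ∈ Γ) (hg : ∀ c : F, (g : Matrix (Fin 2) (Fin 2) F) ≠ c • 1) :
    ∃ z ∈ Γ, (∀ c : F, (z : Matrix (Fin 2) (Fin 2) F) ≠ c • 1) ∧
      ∀ h ∈ Γ, ∃ l : F, (h : Matrix (Fin 2) (Fin 2) F) * z = l • ((z : Matrix (Fin 2) (Fin 2) F) * h) := by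
  set q := QuotientGroup.mk' (Subgroup.center (GL (Fin 2) F))
  haveI : Group.IsNilpotent ↥(Γ.map q) :=
    Group.nilpotent_of_surjective (q.subgroupMap Γ) (q.subgroupMap_surjective Γ)
  haveI : Nontrivial ↥(Γ.map q) := by
    refine (Subgroup.nontrivial_iff_ne_bot _).2 fun hbot => ?_
    have : q g = 1 := Subgroup.mem_bot.1 (hbot ▸ ⟨g, hgΓ, rfl⟩)
    obtain ⟨c, hc⟩ := center_scalar ((QuotientGroup.eq_one_iff g).1 this)
    exact hg c hc
  obtain ⟨⟨zb, z, hz, rfl⟩, hzc, hz1⟩ := exists_mem_center_ne_one (Γ := ↥(Γ.map q))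
  refine ⟨z, hz, fun c hc => hz1 (Subtype.ext ?_), fun h hh => ?_⟩
  · exact (QuotientGroup.eq_one_iff z).2 (mem_center_of_scalar hc)
  · have he : q (h * z) = q (z * h) := by
      rw [map_mul, map_mul]
      exact congrArg Subtype.val (Subgroup.mem_center_iff.1 hzc ⟨q h, h, hh, rfl⟩)
    obtain ⟨c, hc⟩ := center_scalar (QuotientGroup.eq.1 he.symm)
    refine ⟨c, ?_⟩
    have : (z * h) * ((z * h)⁻¹ * (h * z)) = h * z := by group
    have := congrArg (fun w : GL (Fin 2) F => (w : Matrix (Fin 2) (Fin 2) F)) this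
    simp only [Units.val_mul] at this hc
    rw [hc, mul_smul_comm, mul_one] at this
    exact this.symm

theorem adjoin_eq_of_good {Γ : Subgroup (GL (Fin 2) F)} [Group.IsNilpotent ↥Γ]
    {g g' : GL (Fin 2) F} (hg : g ∈ Γ) (hg' : g' ∈ Γ) (h : Good (g : Matrix (Fin 2) (Fin 2) F))
    (h' : Good (g' : Matrix (Fin 2) (Fin 2) F)) :
    Algebra.adjoin F ({(g : Matrix (Fin 2) (Fin 2) F)} : Set (Matrix (Fin 2) (Fin 2) F)) =
      Algebra.adjoin F ({(g' : Matrix (Fin 2) (Fin 2) F)} : Set (Matrix (Fin 2) (Fin 2) F)) := by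
  obtain ⟨z, hz, hzns, hzc⟩ := exists_proj_central hg h.1
  have key : ∀ u : GL (Fin 2) F, u ∈ Γ → Good (u : Matrix (Fin 2) (Fin 2) F) →
      Algebra.adjoin F ({(u : Matrix (Fin 2) (Fin 2) F)} : Set (Matrix (Fin 2) (Fin 2) F)) =
        Algebra.adjoin F ({(z : Matrix (Fin 2) (Fin 2) F)} : Set (Matrix (Fin 2) (Fin 2) F)) := by
    intro u hu hu'
    obtain ⟨l, hl⟩ := hzc u hu
    have hdu : ((u : Matrix (Fin 2) (Fin 2) F) * z).det ≠ 0 := by
      rw [← Units.val_mul]
      exact ((Matrix.isUnit_iff_isUnit_det _).1 (u * z).isUnit).ne_zero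
    have hl2 : l * l = 1 := by
      have := congrArg Matrix.det hl
      rw [Matrix.det_smul, Fintype.card_fin, Matrix.det_mul_comm (z : Matrix (Fin 2) (Fin 2) F)] at this
      refine mul_right_cancel₀ hdu ?_
      rw [one_mul]
      rw [sq] at this
      exact this.symm
    have hl1 : l = 1 := by
      rcases mul_self_eq_one_iff.1 hl2 with h1 | h1
      · exact h1
      · rcases hu'.2 with ht | h2
        · by_contra hne
          refine ht ?_
          have h2 : (2 : F) ≠ 0 := fun h0 => hne (by rw [h1]; linear_combination -h0)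
          have he : ((z⁻¹ : GL (Fin 2) F) : Matrix (Fin 2) (Fin 2) F) * u * z = -(u : Matrix (Fin 2) (Fin 2) F) := by
            rw [mul_assoc, hl, h1, neg_one_smul, mul_neg, ← mul_assoc, ← Units.val_mul,
              inv_mul_cancel, Units.val_one, one_mul]
          have := congrArg Matrix.trace he
          rw [Matrix.trace_units_conj', Matrix.trace_neg] at this
          have h3 : (2 : F) * Matrix.trace (u : Matrix (Fin 2) (Fin 2) F) = 0 := by
            linear_combination this
          exact (mul_eq_zero.1 h3).resolve_left h2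
        · rw [h1]; linear_combination -h2
    rw [hl1, one_smul] at hl
    refine le_antisymm (Algebra.adjoin_le (Set.singleton_subset_iff.2 ?_))
      (Algebra.adjoin_le (Set.singleton_subset_iff.2 ?_))
    · exact mem_adjoin_of_commute hzns hl
    · exact mem_adjoin_of_commute hu'.1 hl.symm
  rw [key g hg h, key g' hg' h']

/-- The diagonal matrix `diag(a, a⁻¹)`. -/
noncomputable def splitElt (a : Fˣ) : GL (Fin 2) F :=
  Matrix.GeneralLinearGroup.mkOfDetNeZero (Matrix.diagonal ![(a : F), ((a⁻¹ : Fˣ) : F)])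
    (by simp [Matrix.det_diagonal, Fin.prod_univ_two])

theorem splitElt_val (a : Fˣ) : (splitElt a : Matrix (Fin 2) (Fin 2) F) =
    Matrix.diagonal ![(a : F), ((a⁻¹ : Fˣ) : F)] := rfl

theorem splitElt_det (a : Fˣ) : Matrix.GeneralLinearGroup.det (splitElt a) = 1 := by
  apply Units.ext
  rw [Matrix.GeneralLinearGroup.val_det_apply, splitElt_val]
  simp [Matrix.det_diagonal, Fin.prod_univ_two]

theorem splitElt_root (a : Fˣ) :
    ((splitElt a : Matrix (Fin 2) (Fin 2) F) - (a : F) • 1) *
      ((splitElt a : Matrix (Fin 2) (Fin 2) F) - ((a⁻¹ : Fˣ) : F) • 1) = 0 := by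
  rw [splitElt_val]
  ext i j
  fin_cases i <;> fin_cases j <;> simp [Matrix.mul_apply, Fin.sum_univ_two]

theorem splitElt_not_scalar {a : Fˣ} (ha : orderOf a = Fintype.card F - 1)
    (hq : 4 ≤ Fintype.card F) (c : F) : (splitElt a : Matrix (Fin 2) (Fin 2) F) ≠ c • 1 := by
  intro h
  rw [splitElt_val] at h
  have h0 := congrFun (congrFun h 0) 0
  have h1 := congrFun (congrFun h 1) 1
  simp at h0 h1
  have : a ^ 2 = 1 := by
    have e : a = a⁻¹ := Units.ext (h0.trans (h1.symm.trans (by simp)))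
    rw [sq]
    nth_rewrite 2 [e]
    exact mul_inv_cancel a
  have := Nat.le_of_dvd (by norm_num) (orderOf_dvd_of_pow_eq_one this)
  omega

theorem splitElt_good {a : Fˣ} (ha : orderOf a = Fintype.card F - 1)
    (hq : 4 ≤ Fintype.card F) (h5 : Fintype.card F ≠ 5) :
    Good (splitElt a : Matrix (Fin 2) (Fin 2) F) := by
  refine ⟨splitElt_not_scalar ha hq, Or.inl fun ht => ?_⟩
  rw [splitElt_val, Matrix.trace_diagonal, Fin.sum_univ_two] at ht
  simp at ht
  have ha0 : (a : F) ≠ 0 := a.ne_zero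
  field_simp at ht
  have h4 : a ^ 4 = 1 := by
    apply Units.ext
    rw [Units.val_pow_eq_pow_val, Units.val_one]
    linear_combination ((a : F) ^ 2 - 1) * ht
  have h5' := orderOf_dvd_of_pow_eq_one h4
  rw [ha] at h5'
  have := Nat.le_of_dvd (by norm_num) h5'
  have h45 : Fintype.card F = 4 := by omega
  rw [h45] at h5'
  norm_num at h5'

theorem unip_good (g : GL (Fin 2) F) : Good (unip g : Matrix (Fin 2) (Fin 2) F) := by
  have htr : Matrix.trace (unip g : Matrix (Fin 2) (Fin 2) F) = 2 := by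
    rw [unip, Units.val_mul, Units.val_mul, Matrix.trace_units_conj, Matrix.trace_fin_two]
    simp [jordan_apply, one_add_one_eq_two]
  refine ⟨fun c hc => ?_, ?_⟩
  · have h1 : (jordan F 2 : Matrix (Fin 2) (Fin 2) F) = c • 1 := by
      have : jordan F 2 = g⁻¹ * unip g * g := by rw [unip]; group
      rw [this, Units.val_mul, Units.val_mul, hc, mul_smul_comm, mul_one, smul_mul_assoc,
        ← Units.val_mul, inv_mul_cancel, Units.val_one]
    have := congrFun (congrFun h1 0) 1
    simp [jordan_apply] at this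
  · rw [htr]
    exact (ne_or_eq (2 : F) 0)

theorem unip_sq (g : GL (Fin 2) F) : ((unip g : Matrix (Fin 2) (Fin 2) F) - 1) ^ 2 = 0 := by
  have h : kerFlag (unip g) 2 = ⊤ := by
    rw [kerFlag_unip]
    unfold flagOf
    rw [stdS_eq_top le_rfl]
    unfold app
    rw [Submodule.map_top, LinearMap.range_eq_top]
    exact Matrix.mulVec_surjective_iff_isUnit.2 g.isUnit
  refine Matrix.ext_of_mulVec_single fun i => ?_
  rw [Matrix.zero_mulVec]
  exact (h.symm ▸ Submodule.mem_top : (Pi.single i (1 : F)) ∈ kerFlag (unip g) 2)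

theorem kerFlag_one_eq {u u' : GL (Fin 2) F} (hu : ∀ c : F, (u : Matrix (Fin 2) (Fin 2) F) ≠ c • 1)
    (hu' : ∀ c : F, (u' : Matrix (Fin 2) (Fin 2) F) ≠ c • 1)
    (h2 : ((u : Matrix (Fin 2) (Fin 2) F) - 1) ^ 2 = 0)
    (h2' : ((u' : Matrix (Fin 2) (Fin 2) F) - 1) ^ 2 = 0)
    (hc : (u' : Matrix (Fin 2) (Fin 2) F) * u = u * u') : kerFlag u 1 = kerFlag u' 1 := by
  obtain ⟨a, b, hab⟩ := exists_coeffs_of_commute hu hc
  set N := (u : Matrix (Fin 2) (Fin 2) F) - 1 with hN
  have hN' : (u' : Matrix (Fin 2) (Fin 2) F) - 1 = (a + b - 1) • (1 : Matrix (Fin 2) (Fin 2) F) + b • N := by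
    rw [hN, hab, smul_sub, sub_smul, add_smul, one_smul]
    abel
  set d := a + b - 1
  have hNN : N * N = 0 := by rw [← sq]; exact h2
  have hN0 : N ≠ 0 := fun h => hu 1 (by rw [one_smul]; exact sub_eq_zero.1 h)
  have h3 : (d * d) • N = 0 := by
    have : ((u' : Matrix (Fin 2) (Fin 2) F) - 1) * ((u' : Matrix (Fin 2) (Fin 2) F) - 1) * N = 0 := by
      rw [← sq, h2', zero_mul]
    rw [hN'] at this
    simpa [add_mul, mul_add, smul_mul_assoc, mul_smul_comm, smul_smul, hNN] using this
  have hd : d = 0 := mul_self_eq_zero.1 ((smul_eq_zero.1 h3).resolve_right hN0)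
  rw [hd, zero_smul, zero_add] at hN'
  have hb : b ≠ 0 := fun h => hu' 1 (by
    rw [one_smul, ← sub_eq_zero, hN', h, zero_smul])
  ext v
  unfold kerFlag
  rw [pow_one, pow_one, LinearMap.mem_ker, LinearMap.mem_ker, Matrix.mulVecLin_apply,
    Matrix.mulVecLin_apply, hN', Matrix.smul_mulVec, ← hN]
  simp [hb]

theorem gen_of_order {K : Flds F 2} {k : ℕ} {x : GL (Fin 2) F}
    (hx : (x : Matrix (Fin 2) (Fin 2) F) ∈ K.1) (ho : orderOf x = k)
    (hk : ¬ k ∣ Fintype.card F - 1) :
    Algebra.adjoin F ({(x : Matrix (Fin 2) (Fin 2) F)} : Set (Matrix (Fin 2) (Fin 2) F)) = K.1 :=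
  K.2.adjoin_eq_of_order hx ho fun e he he2 => by
    obtain rfl : e = 1 := by omega
    rwa [pow_one]

theorem exists_marked_two (hq : 4 ≤ Fintype.card F) (K : Flds F 2) :
    ∃ x : GL (Fin 2) F, Matrix.GeneralLinearGroup.det x = 1 ∧
      Algebra.adjoin F ({(x : Matrix (Fin 2) (Fin 2) F)} : Set (Matrix (Fin 2) (Fin 2) F)) = K.1 ∧
      Good (x : Matrix (Fin 2) (Fin 2) F) ∧ (Fintype.card F = 5 → x ^ 3 = 1) := by
  classical
  obtain ⟨w, hwK, hwo⟩ := K.2.exists_orderOf dvd_rfl
  set m := if Fintype.card F = 5 then 2 else 1 with hm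
  have hqsq : Fintype.card F ^ 2 - 1 = (Fintype.card F + 1) * (Fintype.card F - 1) := by
    rw [← Nat.sq_sub_sq, one_pow]
  set x := w ^ ((Fintype.card F - 1) * m) with hx
  have hxK : (x : Matrix (Fin 2) (Fin 2) F) ∈ K.1 := by
    rw [hx, Units.val_pow_eq_pow_val]
    exact pow_mem hwK _
  have ho : orderOf x = if Fintype.card F = 5 then 3 else Fintype.card F + 1 := by
    rw [hx, hm]
    split_ifs with h5
    · rw [orderOf_pow_of_dvd (by omega) (by rw [hwo, h5]; norm_num), hwo, h5]
      norm_num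
    · rw [mul_one, orderOf_pow_of_dvd (by omega) (by rw [hwo, hqsq]; exact dvd_mul_left _ _), hwo,
        hqsq, Nat.mul_div_cancel _ (by omega)]
  have hdet : Matrix.GeneralLinearGroup.det x = 1 := by
    rw [hx, map_pow, pow_mul, ← Fintype.card_units, pow_card_eq_one, one_pow]
  have hgen := gen_of_order hxK ho (by
    split_ifs with h5
    · rw [h5]; norm_num
    · intro h
      have := Nat.le_of_dvd (by omega) h
      omega)
  refine ⟨x, hdet, hgen, ⟨fun c => not_scalar_of_gen K.2 le_rfl hgen c, ?_⟩, fun h5 => ?_⟩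
  · by_contra hbad
    push Not at hbad
    obtain ⟨ht, -⟩ := hbad
    have hd : (x : Matrix (Fin 2) (Fin 2) F).det = 1 := congrArg Units.val hdet
    have h2 := sq_eq_two (x : Matrix (Fin 2) (Fin 2) F)
    rw [ht, hd, zero_smul, one_smul, zero_sub] at h2
    have h4 : x ^ 4 = 1 := by
      apply Units.ext
      rw [show x ^ 4 = (x * x) * (x * x) by simp [pow_succ, mul_assoc], Units.val_mul, Units.val_mul, h2]
      simp
    have := orderOf_dvd_of_pow_eq_one h4
    rw [ho] at this
    split_ifs at this with h5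
    · norm_num at this
    · have hle := Nat.le_of_dvd (by norm_num) this
      omega
  · rw [← orderOf_dvd_iff_pow_eq_one, ho, if_pos h5]

theorem no_cover_two (hq : 4 ≤ Fintype.card F)
    (G : Subgroup (GL (Fin 2) F ⧸ Subgroup.center (GL (Fin 2) F)))
    (hG : ((Matrix.SpecialLinearGroup.toGL : Matrix.SpecialLinearGroup (Fin 2) F →* GL (Fin 2) F).range).map
      (QuotientGroup.mk' (Subgroup.center (GL (Fin 2) F))) ≤ G) :
    ¬ ∃ 𝓐 : Finset (Subgroup ↥G), ((∀ A ∈ 𝓐, A ≠ ⊤) ∧ (∀ g : ↥G, ∃ A ∈ 𝓐, g ∈ A)) ∧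
      (∀ 𝓑 : Finset (Subgroup ↥G), (∀ A ∈ 𝓑, A ≠ ⊤) ∧ (∀ g : ↥G, ∃ A ∈ 𝓑, g ∈ A) →
        𝓐.card ≤ 𝓑.card) ∧ (∀ A ∈ 𝓐, Group.IsNilpotent ↥A) := by
  classical
  choose xK hdet hgen hgood hx3 using exists_marked_two (F := F) hq
  choose gW hgW using fun W : Small F 2 => exists_app_stdS W.1
  obtain ⟨a, ha⟩ := IsCyclic.exists_generator (α := Fˣ)
  have hoa : orderOf a = Fintype.card F - 1 := by
    rw [orderOf_eq_card_of_forall_mem_zpowers ha, Nat.card_eq_fintype_card, Fintype.card_units]
  obtain ⟨p, hp⟩ := CharP.exists F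
  haveI := hp
  haveI hpp : Fact p.Prime := ⟨CharP.char_is_prime F p⟩
  refine no_cover (T := (Flds F 2 ⊕ Small F 2) ⊕ Unit) ?_ (coverN F 2) center_le_coverN
    (coverN_proper (Or.inr ⟨rfl, hq⟩) fun K => ⟨_, hgen K⟩) coverN_covers
    (Sum.elim (Sum.elim xK fun W => unip (gW W)) fun _ => splitElt a) ?_ ?_ G hG
  · rw [Nat.card_sum (α := Flds F 2 ⊕ Small F 2), Nat.card_unique (α := Unit)]
    omega
  · rintro ((K | W) | u)
    · exact hdet K
    · exact unip_det _
    · exact splitElt_det a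
  · intro Γ hΓ
    -- a good element of odd order shares the algebra with the split element
    have hsplit : ∀ g : GL (Fin 2) F, g ∈ Γ → Good (g : Matrix (Fin 2) (Fin 2) F) →
        (Fintype.card F = 5 → ∃ r i : ℕ, r.Prime ∧ r ≠ 2 ∧ g ^ r ^ i = 1) → splitElt a ∈ Γ →
        (splitElt a : Matrix (Fin 2) (Fin 2) F) ∈
          Algebra.adjoin F ({(g : Matrix (Fin 2) (Fin 2) F)} : Set (Matrix (Fin 2) (Fin 2) F)) := by
      intro g hg hgg h5 hs
      by_cases hq5 : Fintype.card F = 5
      · obtain ⟨r, i, hr, hr2, hgr⟩ := h5 hq5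
        refine mem_adjoin_of_commute hgg.1 ?_
        have hs4 : splitElt a ^ 2 ^ 2 = 1 := by
          apply Units.ext
          rw [Units.val_pow_eq_pow_val, splitElt_val, Matrix.diagonal_pow, Units.val_one,
            ← Matrix.diagonal_one]
          congr 1
          have ha4 : a ^ 4 = 1 := by
            rw [← orderOf_dvd_iff_pow_eq_one, hoa, hq5]
          funext j
          fin_cases j
          · simpa using congrArg Units.val ha4
          · simpa using congrArg Units.val ha4
        have := commute_of_pow (Γ := ↥Γ) Nat.prime_two hr (Ne.symm hr2) (a := ⟨_, hs⟩) (b := ⟨g, hg⟩)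
          (i := 2) (j := i) (Subtype.ext hs4) (Subtype.ext hgr)
        exact congrArg (fun w : ↥Γ => ((w : GL (Fin 2) F) : Matrix (Fin 2) (Fin 2) F)) this
      · rw [adjoin_eq_of_good hg hs hgg (splitElt_good hoa hq hq5)]
        exact Algebra.subset_adjoin rfl
    have hKu : ∀ (K : Flds F 2) (g : GL (Fin 2) F), xK K ∈ Γ → unip g ∈ Γ → False := by
      intro K g h h'
      have hmem : (unip g : Matrix (Fin 2) (Fin 2) F) ∈ K.1 := by
        rw [← hgen K, adjoin_eq_of_good h h' (hgood K) (unip_good g)]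
        exact Algebra.subset_adjoin rfl
      have := K.2.pow_eq_zero (sub_mem hmem (one_mem _)) (unip_sq g)
      exact unip_ne_one le_rfl g (Units.ext (sub_eq_zero.1 this))
    have hKs : ∀ (K : Flds F 2), xK K ∈ Γ → splitElt a ∈ Γ → False := by
      intro K h h'
      have hmem : (splitElt a : Matrix (Fin 2) (Fin 2) F) ∈ K.1 := hgen K ▸ hsplit _ h (hgood K)
        (fun h5 => ⟨3, 1, Nat.prime_three, by norm_num, by rw [pow_one]; exact hx3 K h5⟩) h'
      rcases K.2.mul_eq_zero (sub_mem hmem (K.1.smul_mem (one_mem _) _)) (splitElt_root a) with h0 | h0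
      · exact splitElt_not_scalar hoa hq _ (sub_eq_zero.1 h0)
      · exact splitElt_not_scalar hoa hq _ (sub_eq_zero.1 h0)
    have hus : ∀ g : GL (Fin 2) F, unip g ∈ Γ → splitElt a ∈ Γ → False := by
      intro g h h'
      have hmem := hsplit _ h (unip_good g) (fun h5 => by
        obtain ⟨i, hi⟩ := unip_pow (p := p) g
        refine ⟨p, i, hpp.out, ?_, hi⟩
        intro hp2
        obtain ⟨k, -, hk⟩ := FiniteField.card F p
        rw [h5, hp2] at hk
        have : (2 : ℕ) ∣ 5 := hk ▸ dvd_pow_self 2 k.pos.ne'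
        omega) h'
      have hcomm : (splitElt a : Matrix (Fin 2) (Fin 2) F) * unip g = unip g * splitElt a := by
        exact commute_of_mem_adjoin hmem
      obtain ⟨c, b, hcb⟩ := exists_coeffs_of_commute (unip_good g).1 hcomm
      have h2 : ((splitElt a : Matrix (Fin 2) (Fin 2) F) - (c + b) • 1) ^ 2 = 0 := by
        have : (splitElt a : Matrix (Fin 2) (Fin 2) F) - (c + b) • 1 =
            b • ((unip g : Matrix (Fin 2) (Fin 2) F) - 1) := by
          rw [hcb, smul_sub, add_smul]; abel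
        rw [this, smul_pow, unip_sq, smul_zero]
      refine splitElt_not_scalar hoa hq (c + b) ?_
      rw [splitElt_val, Matrix.smul_one_eq_diagonal, Matrix.diagonal_sub, Matrix.diagonal_pow,
        Matrix.diagonal_eq_zero] at h2
      rw [splitElt_val, Matrix.smul_one_eq_diagonal]
      congr 1
      funext j
      exact sub_eq_zero.1 (pow_eq_zero_iff two_ne_zero |>.1 (congrFun h2 j))
    rintro ((K | W) | u) ((K' | W') | u') h h'
    · congr 2
      have := adjoin_eq_of_good h h' (hgood K) (hgood K')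
      exact Subtype.ext ((hgen K).symm.trans (this.trans (hgen K')))
    · exact (hKu K _ h h').elim
    · exact (hKs K h h').elim
    · exact (hKu K' _ h' h).elim
    · congr 2
      have hadj := adjoin_eq_of_good h h' (unip_good (gW W)) (unip_good (gW W'))
      have hcomm : (unip (gW W') : Matrix (Fin 2) (Fin 2) F) * unip (gW W) =
          unip (gW W) * unip (gW W') := by
        have hmem : (unip (gW W') : Matrix (Fin 2) (Fin 2) F) ∈ Algebra.adjoin F
            ({(unip (gW W) : Matrix (Fin 2) (Fin 2) F)} : Set (Matrix (Fin 2) (Fin 2) F)) :=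
          hadj ▸ Algebra.subset_adjoin rfl
        exact commute_of_mem_adjoin hmem
      have hk := kerFlag_one_eq (unip_good (gW W)).1 (unip_good (gW W')).1 (unip_sq _) (unip_sq _) hcomm
      rw [kerFlag_unip, kerFlag_unip] at hk
      have hW : ∀ V : Small F 2, finrank F ↥V.1 = 1 := fun V => by have := V.2; omega
      have e1 := hgW W
      have e2 := hgW W'
      rw [hW] at e1 e2
      exact Subtype.ext (e1.symm.trans (hk.trans e2))
    · exact (hus _ h h').elim
    · exact (hKs K' h' h).elim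
    · exact (hus _ h' h).elim
    · rfl

end H57.Cover
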