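import Mathlib

/-!
A copy of the free group of countable rank inside a quotient of `Z/2 * Z/4`, in normal form.
-/

set_option autoImplicit false

namespace H57

universe u

variable {K : Type*} [Group K]

/-- The product of the blocks `t * a ^ j`. -/
def blocks (a t : K) (js : List ℕ) : K := (js.map fun j => t * a ^ j).prod

/-- The middle element `a³ t a²`, or its inverse. -/
def midEl (a t : K) (b : Bool) : K := bif b then a ^ 3 * t * a ^ 2 else a ^ 2 * t * a

/-- The `i`-th free generator. -/
def freeGen (a t : K) (i : ℕ) : K := (a * t) ^ i * midEl a t true * ((a * t) ^ i)⁻¹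

/-- The exponent with which the normal form of a suffix starts. -/
def headExp (b : Bool) : ℕ := bif b then 3 else 2

/-- The exponent with which the middle element ends. -/
def tailExp (b : Bool) : ℕ := bif b then 2 else 1

theorem midEl_eq (a t : K) (b : Bool) : midEl a t b = a ^ headExp b * (t * a ^ tailExp b) := by
  cases b <;> simp [midEl, headExp, tailExp, mul_assoc]

theorem pow_at (a t : K) (d : ℕ) : (a * t) ^ (d + 1) = a * (t * a) ^ d * t := by
  induction d with
  | zero => simp
  | succ d ih => rw [pow_succ, ih, pow_succ (t * a)]; simp only [mul_assoc]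

theorem inv_at {a t : K} (ha : a ^ 4 = 1) (ht : t * t = 1) : (a * t)⁻¹ = t * a ^ 3 := by
  apply inv_eq_of_mul_eq_one_right
  calc a * t * (t * a ^ 3) = a * (t * t) * a ^ 3 := by simp only [mul_assoc]
    _ = a ^ 4 := by rw [ht, mul_one, ← pow_succ']
    _ = 1 := ha

theorem blocks_replicate (a t : K) (k j : ℕ) : blocks a t (List.replicate k j) = (t * a ^ j) ^ k := by
  simp [blocks]

theorem blocks_append (a t : K) (l l' : List ℕ) : blocks a t (l ++ l') = blocks a t l * blocks a t l' := by
  simp [blocks]

theorem blocks_single (a t : K) (j : ℕ) : blocks a t [j] = t * a ^ j := by simp [blocks]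

theorem pow_mod_four {a : K} (ha : a ^ 4 = 1) (i : ℕ) : a ^ i = a ^ (i % 4) := by
  conv_lhs => rw [← Nat.mod_add_div i 4, pow_add, pow_mul, ha, one_pow, mul_one]

theorem suffix_form : ∀ L : List (ℕ × Bool), FreeGroup.IsReduced L → ∀ i b rest, L = (i, b) :: rest →
    ∃ js : List ℕ, js ≠ [] ∧ (∀ j ∈ js, j = 1 ∨ j = 2 ∨ j = 3) ∧
      ∀ (K : Type u) [Group K] (a t : K), a ^ 4 = 1 → t * t = 1 →
        ((a * t) ^ i)⁻¹ * (L.map fun x => cond x.2 (freeGen a t x.1) (freeGen a t x.1)⁻¹).prod =
          a ^ headExp b * blocks a t js := by
  intro L
  induction L with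
  | nil => intro _ i b rest h; simp at h
  | cons x L ih =>
    intro hred i b rest h
    obtain ⟨rfl, rfl⟩ : x = (i, b) ∧ L = rest := by simpa using h
    have hgen : ∀ (K : Type u) [Group K] (a t : K), a ^ 4 = 1 → t * t = 1 →
        cond b (freeGen a t i) (freeGen a t i)⁻¹ = (a * t) ^ i * midEl a t b * ((a * t) ^ i)⁻¹ := by
      intro K _ a t ha ht
      cases b
      · have hinv : (midEl a t true)⁻¹ = midEl a t false := by
          apply inv_eq_of_mul_eq_one_right
          simp only [midEl, cond_true, cond_false]
          calc a ^ 3 * t * a ^ 2 * (a ^ 2 * t * a) = a ^ 3 * t * (a ^ 2 * a ^ 2) * t * a := by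
                simp only [mul_assoc]
            _ = a ^ 3 * (t * t) * a := by rw [← pow_add, ha, mul_one]; simp only [mul_assoc]
            _ = 1 := by rw [ht, mul_one, ← pow_succ, ha]
        simp only [cond_false, freeGen, _root_.mul_inv_rev, inv_inv, hinv, mul_assoc]
      · rfl
    cases L with
    | nil =>
      refine ⟨tailExp b :: List.replicate i 3, by simp, ?_, ?_⟩
      · intro j hj
        rcases List.mem_cons.mp hj with rfl | hj
        · cases b <;> simp [tailExp]
        · obtain ⟨-, rfl⟩ := List.mem_replicate.mp hj; simp
      · intro K _ a t ha ht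
        simp only [List.map_cons, List.map_nil, List.prod_cons, List.prod_nil, mul_one, hgen K a t ha ht]
        rw [← List.singleton_append, blocks_append, blocks_single, blocks_replicate, ← inv_at ha ht,
          inv_pow, midEl_eq]
        simp only [← mul_assoc, inv_mul_cancel, one_mul]
    | cons y L =>
      obtain ⟨i', b'⟩ := y
      obtain ⟨hstep, hred'⟩ : ((i = i') → b = b') ∧ FreeGroup.IsReduced ((i', b') :: L) := by
        rw [FreeGroup.IsReduced, List.isChain_cons_cons] at hred
        exact ⟨fun h => hred.1 h, hred.2⟩
      obtain ⟨js, hne, hjs, hform⟩ := ih hred' i' b' L rfl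
      -- the three junctions
      let js' : List ℕ := if i' = i then (tailExp b + headExp b') % 4 :: js
        else if i < i' then (tailExp b + 1) :: (List.replicate (i' - i - 1) 1 ++ headExp b' :: js)
        else tailExp b :: (List.replicate (i - i' - 1) 3 ++ (3 + headExp b') % 4 :: js)
      refine ⟨js', ?_, ?_, ?_⟩
      · simp only [js']; split_ifs <;> simp
      · simp only [js']
        split_ifs with h1 h2
        · subst h1
          obtain rfl := hstep rfl
          intro j hj
          rcases List.mem_cons.mp hj with rfl | hj
          · cases b <;> simp [tailExp, headExp]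
          · exact hjs j hj
        · intro j hj
          simp only [List.mem_cons, List.mem_append] at hj
          rcases hj with rfl | hj | rfl | hj
          · cases b <;> simp [tailExp]
          · obtain ⟨-, rfl⟩ := List.mem_replicate.mp hj; simp
          · cases b' <;> simp [headExp]
          · exact hjs j hj
        · intro j hj
          simp only [List.mem_cons, List.mem_append] at hj
          rcases hj with rfl | hj | rfl | hj
          · cases b <;> simp [tailExp]
          · obtain ⟨-, rfl⟩ := List.mem_replicate.mp hj; simp
          · cases b' <;> simp [headExp]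
          · exact hjs j hj
      · intro K _ a t ha ht
        have hf := hform K a t ha ht
        rw [List.map_cons, List.prod_cons]
        simp only [hgen K a t ha ht]
        set R := (((i', b') :: L).map fun x => cond x.2 (freeGen a t x.1) (freeGen a t x.1)⁻¹).prod
        have hR : R = (a * t) ^ i' * (a ^ headExp b' * blocks a t js) := by
          rw [← hf, mul_inv_cancel_left]
        have e : ((a * t) ^ i)⁻¹ * ((a * t) ^ i * midEl a t b * ((a * t) ^ i)⁻¹ * R) =
            a ^ headExp b * (t * a ^ tailExp b) * ((((a * t) ^ i)⁻¹ * (a * t) ^ i') *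
              (a ^ headExp b' * blocks a t js)) := by
          rw [hR, midEl_eq]; group
        show ((a * t) ^ i)⁻¹ * ((a * t) ^ i * midEl a t b * ((a * t) ^ i)⁻¹ * R) = _
        rw [e, mul_assoc (a ^ headExp b)]
        congr 1
        simp only [js']
        split_ifs with h1 h2
        · subst h1
          rw [inv_mul_cancel, one_mul, ← List.singleton_append, blocks_append, blocks_single,
            ← pow_mod_four ha, pow_add]
          simp only [mul_assoc]
        · obtain ⟨d, rfl⟩ : ∃ d, i' = i + (d + 1) := ⟨i' - i - 1, by omega⟩
          rw [show i + (d + 1) - i - 1 = d by omega, pow_add, inv_mul_cancel_left, pow_at,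
            ← List.singleton_append, blocks_append, blocks_single, blocks_append, blocks_replicate,
            ← List.singleton_append (x := headExp b'), blocks_append, blocks_single, pow_one, pow_succ]
          simp only [mul_assoc]
        · obtain ⟨d, rfl⟩ : ∃ d, i = i' + (d + 1) := ⟨i - i' - 1, by omega⟩
          rw [show i' + (d + 1) - i' - 1 = d by omega, pow_add, _root_.mul_inv_rev, mul_assoc _ ((a * t) ^ i')⁻¹,
            inv_mul_cancel, mul_one, ← inv_pow, inv_at ha ht, pow_succ,
            ← List.singleton_append, blocks_append, blocks_single, blocks_append, blocks_replicate,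
            ← List.singleton_append (x := (3 + headExp b') % 4), blocks_append, blocks_single,
            ← pow_mod_four ha, pow_add]
          simp only [mul_assoc]

/-- Every nontrivial free word has a nonempty normal form. -/
theorem free_form (w : FreeGroup ℕ) (hw : w ≠ 1) :
    ∃ (c : ℕ) (js : List ℕ), js ≠ [] ∧ (∀ j ∈ js, j = 1 ∨ j = 2 ∨ j = 3) ∧
      ∀ (K : Type u) [Group K] (a t : K), a ^ 4 = 1 → t * t = 1 →
        FreeGroup.lift (freeGen a t) w = a ^ c * blocks a t js := by
  classical
  rcases hL : w.toWord with _ | ⟨⟨i, b⟩, rest⟩
  · exact absurd (FreeGroup.toWord_eq_nil_iff.mp hL) hw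
  · obtain ⟨js, hne, hjs, hform⟩ :=
      suffix_form _ (hL ▸ FreeGroup.isReduced_toWord (x := w)) i b rest rfl
    refine ⟨if i = 0 then headExp b else 1,
      if i = 0 then js else List.replicate (i - 1) 1 ++ headExp b :: js, ?_, ?_, ?_⟩
    · split_ifs <;> simp [hne]
    · split_ifs
      · exact hjs
      · intro j hj
        simp only [List.mem_cons, List.mem_append] at hj
        rcases hj with hj | rfl | hj
        · obtain ⟨-, rfl⟩ := List.mem_replicate.mp hj; simp
        · cases b <;> simp [headExp]
        · exact hjs j hj
    · intro K _ a t ha ht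
      have hf := hform K a t ha ht
      conv_lhs => rw [← FreeGroup.mk_toWord (x := w), hL, FreeGroup.lift_mk]
      rw [inv_mul_eq_iff_eq_mul] at hf
      rw [hf]
      split_ifs with h
      · subst h; simp
      · obtain ⟨d, rfl⟩ : ∃ d, i = d + 1 := ⟨i - 1, by omega⟩
        rw [Nat.add_sub_cancel, pow_at, blocks_append, blocks_replicate,
          ← List.singleton_append, blocks_append, blocks_single, pow_one]
        simp only [mul_assoc]

end H57
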