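import Cfsg.Prelude.Def_Transfer
import Cfsg.Agent.H81.Fitting
import Mathlib

/-!
Abelian Sylow subgroups of centreless groups with a nilpotent minimal cover.
-/

set_option autoImplicit false

namespace H57

variable {G : Type*} [Group G] [Finite G] {p : ℕ} [hp : Fact p.Prime]

/-- `𝓐` is a nilpotent minimal cover. -/
def IsNilMinCover (𝓐 : Finset (Subgroup G)) : Prop :=
  ((∀ A ∈ 𝓐, A ≠ ⊤) ∧ (∀ g : G, ∃ A ∈ 𝓐, g ∈ A)) ∧
    (∀ 𝓑 : Finset (Subgroup G), (∀ A ∈ 𝓑, A ≠ ⊤) ∧ (∀ g : G, ∃ A ∈ 𝓑, g ∈ A) →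
      𝓐.card ≤ 𝓑.card) ∧ (∀ A ∈ 𝓐, Group.IsNilpotent ↥A)

/-- `x` is a `p`-element. -/
def IsPEl (p : ℕ) (x : G) : Prop := ∃ k, x ^ p ^ k = 1

omit [Finite G] hp in
theorem IsPEl.zpowers {x : G} (h : IsPEl p x) : IsPGroup p (Subgroup.zpowers x) := by
  obtain ⟨k, hk⟩ := h
  rintro ⟨_, i, rfl⟩
  refine ⟨k, Subtype.ext ?_⟩
  show (x ^ i) ^ p ^ k = 1
  rw [← zpow_natCast, ← zpow_mul, mul_comm, zpow_mul, zpow_natCast, hk, one_zpow]

omit [Finite G] hp in
theorem isPEl_of_mem {H : Subgroup G} (hH : IsPGroup p H) {x : G} (hx : x ∈ H) : IsPEl p x := by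
  obtain ⟨k, hk⟩ := hH ⟨x, hx⟩
  exact ⟨k, by simpa using congrArg Subtype.val hk⟩

theorem mem_normal_sylow (Q : Sylow p G) [(Q : Subgroup G).Normal] {x : G} (hx : IsPEl p x) :
    x ∈ (Q : Subgroup G) := by
  have h := Q.is_maximal' (hx.zpowers.to_sup_of_normal_right Q.isPGroup') le_sup_right
  exact h ▸ (le_sup_left : Subgroup.zpowers x ≤ Subgroup.zpowers x ⊔ Q) (Subgroup.mem_zpowers x)

theorem pElement_central (P : Sylow p G) (hab : IsMulCommutative ↥(P : Subgroup G))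
    {A : Subgroup G} (hA : Group.IsNilpotent ↥A) {x : G} (hx : x ∈ A) (hxp : IsPEl p x) {a : G}
    (ha : a ∈ A) : Commute a x := by
  haveI := hA
  obtain ⟨i, m, hm, hord⟩ :=
    Nat.exists_eq_pow_mul_and_not_dvd (orderOf_pos (⟨a, ha⟩ : A)).ne' p hp.out.ne_one
  set a' : A := ⟨a, ha⟩
  let x' : A := ⟨x, hx⟩
  have hx' : IsPEl p x' := by
    obtain ⟨k, hk⟩ := hxp
    exact ⟨k, Subtype.ext (by simpa [x'] using hk)⟩
  have hone : a' ^ (p ^ i * m) = 1 := hord ▸ pow_orderOf_eq_one a'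
  have hc1 : Commute (a' ^ p ^ i) x' := by
    refine H81.commute_of_coprime_orderOf hA ?_
    obtain ⟨k, hk⟩ := hx'
    refine Nat.Coprime.coprime_dvd_left (orderOf_dvd_of_pow_eq_one (by rw [← pow_mul, hone]))
      (Nat.Coprime.coprime_dvd_right (orderOf_dvd_of_pow_eq_one hk) ?_)
    exact ((hp.out.coprime_iff_not_dvd.mpr hm).pow_left k).symm
  obtain ⟨Q⟩ : Nonempty (Sylow p A) := inferInstance
  haveI hQn : (Q : Subgroup A).Normal :=
    Q.normal_of_normalizerCondition Group.normalizerCondition_of_isNilpotent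
  have hc2 : Commute (a' ^ m) x' := by
    have h1 : a' ^ m ∈ (Q : Subgroup A) :=
      mem_normal_sylow Q ⟨i, by rw [← pow_mul, mul_comm, hone]⟩
    have h2 : x' ∈ (Q : Subgroup A) := mem_normal_sylow Q hx'
    obtain ⟨R, hR⟩ := (Q.isPGroup'.map A.subtype).exists_le_sylow
    obtain ⟨g, hg⟩ := MulAction.exists_smul_eq G R P
    have hmem : ∀ w ∈ (Q : Subgroup A), g * (w : G) * g⁻¹ ∈ (P : Subgroup G) := by
      intro w hw
      rw [← hg, Sylow.coe_subgroup_smul]
      exact Subgroup.smul_mem_pointwise_smul (w : G) _ _ (hR ⟨w, hw, rfl⟩)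
    have e := congrArg Subtype.val (hab.is_comm.comm ⟨_, hmem _ h1⟩ ⟨_, hmem _ h2⟩)
    apply Subtype.ext
    apply (MulAut.conj g).injective
    simpa [MulAut.conj_apply] using e
  have hbez := Nat.gcd_eq_gcd_ab (p ^ i) m
  rw [((hp.out.coprime_iff_not_dvd.mpr hm).pow_left i).gcd_eq_one] at hbez
  have e : a' = (a' ^ p ^ i) ^ Nat.gcdA (p ^ i) m * (a' ^ m) ^ Nat.gcdB (p ^ i) m := by
    rw [← zpow_natCast, ← zpow_natCast, ← zpow_mul, ← zpow_mul, ← zpow_add, ← hbez]
    simp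
  have : Commute a' x' := by
    rw [e]
    exact (hc1.zpow_left _).mul_left (hc2.zpow_left _)
  exact congrArg Subtype.val this.eq

omit [Finite G] in
theorem cover_unique {𝓐 : Finset (Subgroup G)} (h𝓐 : IsNilMinCover 𝓐)
    {M : Subgroup G} (hM : M ≠ ⊤) {A B : Subgroup G} (hA : A ∈ 𝓐) (hB : B ∈ 𝓐) (hAM : A ≤ M)
    (hBM : B ≤ M) : A = B := by
  classical
  by_contra hne
  obtain ⟨⟨hproper, hcov⟩, hmin, -⟩ := h𝓐
  have h := hmin (insert M ((𝓐.erase A).erase B)) ⟨fun C hC => by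
      rcases Finset.mem_insert.mp hC with rfl | hC
      · exact hM
      · exact hproper C (Finset.mem_of_mem_erase (Finset.mem_of_mem_erase hC)),
    fun g => by
      obtain ⟨C, hC, hg⟩ := hcov g
      by_cases h1 : C = A
      · exact ⟨M, Finset.mem_insert_self _ _, hAM (h1 ▸ hg)⟩
      by_cases h2 : C = B
      · exact ⟨M, Finset.mem_insert_self _ _, hBM (h2 ▸ hg)⟩
      exact ⟨C, Finset.mem_insert_of_mem
        (Finset.mem_erase.mpr ⟨h2, Finset.mem_erase.mpr ⟨h1, hC⟩⟩), hg⟩⟩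
  have h1 := Finset.card_insert_le M ((𝓐.erase A).erase B)
  have h2 := Finset.card_erase_add_one hA
  have h3 := Finset.card_erase_add_one (Finset.mem_erase.mpr ⟨Ne.symm hne, hB⟩)
  omega

theorem pEl_member_unique (hZ : Subgroup.center G = ⊥) {𝓐 : Finset (Subgroup G)}
    (h𝓐 : IsNilMinCover 𝓐) (P : Sylow p G) (hab : IsMulCommutative ↥(P : Subgroup G)) {x : G}
    (hx : x ≠ 1) (hxp : IsPEl p x) {A B : Subgroup G} (hA : A ∈ 𝓐) (hB : B ∈ 𝓐) (hxA : x ∈ A)
    (hxB : x ∈ B) : A = B := by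
  refine cover_unique h𝓐 (M := Subgroup.centralizer {x}) (fun h => hx ?_) hA hB
    (fun a ha => Subgroup.mem_centralizer_singleton_iff.mpr
      (pElement_central P hab (h𝓐.2.2 A hA) hxA hxp ha).eq)
    (fun a ha => Subgroup.mem_centralizer_singleton_iff.mpr
      (pElement_central P hab (h𝓐.2.2 B hB) hxB hxp ha).eq)
  have : x ∈ Subgroup.center G := Subgroup.mem_center_iff.mpr fun g =>
    Subgroup.mem_centralizer_singleton_iff.mp (h ▸ Subgroup.mem_top g)
  rwa [hZ] at this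

/-- An abelian, nontrivial, non-elementary (or prime order) Sylow subgroup has centraliser in the cover. -/
theorem exists_member (hZ : Subgroup.center G = ⊥) {𝓐 : Finset (Subgroup G)} (h𝓐 : IsNilMinCover 𝓐)
    (P : Sylow p G) (hab : IsMulCommutative ↥(P : Subgroup G)) (hnt : p ∣ Nat.card G)
    (hel : ¬ ((∀ a ∈ (P : Subgroup G), a ^ p = 1) ∧ p < Nat.card ↥(P : Subgroup G))) :
    ∃ A ∈ 𝓐, (P : Subgroup G) ≤ A ∧ Subgroup.centralizer ((P : Subgroup G) : Set G) = A := by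
  classical
  have hp' : p.Prime := hp.out
  obtain ⟨⟨-, hcov⟩, -, hnil⟩ := id h𝓐
  have hpel : ∀ x ∈ (P : Subgroup G), IsPEl p x := fun x hx => isPEl_of_mem P.isPGroup' hx
  have hcomm : ∀ u ∈ (P : Subgroup G), ∀ v ∈ (P : Subgroup G), Commute u v := fun u hu v hv =>
    congrArg Subtype.val (hab.is_comm.comm ⟨u, hu⟩ ⟨v, hv⟩)
  obtain ⟨x₀, hx₀, hx₀1⟩ : ∃ x ∈ (P : Subgroup G), x ≠ 1 := by
    by_contra! h
    have hbot : (P : Subgroup G) = ⊥ := (Subgroup.eq_bot_iff_forall _).mpr h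
    have := P.dvd_card_of_dvd_card hnt
    rw [hbot, Subgroup.card_bot] at this
    exact hp'.one_lt.ne' (Nat.dvd_one.mp this)
  obtain ⟨A, hA, hPA⟩ : ∃ A ∈ 𝓐, (P : Subgroup G) ≤ A := by
    by_cases hcard : Nat.card ↥(P : Subgroup G) ≤ p
    · obtain ⟨A, hA, hxA⟩ := hcov x₀
      have hc : Nat.card ↥(P : Subgroup G) = p :=
        le_antisymm hcard (Nat.le_of_dvd Nat.card_pos (P.dvd_card_of_dvd_card hnt))
      refine ⟨A, hA, fun y hy => ?_⟩
      obtain ⟨n, hn⟩ := mem_powers_of_prime_card (g := (⟨x₀, hx₀⟩ : (P : Subgroup G)))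
        (g' := ⟨y, hy⟩) hc (fun h => hx₀1 (congrArg Subtype.val h))
      rw [show y = x₀ ^ n from (congrArg Subtype.val hn).symm]
      exact pow_mem hxA n
    · push Not at hcard
      obtain ⟨x, hx, hxp⟩ : ∃ x ∈ (P : Subgroup G), x ^ p ≠ 1 := by
        by_contra! h
        exact hel ⟨h, hcard⟩
      obtain ⟨A, hA, hxA⟩ := hcov x
      refine ⟨A, hA, ?_⟩
      have hsmall : ∀ y ∈ (P : Subgroup G), y ^ p = 1 → y ∈ A := by
        intro y hy hyp
        obtain ⟨B, hB, hxyB⟩ := hcov (x * y)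
        have hpow : (x * y) ^ p = x ^ p := by rw [(hcomm x hx y hy).mul_pow, hyp, mul_one]
        have := pEl_member_unique hZ h𝓐 P hab hxp (hpel _ (pow_mem hx p)) hA hB (pow_mem hxA p)
          (hpow ▸ pow_mem hxyB p)
        subst this
        exact (Subgroup.mul_mem_cancel_left A hxA).mp hxyB
      intro y hy
      obtain ⟨B, hB, hyB⟩ := hcov y
      rcases eq_or_ne y 1 with rfl | hy1
      · exact one_mem _
      obtain ⟨j, hj1, hj2⟩ : ∃ j, y ^ p ^ j ≠ 1 ∧ (y ^ p ^ j) ^ p = 1 := by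
        have hex : ∃ j, y ^ p ^ j = 1 := hpel y hy
        obtain ⟨j, hj⟩ : ∃ j, Nat.find hex = j + 1 := by
          refine Nat.exists_eq_succ_of_ne_zero fun h => hy1 ?_
          have := Nat.find_spec hex
          rw [h] at this
          simpa using this
        exact ⟨j, Nat.find_min hex (by omega), by
          rw [← pow_mul, ← pow_succ, ← hj]; exact Nat.find_spec hex⟩
      exact pEl_member_unique hZ h𝓐 P hab hj1 (hpel _ (pow_mem hy _)) hA hB
        (hsmall _ (pow_mem hy _) hj2) (pow_mem hyB _) ▸ hyB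
  refine ⟨A, hA, hPA, le_antisymm (fun g hg => ?_) fun a ha => Subgroup.mem_centralizer_iff.mpr
    fun y hy => (pElement_central P hab (hnil A hA) (hPA hy) (hpel y hy) ha).eq.symm⟩
  obtain ⟨i, m, hm, hord⟩ :=
    Nat.exists_eq_pow_mul_and_not_dvd (orderOf_pos g).ne' p hp'.ne_one
  have hone : g ^ (p ^ i * m) = 1 := hord ▸ pow_orderOf_eq_one g
  have hp1 : g ^ m ∈ A := by
    refine hPA ?_
    let N := Subgroup.normalizer ((P : Subgroup G) : Set G)
    have hgN : g ^ m ∈ N := Subgroup.centralizer_le_normalizer _ (pow_mem hg m)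
    haveI : ((P.subtype Subgroup.le_normalizer : Sylow p N) : Subgroup N).Normal :=
      Subgroup.normal_in_normalizer
    have := mem_normal_sylow (P.subtype Subgroup.le_normalizer) (x := (⟨g ^ m, hgN⟩ : N))
      ⟨i, Subtype.ext (by
        show (g ^ m) ^ p ^ i = 1
        rw [← pow_mul, mul_comm, hone])⟩
    exact this
  have hp2 : g ^ p ^ i ∈ A := by
    obtain ⟨B, hB, hzB⟩ := hcov (x₀ * g ^ p ^ i)
    have hc : Commute x₀ (g ^ p ^ i) := Subgroup.mem_centralizer_iff.mp (pow_mem hg _) x₀ hx₀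
    have e1 : (x₀ * g ^ p ^ i) ^ m = x₀ ^ m := by
      rw [hc.mul_pow, ← pow_mul, hone, mul_one]
    have hm1 : x₀ ^ m ≠ 1 := by
      intro h
      obtain ⟨k, hk⟩ := hpel x₀ hx₀
      apply hx₀1
      rw [← orderOf_eq_one_iff]
      exact Nat.eq_one_of_dvd_coprimes ((hp'.coprime_iff_not_dvd.mpr hm).pow_left k)
        (orderOf_dvd_of_pow_eq_one hk) (orderOf_dvd_of_pow_eq_one h)
    have := pEl_member_unique hZ h𝓐 P hab hm1 (hpel _ (pow_mem hx₀ m)) hA hB (pow_mem (hPA hx₀) m)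
      (e1 ▸ pow_mem hzB m)
    subst this
    exact (Subgroup.mul_mem_cancel_left A (hPA hx₀)).mp hzB
  have hbez := Nat.gcd_eq_gcd_ab (p ^ i) m
  rw [((hp'.coprime_iff_not_dvd.mpr hm).pow_left i).gcd_eq_one] at hbez
  have e : g = (g ^ p ^ i) ^ Nat.gcdA (p ^ i) m * (g ^ m) ^ Nat.gcdB (p ^ i) m := by
    rw [← zpow_natCast, ← zpow_natCast, ← zpow_mul, ← zpow_mul, ← zpow_add, ← hbez]
    simp
  rw [e]
  exact mul_mem (zpow_mem hp2 _) (zpow_mem hp1 _)

theorem nilCover_main (hZ : Subgroup.center G = ⊥) {𝓐 : Finset (Subgroup G)} (h𝓐 : IsNilMinCover 𝓐)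
    (P : Sylow p G) (hab : IsMulCommutative ↥(P : Subgroup G)) (hnn : ¬ (P : Subgroup G).Normal)
    (hel : ¬ ((∀ a ∈ (P : Subgroup G), a ^ p = 1) ∧ p < Nat.card ↥(P : Subgroup G))) :
    ∃ A ∈ 𝓐, (P : Subgroup G) ≤ A ∧ ¬ p ∣ ((P : Subgroup G).subgroupOf A).index ∧
      IsCoatom (Subgroup.normalizer ((P : Subgroup G) : Set G)) ∧
      (∀ g : G, g ∉ Subgroup.normalizer ((P : Subgroup G) : Set G) →
        ¬ p ∣ Nat.card ↥(Subgroup.normalizer ((P : Subgroup G) : Set G) ⊓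
          (Subgroup.normalizer ((P : Subgroup G) : Set G)).map (MulAut.conj g).toMonoidHom)) ∧
      Subgroup.centralizer ((P : Subgroup G) : Set G) = A ∧
      (∀ M : Subgroup G, IsCoatom M → A ≤ M →
        M = Subgroup.normalizer ((P : Subgroup G) : Set G)) := by
  classical
  have hp' : p.Prime := hp.out
  have hnt : p ∣ Nat.card G := by
    by_contra h
    refine hnn ?_
    obtain ⟨n, hn⟩ := IsPGroup.iff_card.mp P.isPGroup'
    have h1 : n = 0 := by
      by_contra hn0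
      exact h (((dvd_pow_self p hn0).trans (hn ▸ dvd_refl _ : p ^ n ∣ Nat.card ↥(P : Subgroup G))).trans
        (Subgroup.card_subgroup_dvd_card _))
    rw [h1, pow_zero, Subgroup.card_eq_one] at hn
    rw [hn]
    infer_instance
  obtain ⟨A, hA, hPA, hC⟩ := exists_member hZ h𝓐 P hab hnt hel
  set N := Subgroup.normalizer ((P : Subgroup G) : Set G) with hNdef
  have hN : N ≠ ⊤ := fun h => hnn (Subgroup.normalizer_eq_top_iff.mp h)
  have hAN : A ≤ N := hC ▸ Subgroup.centralizer_le_normalizer _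
  have hconj : ∀ g : G, ∃ B ∈ 𝓐, ((g • P : Sylow p G) : Subgroup G) ≤ B ∧
      Subgroup.centralizer (((g • P : Sylow p G) : Subgroup G) : Set G) = B := by
    intro g
    have habg : IsMulCommutative ↥((g • P : Sylow p G) : Subgroup G) := by
      refine ⟨⟨fun u v => Subtype.ext ?_⟩⟩
      obtain ⟨u', hu', hu⟩ := u.2
      obtain ⟨v', hv', hv⟩ := v.2
      have e := congrArg Subtype.val (hab.is_comm.comm ⟨u', hu'⟩ ⟨v', hv'⟩)
      simp only [Subgroup.coe_mul] at e ⊢
      have e' := congrArg (MulAut.conj g) e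
      rw [map_mul, map_mul] at e'
      rw [← hu, ← hv]
      exact e'
    exact exists_member hZ h𝓐 (g • P) habg hnt (by
      rintro ⟨h1, h2⟩
      apply hel
      refine ⟨fun a ha => ?_, ?_⟩
      · have := h1 _ (Subgroup.smul_mem_pointwise_smul a (MulAut.conj g) _ ha)
        rw [MulAut.smul_def, ← map_pow] at this
        exact (MulAut.conj g).injective (by rw [this, map_one])
      · rwa [Sylow.card_eq_multiplicity, ← P.card_eq_multiplicity] at h2)
  have hkey : ∀ g : G, ∀ x : G, x ≠ 1 → x ∈ (P : Subgroup G) → g * x * g⁻¹ ∈ A → g ∈ N := by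
    intro g x hx1 hx hgx
    obtain ⟨B, hB, hPB, hCB⟩ := hconj g
    have hmem : g * x * g⁻¹ ∈ ((g • P : Sylow p G) : Subgroup G) :=
      Subgroup.smul_mem_pointwise_smul x (MulAut.conj g) _ hx
    have hAB := pEl_member_unique hZ h𝓐 P hab (fun h => hx1 (conj_eq_one_iff.mp h))
      (isPEl_of_mem (g • P).isPGroup' hmem) hA hB hgx (hPB hmem)
    subst hAB
    -- `g • P` centralises `P`, hence equals it
    have hle : ((g • P : Sylow p G) : Subgroup G) ≤ N := hPB.trans hAN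
    have heq : g • P = P := by
      apply Sylow.ext
      refine (g • P).is_maximal' P.isPGroup' (fun y hy => ?_) |>.symm
      haveI : ((P.subtype Subgroup.le_normalizer : Sylow p N) : Subgroup N).Normal :=
        Subgroup.normal_in_normalizer
      exact mem_normal_sylow (P.subtype Subgroup.le_normalizer) (x := (⟨y, hle hy⟩ : N))
        (by obtain ⟨k, hk⟩ := isPEl_of_mem (g • P).isPGroup' hy
            exact ⟨k, Subtype.ext hk⟩)
    exact Sylow.smul_eq_iff_mem_normalizer.mp heq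
  obtain ⟨x₀, hx₀, hx₀1⟩ : ∃ x ∈ (P : Subgroup G), x ≠ 1 := by
    by_contra! h
    have hbot : (P : Subgroup G) = ⊥ := (Subgroup.eq_bot_iff_forall _).mpr h
    exact hnn (hbot ▸ inferInstance)
  have hmax : ∀ M : Subgroup G, IsCoatom M → A ≤ M → M = N := by
    intro M hM hAM
    refine eq_of_le_of_not_lt ?_ fun h => hN (hM.2 N h)
    intro g hg
    by_contra hgN
    obtain ⟨B, hB, hPB, hCB⟩ := hconj g
    have hne : B ≠ A := fun h => hgN (hkey g x₀ hx₀1 hx₀
      (h ▸ hPB (Subgroup.smul_mem_pointwise_smul x₀ (MulAut.conj g) _ hx₀)))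
    apply hne
    refine cover_unique h𝓐 hM.1 hB hA (fun b hb => ?_) hAM
    have hbA : g⁻¹ * b * g ∈ A := by
      rw [← hC, Subgroup.mem_centralizer_iff]
      intro y hy
      rw [← hCB, Subgroup.mem_centralizer_iff] at hb
      have e := hb _ (Subgroup.smul_mem_pointwise_smul y (MulAut.conj g) _ hy)
      rw [MulAut.smul_def, MulAut.conj_apply] at e
      calc y * (g⁻¹ * b * g) = g⁻¹ * ((g * y * g⁻¹) * b) * g := by group
        _ = g⁻¹ * (b * (g * y * g⁻¹)) * g := by rw [e]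
        _ = g⁻¹ * b * g * y := by group
    have e : b = g * (g⁻¹ * b * g) * g⁻¹ := by group
    rw [e]
    exact mul_mem (mul_mem hg (hAM hbA)) (inv_mem hg)
  obtain ⟨M, hM, hAM⟩ := (IsCoatomic.eq_top_or_exists_le_coatom A).resolve_left (h𝓐.1.1 A hA)
  refine ⟨A, hA, hPA, ?_, (hmax M hM hAM) ▸ hM, ?_, hC, hmax⟩
  · exact fun h => P.not_dvd_index (h.trans (Subgroup.relIndex_dvd_index_of_le hPA))
  · intro g hg hdvd
    obtain ⟨z, hz⟩ := exists_prime_orderOf_dvd_card' p hdvd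
    have hz1 : (z : G) ≠ 1 := by
      intro h
      rw [← Subgroup.orderOf_coe, h, orderOf_one] at hz
      exact hp'.one_lt.ne hz
    have hzp : IsPEl p (z : G) := ⟨1, by rw [pow_one, ← hz, ← Subgroup.orderOf_coe, pow_orderOf_eq_one]⟩
    obtain ⟨h1, y, hy, hyz⟩ := z.2
    haveI : ((P.subtype Subgroup.le_normalizer : Sylow p N) : Subgroup N).Normal :=
      Subgroup.normal_in_normalizer
    have hyP : y ∈ (P : Subgroup G) := mem_normal_sylow (P.subtype Subgroup.le_normalizer)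
      (x := (⟨y, hy⟩ : N)) (by
        obtain ⟨k, hk⟩ := hzp
        refine ⟨k, Subtype.ext ?_⟩
        rw [← hyz] at hk
        exact (MulAut.conj g).injective (by simpa using hk))
    have hzP : (z : G) ∈ (P : Subgroup G) :=
      mem_normal_sylow (P.subtype Subgroup.le_normalizer) (x := (⟨z, h1⟩ : N))
        (by obtain ⟨k, hk⟩ := hzp
            exact ⟨k, Subtype.ext hk⟩)
    refine hg (hkey g y (fun h => hz1 (by rw [← hyz, h, map_one])) hyP ?_)
    exact hPA ((show g * y * g⁻¹ = (z : G) from hyz) ▸ hzP)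

end H57
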