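import Mathlib
import Cfsg.Agent.H57.PSLTriple
import Cfsg.Agent.H57.BinaryTI

/-!
Binary coset actions of `PSL₂(q)`: generation and class counting.
-/

set_option autoImplicit false
set_option linter.unusedSectionVars false

namespace H57.PSL

open Matrix H39
open scoped MatrixGroups

variable {F : Type*} [Field F] [Fintype F]

local notation "G2" => Matrix.ProjectiveSpecialLinearGroup (Fin 2) F

/-- All translations and one element outside the Borel subgroup generate. -/
theorem eq_top_of_transl_mem {M : Subgroup G2} (hT : ∀ s : F, transl s ∈ M) {x : G2} (hxM : x ∈ M)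
    (hx : x ∉ (borelP : Subgroup G2)) : M = ⊤ := by
  obtain ⟨g, rfl⟩ := proj_surjective x
  have hc : g 1 0 ≠ 0 := fun h => hx (proj_mem_borelP.2 h)
  set c := g 1 0 with hcdef
  have hd : g 0 0 * g 1 1 - g 0 1 * c = 1 := by
    have := g.2; rwa [Matrix.det_fin_two] at this
  -- the antidiagonal element
  let w : SL(2, F) := ⟨!![0, -c⁻¹; c, 0], by simp [Matrix.det_fin_two, hc]⟩
  have hwc : (w : Matrix (Fin 2) (Fin 2) F) = !![0, -c⁻¹; c, 0] := rfl
  have hw : proj w ∈ M := by
    have he : w = upSL (-(g 0 0) / c) * g * upSL (-(g 1 1) / c) := by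
      apply Subtype.ext
      rw [Matrix.SpecialLinearGroup.coe_mul, Matrix.SpecialLinearGroup.coe_mul, hwc, coe_upSL,
        coe_upSL, Matrix.eta_fin_two (g : Matrix (Fin 2) (Fin 2) F)]
      ext i j
      fin_cases i <;> fin_cases j <;> simp [Matrix.mul_apply, Fin.sum_univ_two, ← hcdef]
      all_goals (try field_simp)
      all_goals first | linear_combination hd | linear_combination -hd | ring
    rw [he, map_mul, map_mul]
    exact mul_mem (mul_mem (hT _) hxM) (hT _)
  let low : F → SL(2, F) := fun s => ⟨!![1, 0; s, 1], by simp [Matrix.det_fin_two]⟩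
  have hlc : ∀ s : F, (low s : Matrix (Fin 2) (Fin 2) F) = !![1, 0; s, 1] := fun _ => rfl
  have hlow : ∀ s : F, proj (low s) ∈ M := fun s => by
    have he : low s = w * upSL (-s / c ^ 2) * w⁻¹ := by
      apply Subtype.ext
      rw [hlc, Matrix.SpecialLinearGroup.coe_mul, Matrix.SpecialLinearGroup.coe_mul,
        Matrix.SpecialLinearGroup.coe_inv, hwc, coe_upSL]
      ext i j
      fin_cases i <;> fin_cases j <;>
        simp [Matrix.adjugate_fin_two, Matrix.mul_apply, Fin.sum_univ_two]
      all_goals field_simp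
    rw [he, map_mul, map_mul, map_inv]
    exact mul_mem (mul_mem hw (hT _)) (inv_mem hw)
  have hgen : ∀ h : SL(2, F), h 1 0 ≠ 0 → proj h ∈ M := fun h hh => by
    have hdh : h 0 0 * h 1 1 - h 0 1 * h 1 0 = 1 := by
      have := h.2; rwa [Matrix.det_fin_two] at this
    have he : h = upSL ((h 0 0 - 1) / h 1 0) * low (h 1 0) * upSL ((h 1 1 - 1) / h 1 0) := by
      apply Subtype.ext
      rw [Matrix.SpecialLinearGroup.coe_mul, Matrix.SpecialLinearGroup.coe_mul, hlc, coe_upSL,
        coe_upSL]
      ext i j
      fin_cases i <;> fin_cases j <;> simp [Matrix.mul_apply, Fin.sum_univ_two]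
      all_goals field_simp
      all_goals first | linear_combination hdh | linear_combination -hdh | ring
    rw [he, map_mul, map_mul]
    exact mul_mem (mul_mem (hT _) (hlow _)) (hT _)
  rw [eq_top_iff]
  intro y _
  obtain ⟨h, rfl⟩ := proj_surjective y
  by_cases hh : h 1 0 = 0
  · have h00 : h 0 0 ≠ 0 := fun e => by
      have := h.2
      rw [Matrix.det_fin_two, hh, e] at this
      simp at this
    have h1 : (h * low 1) 1 0 ≠ 0 := by
      have h11 : h 1 1 ≠ 0 := fun e => by
        have := h.2
        rw [Matrix.det_fin_two, hh, e] at this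
        simp at this
      rw [Matrix.SpecialLinearGroup.coe_mul, hlc]
      simpa [Matrix.mul_apply, Fin.sum_univ_two, hh] using h11
    have := mul_mem (hgen _ h1) (inv_mem (hlow 1))
    rwa [map_mul, mul_inv_cancel_right] at this
  · exact hgen h hh

theorem cjSL_mul (A B : GL (Fin 2) F) (g : SL(2, F)) :
    cjSL (A * B) g = cjSL A (cjSL B g) := by
  apply Subtype.ext
  rw [cjSL_coe, cjSL_coe, cjSL_coe, _root_.mul_inv_rev, Units.val_mul, Units.val_mul]
  simp [mul_assoc]

/-- Lifts of equal elements with equal nonzero traces are equal. -/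
theorem proj_inj_of_tr {x y : SL(2, F)} (ht : tr x = tr y) (h0 : tr y ≠ 0)
    (h : proj x = proj y) : x = y := by
  rcases proj_eq_proj_iff.1 h with rfl | rfl
  · rfl
  · rw [tr_neg] at ht h0
    have h2 : (2 : F) = 0 :=
      (mul_eq_zero.1 (show 2 * tr x = 0 by linear_combination ht)).resolve_right
        (fun e => h0 (by rw [e, neg_zero]))
    apply Subtype.ext
    rw [Matrix.SpecialLinearGroup.coe_neg]
    ext i j
    simp only [Matrix.neg_apply]
    linear_combination (x i j) * h2

/-- A proper nontrivial subgroup cannot contain `2(q - 1)` conjugates of a semisimple element in a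
TI fashion. -/
theorem count_contra (p : ℕ) [Fact p.Prime] [CharP F p] (h4 : 4 ≤ Fintype.card F)
    (h5 : Fintype.card F ≠ 5) {S : Subgroup G2} (hne : S ≠ ⊥) (htop : S ≠ ⊤) {g : SL(2, F)}
    (ht : tr g ≠ 0) (hg : tr g ^ 2 ≠ 4) (X : Finset G2)
    (hX : ∀ x ∈ X, x ∈ S ∧ IsConj (proj g) x)
    (hTI : ∀ h : G2, ∀ x ∈ X, h * x * h⁻¹ ∈ S → h ∈ Subgroup.normalizer (S : Set G2))
    (hcard : 2 * (Fintype.card F - 1) ≤ X.card) : False := by
  have h1 := card_mul_centralizer_le S (proj g) X hX hTI
  have h2 := card_lt_count p h4 h5 (normalizer_ne_top h4 hne htop)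
  have h3 := Nat.mul_le_mul hcard (card_centralizer_ge p ht hg)
  omega

/-- A minimal intersection contains no semisimple element of trace outside `{0, -1}`. -/
theorem no_ss_mem (p : ℕ) [Fact p.Prime] [CharP F p] (h4 : 4 ≤ Fintype.card F)
    (h5 : Fintype.card F ≠ 5) {H R : Subgroup G2} (hB : IsBinaryCoset H) (hR : IsInter H R)
    (hmin : ∀ S, IsInter H S → R ⊓ S = ⊥ ∨ R ≤ S) (hRtop : R ≠ ⊤) {g : SL(2, F)}
    (hgR : proj g ∈ R) (ht0 : tr g ≠ 0) (hg : tr g ^ 2 ≠ 4) (ht1 : tr g ≠ -1) : False := by
  classical
  set t := tr g with ht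
  have hg1 : proj g ≠ 1 := fun e => not_center_of_tr hg (proj_eq_one_iff.1 e)
  have hRne : R ≠ ⊥ := fun e => hg1 (Subgroup.mem_bot.1 (e ▸ hgR))
  have hns := not_isScalar2_of_tr hg
  have ht2 : t ≠ 2 := fun e => hg (by rw [e]; norm_num)
  have hk : t ^ 2 + t ^ 2 + t ^ 2 - t * t * t ≠ 4 := fun e => by
    have : (t + 1) * ((t - 2) * (t - 2)) = 0 := by linear_combination -e
    simp [add_eq_zero_iff_eq_neg, sub_eq_zero, ht1, ht2] at this
  obtain ⟨b, hbt, hbg, hbc⟩ := exists_product hg t t hk
  set M : Option F → Matrix (Fin 2) (Fin 2) F := fun o =>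
    o.elim 1 (fun x => x • (1 : Matrix (Fin 2) (Fin 2) F) + (1 : F) • (g : Matrix (Fin 2) (Fin 2) F))
    with hMdef
  have hMg : ∀ o, M o * (g : Matrix (Fin 2) (Fin 2) F) = (g : Matrix (Fin 2) (Fin 2) F) * M o := by
    rintro (_ | x)
    · simp [hMdef]
    · exact H40.commute_poly _ x 1
  set s : Finset (Option F) := Finset.univ.filter (fun o => (M o).det ≠ 0) with hs
  have hscard : Fintype.card F - 1 ≤ s.card := by
    have hbad : (Finset.univ.filter (fun o => ¬ (M o).det ≠ 0)).card ≤ 2 := by
      set f : Polynomial F := Polynomial.X ^ 2 + Polynomial.C t * Polynomial.X + 1 with hf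
      have hf0 : f ≠ 0 := fun e => by
        have := congrArg (fun q : Polynomial F => q.coeff 2) e
        simp [hf, Polynomial.coeff_one] at this
      have hdeg : f.natDegree ≤ 2 := by rw [hf]; compute_degree
      refine le_trans (Finset.card_le_card_of_injOn (t := f.roots.toFinset)
        (fun o => o.getD 0) ?_ ?_) ((Multiset.toFinset_card_le _).trans
          ((Polynomial.card_roots' f).trans hdeg))
      · intro o ho
        simp only [Finset.coe_filter, Finset.mem_univ, true_and, not_not, Set.mem_ofPred_eq] at ho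
        rcases o with _ | x
        · simp [hMdef] at ho
        · simp only [Finset.mem_coe, Multiset.mem_toFinset, Option.getD_some]
          rw [Polynomial.mem_roots hf0]
          simp only [hMdef, Option.elim, H40.det_poly, g.2] at ho
          simp only [hf, Polynomial.IsRoot, Polynomial.eval_add, Polynomial.eval_mul,
            Polynomial.eval_C, Polynomial.eval_X, Polynomial.eval_pow, Polynomial.eval_one]
          rw [show (g : Matrix (Fin 2) (Fin 2) F).trace = t from rfl] at ho
          linear_combination ho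
      · intro o ho o' ho' e
        simp only [Finset.coe_filter, Finset.mem_univ, true_and, not_not, Set.mem_ofPred_eq] at ho ho'
        rcases o with _ | x
        · simp [hMdef] at ho
        rcases o' with _ | y
        · simp [hMdef] at ho'
        simp only [Option.getD_some] at e
        rw [e]
    have h := Finset.card_filter_add_card_filter_not (s := (Finset.univ : Finset (Option F)))
      (fun o => (M o).det ≠ 0)
    rw [Finset.card_univ, Fintype.card_option] at h
    rw [hs]
    omega
  let P : s → GL (Fin 2) F := fun o =>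
    Matrix.GeneralLinearGroup.mkOfDetNeZero (M o.1) (Finset.mem_filter.1 o.2).2
  have hPg : ∀ o, cjSL (P o) g = g := fun o => (cjSL_eq_iff _ _ _).2 (hMg o.1)
  let e : s × Bool → SL(2, F) := fun z => cjSL (P z.1) (if z.2 then b else b⁻¹)
  have htr : ∀ z, tr (e z) = t := fun z => by
    simp only [e]
    rw [tr_cjSL]
    split <;> simp [tr_inv', hbt]
  have hinj : Function.Injective e := by
    rintro ⟨o, ε⟩ ⟨o', ε'⟩ h
    have hQg : cjSL ((P o')⁻¹ * P o) g = g := by
      rw [cjSL_mul, hPg]
      conv_lhs => rw [← hPg o']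
      rw [← cjSL_mul, inv_mul_cancel]
      apply Subtype.ext
      simp [cjSL_coe]
    have h' : cjSL ((P o')⁻¹ * P o) (if ε then b else b⁻¹) = (if ε' then b else b⁻¹) := by
      rw [cjSL_mul]
      simp only [e] at h
      rw [h, ← cjSL_mul, inv_mul_cancel]
      apply Subtype.ext
      simp [cjSL_coe]
    have hmix : ∀ Q : GL (Fin 2) F, cjSL Q g = g → cjSL Q b ≠ b⁻¹ := fun Q hQ hQb => by
      have h1 := tr_cjSL Q (b * g)
      rw [map_mul, hQb, hQ, hbg] at h1
      have h2 := tr_inv_mul b g
      rw [hbg, hbt] at h2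
      have : t * (t - 2) = 0 := by linear_combination -h2 - h1
      simp [ht0, sub_eq_zero, ht2] at this
    have hεε : ε = ε' := by
      cases ε <;> cases ε' <;> simp only [Bool.false_eq_true, if_false, if_true] at h' ⊢
      · exfalso
        rw [map_inv, inv_eq_iff_eq_inv] at h'
        exact hmix _ hQg h'
      · exact absurd h' (hmix _ hQg)
    subst hεε
    have hQb : cjSL ((P o')⁻¹ * P o) b = b := by
      cases ε <;> simp only [Bool.false_eq_true, if_false, if_true] at h'
      · rwa [map_inv, _root_.inv_inj] at h'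
      · exact h'
    rw [cjSL_eq_iff] at hQb hQg
    obtain ⟨u, v, huv⟩ := H40.comm_eq_poly hns hQg
    by_cases hv : v = 0
    · rw [hv, zero_smul, add_zero, Units.val_mul] at huv
      have hM' : M o.1 = u • M o'.1 := by
        have := congrArg (fun X => (P o' : Matrix (Fin 2) (Fin 2) F) * X) huv
        rw [← mul_assoc, Units.mul_inv, one_mul, mul_smul_comm, mul_one] at this
        exact this
      refine Prod.ext (Subtype.ext ?_) rfl
      have hdo := (Finset.mem_filter.1 o.2).2
      generalize o.1 = a, o'.1 = a' at hM' hdo ⊢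
      rcases a with _ | x <;> rcases a' with _ | y <;> simp only [hMdef, Option.elim] at hM' hdo
      · rfl
      · exfalso
        rw [show (1 : Matrix (Fin 2) (Fin 2) F) = (1 : F) • 1 + (0 : F) • (g : Matrix (Fin 2) (Fin 2) F)
          by simp, smul_add, smul_smul, smul_smul] at hM'
        simp only [zero_smul, add_zero, one_smul, mul_one] at hM'
        have := (H40.poly_injective hns (show (1 : F) • 1 + (0 : F) • (g : Matrix (Fin 2) (Fin 2) F) =
          (u * y) • 1 + u • (g : Matrix (Fin 2) (Fin 2) F) by simpa [mul_comm] using hM'))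
        rw [← this.2, zero_mul] at this
        exact one_ne_zero this.1
      · exfalso
        have := (H40.poly_injective hns (show x • 1 + (1 : F) • (g : Matrix (Fin 2) (Fin 2) F) =
          u • 1 + (0 : F) • (g : Matrix (Fin 2) (Fin 2) F) by rw [hM']; simp))
        exact one_ne_zero this.2
      · have := (H40.poly_injective hns (show x • 1 + (1 : F) • (g : Matrix (Fin 2) (Fin 2) F) =
          (u * y) • 1 + u • (g : Matrix (Fin 2) (Fin 2) F) by
            rw [hM', smul_add, smul_smul, smul_smul, mul_one]))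
        rw [this.1, ← this.2, one_mul]
    · exfalso
      apply hbc
      apply Subtype.ext
      rw [Matrix.SpecialLinearGroup.coe_mul, Matrix.SpecialLinearGroup.coe_mul]
      rw [huv, add_mul, mul_add, smul_mul_assoc, smul_mul_assoc, mul_smul_comm, mul_smul_comm,
        one_mul, mul_one, add_right_inj] at hQb
      exact (smul_right_injective _ hv hQb).symm
  have hmem : ∀ z, proj (e z) ∈ R := fun z => by
    have hb' : ∀ o, proj (cjSL (P o) b) ∈ R := fun o => by
      refine hB.factor_mem' hR hmin hgR hg1 hgR hgR (c := proj ((cjSL (P o) b)⁻¹ * g))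
        (proj_isConj (by rw [tr_cjSL, hbt]) hg) (proj_isConj ?_ hg) (by rw [← map_mul]; group)
      conv_lhs => rw [← hPg o]
      rw [← map_inv, ← map_mul, tr_cjSL, hbg]
    obtain ⟨o, ε⟩ := z
    cases ε
    · simp only [e, Bool.false_eq_true, if_false, map_inv]
      exact inv_mem (hb' o)
    · exact hb' o
  let X : Finset G2 := Finset.univ.image (fun z => proj (e z))
  refine count_contra p h4 h5 hRne hRtop ht0 hg X ?_ ?_ ?_
  · intro x hx
    obtain ⟨z, -, rfl⟩ := Finset.mem_image.1 hx
    exact ⟨hmem z, proj_isConj (htr z) hg⟩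
  · intro h x hx hm
    obtain ⟨z, -, rfl⟩ := Finset.mem_image.1 hx
    refine ti_normalizer hR hmin (hmem z) (fun e' => hg1 ?_) hm
    obtain ⟨d, hd⟩ := isConj_iff.1 (proj_isConj (htr z) hg)
    rw [e'] at hd
    exact conj_eq_one_iff.1 hd
  · rw [Finset.card_image_of_injective _ (fun z z' h => hinj (proj_inj_of_tr
      ((htr z).trans (htr z').symm) (by rw [htr]; exact ht0) h)), Finset.card_univ,
      Fintype.card_prod, Fintype.card_coe, Fintype.card_bool]
    omega

end H57.PSL
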