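import Mathlib
import Cfsg.Agent.H57.PSLBinCore
import Cfsg.Agent.H42.PSL2Even

/-!
Elements of `PSL₂(q)`, `q` even.
-/

set_option autoImplicit false
set_option linter.unusedSectionVars false
set_option linter.style.haveILetI false

namespace H57.PSL

open Matrix H39
open scoped MatrixGroups

variable {F : Type*} [Field F] [Fintype F] [CharP F 2]

local notation "G2" => Matrix.ProjectiveSpecialLinearGroup (Fin 2) F

theorem neg_eq2 (g : SL(2, F)) : -g = g := by
  apply Subtype.ext
  rw [Matrix.SpecialLinearGroup.coe_neg]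
  ext i j
  simp [CharTwo.neg_eq]

theorem proj_inj2 {g h : SL(2, F)} (e : proj g = proj h) : g = h := by
  rcases proj_eq_proj_iff.1 e with rfl | rfl
  · rfl
  · exact (neg_eq2 g).symm

theorem proj_eq_one2 {g : SL(2, F)} (e : proj g = 1) : g = 1 :=
  proj_inj2 (e.trans (map_one proj).symm)

theorem tr_of_sq_eq_one {g : SL(2, F)} (h : proj g * proj g = 1) : tr g = 0 := by
  rw [← map_mul] at h
  have e := congrArg tr (proj_eq_one2 h)
  rw [tr_sq', tr_one] at e
  have : tr g ^ 2 = 0 := by linear_combination e + 2 * (CharTwo.two_eq_zero (R := F))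
  exact eq_zero_of_pow_eq_zero this

theorem sq_eq_one_of_tr {g : SL(2, F)} (h : tr g = 0) : proj g * proj g = 1 := by
  rw [← map_mul]
  have : g * g = 1 := by
    apply Subtype.ext
    rw [Matrix.SpecialLinearGroup.coe_mul, cayley, h, zero_smul, zero_sub,
      Matrix.SpecialLinearGroup.coe_one]
    ext i j
    simp [CharTwo.neg_eq]
  rw [this, map_one]

theorem tr_of_cube_eq_one {g : SL(2, F)} (h1 : proj g ≠ 1)
    (h : proj g * proj g * proj g = 1) : tr g = 1 := by
  rw [← map_mul, ← map_mul] at h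
  have e : g⁻¹ = g * g := inv_eq_of_mul_eq_one_left (proj_eq_one2 h)
  have e2 := congrArg tr e
  rw [tr_inv', tr_sq'] at e2
  have : tr g * (tr g - 1) = 0 := by
    linear_combination -e2 + (CharTwo.two_eq_zero (R := F))
  rcases mul_eq_zero.1 this with h0 | h0
  · exfalso
    have := sq_eq_one_of_tr h0
    rw [← map_mul] at this
    rw [proj_eq_one2 this, one_mul] at h
    exact h1 h
  · exact sub_eq_zero.1 h0

theorem cube_eq_one_of_tr {g : SL(2, F)} (h : tr g = 1) : proj g * proj g * proj g = 1 := by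
  rw [← map_mul, ← map_mul]
  have : g * g * g = 1 := by
    apply Subtype.ext
    rw [Matrix.SpecialLinearGroup.coe_mul, Matrix.SpecialLinearGroup.coe_mul, cayley, h, one_smul,
      sub_mul, one_mul, cayley, h, one_smul, Matrix.SpecialLinearGroup.coe_one]
    ext i j
    simp only [Matrix.sub_apply]
    linear_combination (-((1 : Matrix (Fin 2) (Fin 2) F) i j)) * (CharTwo.two_eq_zero (R := F))
  rw [this, map_one]

/-- Neither of order dividing two nor of order dividing three. -/
def Bad {G : Type*} [Group G] (x : G) : Prop := x * x ≠ 1 ∧ x * x * x ≠ 1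

theorem Bad.ne_one {G : Type*} [Group G] {x : G} (h : Bad x) : x ≠ 1 := fun e =>
  h.1 (by rw [e, mul_one])

theorem Bad.conj {G : Type*} [Group G] {x : G} (h : Bad x) (g : G) : Bad (g * x * g⁻¹) := by
  refine ⟨fun e => h.1 ?_, fun e => h.2 ?_⟩
  · have e' : g * (x * x) * g⁻¹ = 1 := by rw [← e]; group
    exact conj_eq_one_iff.1 e'
  · have e' : g * (x * x * x) * g⁻¹ = 1 := by rw [← e]; group
    exact conj_eq_one_iff.1 e'

theorem Bad.tr_ne {g : SL(2, F)} (h : Bad (proj g)) :
    tr g ≠ 0 ∧ tr g ≠ 1 ∧ tr g ^ 2 ≠ 4 := by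
  have h0 : tr g ≠ 0 := fun e => h.1 (sq_eq_one_of_tr e)
  refine ⟨h0, fun e => h.2 (cube_eq_one_of_tr e), fun e => h0 ?_⟩
  exact eq_zero_of_pow_eq_zero (n := 2) (by linear_combination e + 2 * (CharTwo.two_eq_zero (R := F)))

theorem ss_of_tr {g : SL(2, F)} (h : tr g ≠ 0) : tr g ^ 2 ≠ 4 := fun e => h
  (eq_zero_of_pow_eq_zero (n := 2) (by linear_combination e + 2 * (CharTwo.two_eq_zero (R := F))))

theorem invol_conj2 {u y : G2} (hu : u * u = 1) (hu1 : u ≠ 1) (hy : y * y = 1) (hy1 : y ≠ 1) :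
    IsConj u y := by
  haveI : Fact (Nat.Prime 2) := ⟨Nat.prime_two⟩
  exact invol_isConj 2 (orderOf_eq_prime (by rwa [pow_two]) hu1)
    (orderOf_eq_prime (by rwa [pow_two]) hy1)

theorem centralizer_invol_sq {u c : G2} (hu : u * u = 1) (hu1 : u ≠ 1) (hc : c * u = u * c) :
    c * c = 1 := by
  haveI : Fact (Nat.Prime 2) := ⟨Nat.prime_two⟩
  have hu' : u ^ 2 = 1 := by rwa [pow_two]
  rw [← pow_two]
  exact tor_pow_char 2 hu1 hu' (mem_tor_of_commute 2 hu' hc)

theorem card_centralizer_invol2 {u : G2} (hu : u * u = 1) (hu1 : u ≠ 1) :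
    Nat.card (Subgroup.centralizer ({u} : Set G2)) = Fintype.card F := by
  haveI : Fact (Nat.Prime 2) := ⟨Nat.prime_two⟩
  exact H41.centralizer_pow_char 2 hu1 (by rwa [pow_two])

theorem commute_trans2 {a b c : G2} (hb : b ≠ 1) (hab : a * b = b * a) (hbc : b * c = c * b) :
    a * c = c * a :=
  H42.even_commute_trans hb hab hbc

/-- The odd order of a semisimple centraliser. -/
theorem eq_one_of_centralizer {a k : G2} (ha : a * a ≠ 1) (hk : k * a = a * k) (hk2 : k * k = 1) :
    k = 1 := by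
  haveI : Fact (Nat.Prime 2) := ⟨Nat.prime_two⟩
  by_contra hk1
  exact ha (centralizer_invol_sq hk2 hk1 hk.symm)

theorem exists_inverting2 {a : G2} (ha : a * a ≠ 1) :
    ∃ g : G2, g * g = 1 ∧ g ≠ 1 ∧ g * a * g⁻¹ = a⁻¹ := by
  obtain ⟨g, hg, hga⟩ := H42.even_exists_inverting (y := a) (by rwa [pow_two])
  exact ⟨g, by rw [← pow_two]; exact ((orderOf_eq_iff two_pos).1 hg).1,
    fun e => by rw [e, orderOf_one] at hg; norm_num at hg, hga⟩

/-- A subgroup containing the centraliser of an involution `u` and moving it off is everything. -/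
theorem top_of_centralizer_le {u x : G2} {M : Subgroup G2} (hu : u * u = 1) (hu1 : u ≠ 1)
    (hC : ∀ c, c * u = u * c → c ∈ M) (hx : x ∈ M)
    (hxu : x * u * x⁻¹ * u ≠ u * (x * u * x⁻¹)) : M = ⊤ := by
  haveI : Fact (Nat.Prime 2) := ⟨Nat.prime_two⟩
  obtain ⟨P, hP⟩ := exists_cjP_eq_transl 2 hu1 (by rwa [pow_two])
  set φ := cjP P
  have h : M.map φ.toMonoidHom = ⊤ := by
    refine eq_top_of_transl_mem (fun s => ⟨φ.symm (transl s), hC _ ?_, φ.apply_symm_apply _⟩)
      ⟨x, hx, rfl⟩ fun hxB => hxu ?_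
    · apply φ.injective
      rw [map_mul, map_mul, φ.apply_symm_apply, hP, transl_mul, transl_mul, add_comm]
    · apply φ.injective
      rw [map_mul, map_mul φ u, map_mul φ _ x⁻¹, map_mul, map_inv, hP]
      change φ x ∈ borelP at hxB
      change φ x * transl 1 * (φ x)⁻¹ * transl 1 = _
      rw [conj_transl hxB, transl_mul, transl_mul, add_comm]
  rw [eq_top_iff]
  intro y _
  obtain ⟨z, hz, hzy⟩ := (h ▸ Subgroup.mem_top (φ y) : φ y ∈ M.map φ.toMonoidHom)
  rwa [← φ.injective (show φ z = φ y from hzy)]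

/-- If a non-involution keeps `u` in its centraliser, then an involution inverting it does not. -/
theorem inverting_moves {u x g : G2} (hu : u * u = 1) (hu1 : u ≠ 1) (hg : g * g = 1)
    (hxu : x * u * x⁻¹ * u = u * (x * u * x⁻¹)) (hx : x * x ≠ 1) (hgx : g * x * g⁻¹ = x⁻¹) :
    g * u * g⁻¹ * u ≠ u * (g * u * g⁻¹) := by
  haveI : Fact (Nat.Prime 2) := ⟨Nat.prime_two⟩
  intro hgu
  obtain ⟨P, hP⟩ := exists_cjP_eq_transl 2 hu1 (by rwa [pow_two])
  set φ := cjP P
  have hbor : ∀ y : G2, y * u * y⁻¹ * u = u * (y * u * y⁻¹) → φ y ∈ (borelP : Subgroup G2) := by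
    intro y hy
    have hc : Commute (φ (y * u * y⁻¹)) (transl 1) := by
      rw [← hP]; exact Commute.map hy φ.toMonoidHom
    obtain ⟨s, hs⟩ := (tor_transl one_ne_zero).1
      (mem_tor_of_commute 2 (by rw [← hP, ← map_pow, pow_two, hu, map_one]) hc)
    refine mem_borelP_of_conj one_ne_zero (s := s) ?_
    rw [← hs, map_mul, map_mul, map_inv, hP]
  have hX := hbor x hxu
  have hG := hbor g hgu
  have hG1 : mult (φ g) = 1 := by
    have := congrArg mult (show φ g * φ g = 1 by rw [← map_mul, hg, map_one])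
    rw [mult_mul hG, ← transl_zero, mult_transl] at this
    have : (mult (φ g) - 1) ^ 2 = 0 := by
      linear_combination this + (1 - mult (φ g)) * (CharTwo.two_eq_zero (R := F))
    exact sub_eq_zero.1 (eq_zero_of_pow_eq_zero this)
  have hinv : mult ((φ x)⁻¹) = mult (φ x) := by
    rw [← map_inv, ← hgx, map_mul, map_mul, inv_eq_of_mul_eq_one_left hg, mult_mul hG,
      mult_mul hX, hG1, one_mul, mul_one]
  have hX1 : mult (φ x) = 1 := by
    have := congrArg mult (mul_inv_cancel (φ x))
    rw [mult_mul (inv_mem hX), hinv, ← transl_zero, mult_transl] at this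
    have : (mult (φ x) - 1) ^ 2 = 0 := by
      linear_combination this + (1 - mult (φ x)) * (CharTwo.two_eq_zero (R := F))
    exact sub_eq_zero.1 (eq_zero_of_pow_eq_zero this)
  apply hx
  apply φ.injective
  rw [map_mul, map_one, eq_transl_of_mult_one hX hX1, transl_mul, CharTwo.add_self_eq_zero,
    transl_zero]

/-- An involution keeping `u` in its centraliser commutes with it. -/
theorem invol_fix {u y : G2} (hu : u * u = 1) (hy : y * y = 1)
    (h : y * u * y⁻¹ * u = u * (y * u * y⁻¹)) : y * u = u * y := by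
  have hu' : u⁻¹ = u := inv_eq_of_mul_eq_one_left hu
  have hy' : y⁻¹ = y := inv_eq_of_mul_eq_one_left hy
  rw [hy'] at h
  obtain ⟨g, hg⟩ := proj_surjective (y * u)
  have h4 : proj (g * g) * proj (g * g) = 1 := by
    rw [map_mul, hg]
    calc y * u * (y * u) * (y * u * (y * u)) = y * u * y * u * (y * u * y * u) := by group
      _ = u * (y * u * y) * (y * u * y * u) := by rw [h]
      _ = u * y * u * (y * y) * u * y * u := by group
      _ = 1 := by
        rw [hy, mul_one]
        calc u * y * u * u * y * u = u * y * (u * u) * y * u := by group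
          _ = u * (y * y) * u := by rw [hu, mul_one]; group
          _ = 1 := by rw [hy, mul_one, hu]
  have ht := tr_of_sq_eq_one h4
  rw [tr_sq'] at ht
  have h0 : tr g = 0 := eq_zero_of_pow_eq_zero (n := 2)
    (by linear_combination ht + (CharTwo.two_eq_zero (R := F)))
  have h2 := sq_eq_one_of_tr h0
  rw [hg] at h2
  rw [mul_eq_one_iff_eq_inv.1 h2, _root_.mul_inv_rev, hu', hy']

/-- Two elements of trace one with product of trace one are equal, without cube roots of unity. -/
theorem eq_of_tr_one (hω : ∀ w : F, w ^ 2 + w + 1 ≠ 0) {x y : SL(2, F)} (hx : tr x = 1)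
    (hy : tr y = 1) (hxy : tr (x * y) = 1) : x = y := by
  obtain ⟨P, hP⟩ := exists_cjSL_comp2 (not_isScalar2_of_tr
    (ss_of_tr (by rw [hx]; exact one_ne_zero)))
  rw [hx] at hP
  refine (cjSL P).injective ?_
  set Y := cjSL P y with hY
  have hyt : tr Y = 1 := by rw [hY, tr_cjSL, hy]
  have hMY : tr (cjSL P x * Y) = 1 := by rw [hY, ← map_mul, tr_cjSL, hxy]
  have hd := Y.2
  rw [Matrix.det_fin_two] at hd
  rw [tr_def] at hyt
  rw [tr_def, Matrix.SpecialLinearGroup.coe_mul, hP] at hMY
  simp [H40.comp2, Matrix.mul_apply, Fin.sum_univ_two] at hMY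
  have h2 := CharTwo.two_eq_zero (R := F)
  -- the shifted off-diagonal entries form a zero of the norm form
  have e11 : Y 1 1 = Y 0 0 + 1 := by linear_combination hyt - Y 0 0 * h2
  have e00 : Y 0 0 = Y 0 1 + Y 1 0 := by
    linear_combination hMY - e11 - Y 0 1 * h2
  set B := Y 0 1 + 1 with hB
  set C := Y 1 0 + 1 with hC
  have key : B ^ 2 + B * C + C ^ 2 = 0 := by
    rw [e11, e00] at hd
    rw [hB, hC]
    linear_combination hd + (Y 0 1 + Y 1 0 + 2) * h2
  have hC0 : C = 0 := by
    by_contra hC0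
    refine hω (B / C) ?_
    field_simp
    linear_combination key
  have hB0 : B = 0 := by
    rw [hC0] at key
    exact eq_zero_of_pow_eq_zero (n := 2) (by linear_combination key)
  apply Subtype.ext
  rw [hP, Matrix.eta_fin_two (Y : Matrix (Fin 2) (Fin 2) F)]
  have f01 : Y 0 1 = -1 := eq_neg_of_add_eq_zero_left hB0
  have f10 : Y 1 0 = 1 := by linear_combination hC0 - h2
  have f00 : Y 0 0 = 0 := by rw [e00, f01, f10]; ring
  have f11 : Y 1 1 = 1 := by rw [e11, f00, zero_add]
  rw [f00, f01, f10, f11]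
  rfl

/-- With a cube root of unity, an element of trace one is a product of two non-commuting
elements of trace one. -/
theorem exists_product_one {w : F} (hw : w ^ 2 + w + 1 = 0) {g : SL(2, F)} (hg : tr g = 1) :
    ∃ b : SL(2, F), tr b = 1 ∧ tr (b⁻¹ * g) = 1 ∧ ¬ Commute b g := by
  obtain ⟨P, hP⟩ := exists_cjSL_comp2 (not_isScalar2_of_tr
    (ss_of_tr (by rw [hg]; exact one_ne_zero)))
  rw [hg] at hP
  have h2 := CharTwo.two_eq_zero (R := F)
  set B : SL(2, F) := ⟨!![1 + w, w; 0, -w], by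
    rw [Matrix.det_fin_two_of]; linear_combination -hw⟩ with hBdef
  have hBe : (B : Matrix (Fin 2) (Fin 2) F) = !![1 + w, w; 0, -w] := rfl
  refine ⟨(cjSL P).symm B, ?_, ?_, fun hc => ?_⟩
  · rw [← tr_cjSL P, MulEquiv.apply_symm_apply, tr_def, hBe]
    simp
  · rw [← tr_cjSL P, map_mul, map_inv, MulEquiv.apply_symm_apply, tr_def,
      Matrix.SpecialLinearGroup.coe_mul, Matrix.SpecialLinearGroup.coe_inv, hP, hBe]
    simp [Matrix.adjugate_fin_two, H40.comp2, Matrix.mul_apply, Fin.sum_univ_two]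
  · have hc' : Commute B (cjSL P g) := by simpa using hc.map (cjSL P).toMonoidHom
    have e := congrArg (fun X : SL(2, F) => X 0 1) hc'.eq
    simp only [Matrix.SpecialLinearGroup.coe_mul, hP, hBe] at e
    simp [H40.comp2, Matrix.mul_apply, Fin.sum_univ_two] at e
    exact one_ne_zero (α := F) (by linear_combination hw + w * e)

end H57.PSL
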