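import Mathlib
import Cfsg.Agent.H57.PSLEvenTools

/-!
Binary coset actions of `PSL₂(q)`, `q` even.
-/

set_option autoImplicit false
set_option linter.unusedSectionVars false
set_option linter.style.haveILetI false

namespace H57.PSL

open Matrix H39
open scoped MatrixGroups

variable {F : Type*} [Field F] [Fintype F] [CharP F 2]

local notation "G2" => Matrix.ProjectiveSpecialLinearGroup (Fin 2) F

/-- A minimal intersection containing an involution contains its centraliser. -/
theorem centralizer_le_of_invol {H R : Subgroup G2} (hB : IsBinaryCoset H) (hR : IsInter H R)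
    (hmin : ∀ S, IsInter H S → R ⊓ S = ⊥ ∨ R ≤ S) {u : G2} (hu : u ∈ R) (hu2 : u * u = 1)
    (hu1 : u ≠ 1) (c : G2) (hc : c * u = u * c) : c ∈ R := by
  by_cases hc1 : c = 1
  · rw [hc1]; exact one_mem R
  by_cases hcu : c = u
  · rw [hcu]; exact hu
  have hcc := centralizer_invol_sq hu2 hu1 hc
  refine hB.factor_mem' hR hmin hu hu1 hu hu (c := c * u) (invol_conj2 hu2 hu1 hcc hc1)
    (invol_conj2 hu2 hu1 ?_ fun e => hcu ?_) (by rw [← mul_assoc, hcc, one_mul])
  · rw [mul_assoc, ← mul_assoc u, ← hc, mul_assoc c u u, hu2, mul_one, hcc]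
  · rw [mul_eq_one_iff_eq_inv.1 e, inv_eq_of_mul_eq_one_left hu2]

/-- Every element of a proper binary point stabiliser has order at most three. -/
theorem not_bad (h4 : 4 ≤ Fintype.card F) {H : Subgroup G2} (hH : H ≠ ⊤) (hB : IsBinaryCoset H)
    {x : G2} (hx : x ∈ H) : ¬ Bad x := by
  classical
  intro hbad
  haveI : Fact (Nat.Prime 2) := ⟨Nat.prime_two⟩
  have h5 : Fintype.card F ≠ 5 := fun e => by
    have := H42.even_card_of_charTwo (F := F)
    rw [e] at this
    exact absurd this (by decide)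
  obtain ⟨S, hSH, hS, ⟨a', ha', habad⟩, hSmin⟩ :=
    exists_minimal_inter_with (P := Bad) (IsInter.self H) ⟨x, hx, hbad⟩
  have hStop : S ≠ ⊤ := fun e => hH (eq_top_iff.2 (e ▸ hSH))
  have hSne : S ≠ ⊥ := fun e => habad.ne_one (Subgroup.mem_bot.1 (e ▸ ha'))
  have hnorm : ∀ g y : G2, y ∈ S → Bad y → g * y * g⁻¹ ∈ S →
      g ∈ Subgroup.normalizer (S : Set G2) := fun g y hy hyb hgy =>
    mem_normalizer_of_map_eq (eq_of_le_conj
      (hSmin _ (hS.conj g) ⟨g * y * g⁻¹, hgy, ⟨y, hy, rfl⟩, hyb.conj g⟩))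
  obtain ⟨R, hRS, hR, hRne, hmin⟩ := exists_minimal_inter hS hSne
  have hRtop : R ≠ ⊤ := fun e => hStop (eq_top_iff.2 (e ▸ hRS))
  obtain ⟨g, rfl⟩ := proj_surjective a'
  obtain ⟨ht0, ht1, hg⟩ := habad.tr_ne
  have hgood : ∀ y ∈ R, ¬ Bad y := fun y hy hyb => by
    have hle : S ≤ R := hSmin R hR ⟨y, hRS hy, hy, hyb⟩
    refine no_ss_mem 2 h4 h5 hB hR hmin hRtop (hle ha') ht0 hg ?_
    rwa [CharTwo.neg_eq]
  by_cases h3 : ∃ v ∈ R, v * v ≠ 1
  · obtain ⟨v', hv, hv2⟩ := h3
    obtain ⟨gv, rfl⟩ := proj_surjective v'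
    have hv1 : proj gv ≠ 1 := fun e => hv2 (by rw [e, mul_one])
    have hv3 : proj gv * proj gv * proj gv = 1 := by
      by_contra h
      exact hgood _ hv ⟨hv2, h⟩
    have hvt := tr_of_cube_eq_one hv1 hv3
    have hvs : tr gv ^ 2 ≠ 4 := ss_of_tr (by rw [hvt]; exact one_ne_zero)
    obtain ⟨b, hbt, hbg, hbc⟩ := exists_product hg (1 : F) 1 (fun e => by
      have : tr g * (tr g - 1) = 0 := by
        linear_combination e + (CharTwo.two_eq_zero (R := F))
      simp [ht0, sub_eq_zero, ht1] at this)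
    obtain ⟨p, hp⟩ := mem_conj_of_isConj hv (proj_isConj (g := gv) (h := b) (hbt.trans hvt.symm) hvs)
    obtain ⟨r, hr⟩ := mem_conj_of_isConj hv
      (proj_isConj (g := gv) (h := b⁻¹ * g) (hbg.trans hvt.symm) hvs)
    -- the factor lies in `S`
    have hbS : proj b ∈ S := by
      rcases hmin _ (hS.conj p⁻¹) with h | h
      · exfalso
        have hbot : S ⊓ R.map (MulAut.conj p).toMonoidHom = ⊥ := by
          rw [eq_bot_iff]
          rintro z ⟨hz, ⟨y, hy, hyz⟩⟩
          have hyz' : p * y * p⁻¹ = z := hyz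
          have : y ∈ R ⊓ S.map (MulAut.conj p⁻¹).toMonoidHom :=
            ⟨hy, ⟨z, hz, by show p⁻¹ * z * p⁻¹⁻¹ = y; rw [← hyz']; group⟩⟩
          rw [h, Subgroup.mem_bot] at this
          rw [Subgroup.mem_bot, ← hyz', this]
          group
        have hgr := hB.triangle_bot hS (hR.conj p) (hR.conj r) hbot ha' hp hr
          (by rw [← map_mul, mul_inv_cancel_left])
        obtain ⟨y, hy, hyg⟩ := hgr
        have hyg' : r * y * r⁻¹ = proj g := hyg
        exact hgood y hy (by
          have := habad.conj r⁻¹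
          rwa [← hyg', show r⁻¹ * (r * y * r⁻¹) * r⁻¹⁻¹ = y by group] at this)
      · obtain ⟨y, hy, hyb⟩ := hp
        obtain ⟨z, hz, hzy⟩ := h hy
        have hzy' : p⁻¹ * z * p⁻¹⁻¹ = y := hzy
        have hyb' : p * y * p⁻¹ = proj b := hyb
        rw [← hyb', ← hzy', show p * (p⁻¹ * z * p⁻¹⁻¹) * p⁻¹ = z by group]
        exact hz
    set a := proj g with ha
    set y := proj b * a * (proj b)⁻¹ with hy
    have hyS : y ∈ S := mul_mem (mul_mem hbS ha') (inv_mem hbS)
    have hybad : Bad y := habad.conj _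
    have hba : ¬ (proj b * a = a * proj b) := fun e => hbc (commute_of_proj_commute ht0 e)
    have hb2 : proj b * proj b ≠ 1 := fun e => by
      have h := tr_of_sq_eq_one e
      rw [hbt] at h
      exact one_ne_zero h
    have hya : ¬ (y * a = a * y) := fun e => by
      have hp2 : (proj g) ^ 2 ≠ 1 := by rw [pow_two]; exact habad.1
      have hyT : y ∈ tor (proj g) := by
        rw [← centralizer_proj ht0, Subgroup.mem_centralizer_singleton_iff]; exact e
      have hbN := H42.mem_normalizer_tor habad.ne_one hyT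
      by_cases hbT : proj b ∈ tor (proj g)
      · rw [← centralizer_proj ht0, Subgroup.mem_centralizer_singleton_iff] at hbT
        exact hba hbT
      · exact hb2 (by rw [← pow_two]; exact (normalizer_outside 2 hp2 hbN hbT).1)
    let C := Subgroup.centralizer ({a} : Set G2)
    haveI : Fintype C := Fintype.ofFinite C
    let e : C × Bool → G2 := fun z => (z.1 : G2) * (if z.2 then y else y⁻¹) * (z.1 : G2)⁻¹
    have hCN : ∀ k : C, (k : G2) ∈ Subgroup.normalizer (S : Set G2) := fun k =>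
      hnorm _ a ha' habad (by
        have := Subgroup.mem_centralizer_singleton_iff.1 k.2
        rwa [this, mul_inv_cancel_right])
    have heS : ∀ z, e z ∈ S := fun z => by
      refine (Subgroup.mem_normalizer_iff.1 (hCN z.1) _).1 ?_
      split
      · exact hyS
      · exact inv_mem hyS
    have hinj : Function.Injective e := by
      rintro ⟨k, ε⟩ ⟨k', δ⟩ h
      set j : G2 := (k' : G2)⁻¹ * k with hj
      have hjC : j * a = a * j := Subgroup.mem_centralizer_singleton_iff.1
        (C.mul_mem (C.inv_mem k'.2) k.2)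
      have hjy : j * (if ε then y else y⁻¹) * j⁻¹ = (if δ then y else y⁻¹) := by
        simp only [e] at h
        calc j * (if ε then y else y⁻¹) * j⁻¹
            = (k' : G2)⁻¹ * ((k : G2) * (if ε then y else y⁻¹) * (k : G2)⁻¹) * k' := by
              rw [hj]; group
          _ = _ := by rw [h]; group
      have hcase : j * y * j⁻¹ = y ∧ ε = δ ∨ j * y * j⁻¹ = y⁻¹ := by
        cases ε <;> cases δ <;> simp only [Bool.false_eq_true, if_false, if_true] at hjy
        · left
          refine ⟨?_, rfl⟩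
          have := congrArg (fun z => z⁻¹) hjy
          simpa [mul_assoc] using this
        · right
          have := congrArg (fun z => z⁻¹) hjy
          simpa [mul_assoc] using this
        · exact Or.inr hjy
        · exact Or.inl ⟨hjy, rfl⟩
      have hj1 : ∀ i : G2, i * a = a * i → i * y = y * i → i = 1 := fun i hia hiy => by
        by_contra hi
        exact hya (commute_trans2 hi hiy.symm hia)
      rcases hcase with ⟨hjy', hεδ⟩ | hjy'
      · subst hεδ
        have := hj1 j hjC (mul_inv_eq_iff_eq_mul.1 hjy')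
        rw [hj, inv_mul_eq_one] at this
        exact Prod.ext (Subtype.ext this.symm) rfl
      · exfalso
        have hjj : j * j = 1 := hj1 _ (by rw [mul_assoc, hjC, ← mul_assoc, hjC, mul_assoc]) (by
          have h1 : j * y = y⁻¹ * j := mul_inv_eq_iff_eq_mul.1 hjy'
          have h2 : j * y⁻¹ = y * j := by
            have h3 : j * y⁻¹ * j⁻¹ = y := by
              calc j * y⁻¹ * j⁻¹ = (j * y * j⁻¹)⁻¹ := by group
                _ = y := by rw [hjy', inv_inv]
            exact mul_inv_eq_iff_eq_mul.1 h3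
          rw [mul_assoc, h1, ← mul_assoc, h2, mul_assoc])
        have := eq_one_of_centralizer habad.1 hjC hjj
        rw [this, one_mul, inv_one, mul_one] at hjy'
        exact hybad.1 (by nth_rw 2 [hjy']; exact mul_inv_cancel y)
    let X : Finset G2 := Finset.univ.image e
    refine count_contra 2 h4 h5 hSne hStop ht0 hg X ?_ ?_ ?_
    · intro z hz
      obtain ⟨w, -, rfl⟩ := Finset.mem_image.1 hz
      refine ⟨heS w, ?_⟩
      obtain ⟨k, ε⟩ := w
      have hyconj : IsConj a y := isConj_iff.2 ⟨proj b, rfl⟩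
      have hyinv : IsConj a y⁻¹ := by
        obtain ⟨i, -, -, hi⟩ := exists_inverting2 habad.1
        refine (isConj_iff.2 ⟨i, hi⟩ : IsConj a a⁻¹).trans (isConj_iff.2 ⟨proj b, ?_⟩)
        rw [hy]; group
      cases ε
      · exact hyinv.trans (isConj_iff.2 ⟨k, rfl⟩)
      · exact hyconj.trans (isConj_iff.2 ⟨k, rfl⟩)
    · intro h z hz hm
      obtain ⟨w, -, rfl⟩ := Finset.mem_image.1 hz
      refine hnorm h _ (heS w) ?_ hm
      refine Bad.conj ?_ _
      split
      · exact hybad
      · refine ⟨fun e => hybad.1 ?_, fun e => hybad.2 ?_⟩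
        · have := congrArg (fun z => z⁻¹) e
          simpa using this
        · have := congrArg (fun z => z⁻¹) e
          simpa [mul_assoc] using this
    · rw [Finset.card_image_of_injective _ hinj, Finset.card_univ, Fintype.card_prod,
        Fintype.card_bool, ← Nat.card_eq_fintype_card (α := C)]
      have := card_centralizer_ge 2 (g := g) ht0 hg
      rw [H42.even_gcd H42.even_card_of_charTwo, Nat.div_one] at this
      change Fintype.card F - 1 ≤ Nat.card C at this
      omega
  · push Not at h3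
    obtain ⟨⟨u, hu⟩, hu1⟩ := Subgroup.ne_bot_iff_exists_ne_one.1 hRne
    replace hu1 : u ≠ 1 := fun e => hu1 (Subtype.ext e)
    have hC : ∀ c, c * u = u * c → c ∈ S := fun c hc =>
      hRS (centralizer_le_of_invol hB hR hmin hu (h3 u hu) hu1 c hc)
    by_cases hau : proj g * u * (proj g)⁻¹ * u = u * (proj g * u * (proj g)⁻¹)
    · obtain ⟨i, hi, -, hig⟩ := exists_inverting2 habad.1
      have hiN := hnorm i _ ha' habad (by rw [hig]; exact inv_mem ha')
      exact normalizer_ne_top h4 hSne hStop (top_of_centralizer_le (h3 u hu) hu1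
        (fun c hc => Subgroup.le_normalizer (hC c hc)) hiN
        (inverting_moves (h3 u hu) hu1 hi hau habad.1 hig))
    · exact hStop (top_of_centralizer_le (h3 u hu) hu1 hC ha' hau)

/-- The proper binary point stabilisers. -/
theorem classify_even (h4 : 4 ≤ Fintype.card F) {H : Subgroup G2} (hH : H ≠ ⊤)
    (hne : H ≠ ⊥) (hB : IsBinaryCoset H) :
    (∃ u : G2, u * u = 1 ∧ u ≠ 1 ∧ H = Subgroup.centralizer ({u} : Set G2)) ∨
      ((∀ w : F, w ^ 2 + w + 1 ≠ 0) ∧ Nat.card H = 3) := by
  classical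
  haveI : Fact (Nat.Prime 2) := ⟨Nat.prime_two⟩
  have hcube : ∀ x ∈ H, x * x ≠ 1 → x * x * x = 1 := fun x hx h2 => by
    by_contra h3
    exact not_bad h4 hH hB hx ⟨h2, h3⟩
  have hcyc : ∀ x ∈ H, x * x ≠ 1 → x ≠ 1 := fun x _ h e => h (by rw [e, mul_one])
  obtain ⟨R, hRH, hR, hRne, hmin⟩ := exists_minimal_inter (IsInter.self H) hne
  by_cases hsq : ∀ x ∈ H, x * x = 1
  · left
    obtain ⟨⟨u, hu⟩, hu1⟩ := Subgroup.ne_bot_iff_exists_ne_one.1 hRne
    replace hu1 : u ≠ 1 := fun e => hu1 (Subtype.ext e)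
    have hu2 := hsq u (hRH hu)
    refine ⟨u, hu2, hu1, le_antisymm (fun x hx => ?_) fun c hc => hRH (centralizer_le_of_invol hB hR
      hmin hu hu2 hu1 c (Subgroup.mem_centralizer_singleton_iff.1 hc))⟩
    rw [Subgroup.mem_centralizer_singleton_iff]
    have h := hsq _ (mul_mem hx (hRH hu))
    calc x * u = (x * u)⁻¹ := (inv_eq_of_mul_eq_one_left h).symm
      _ = u⁻¹ * x⁻¹ := mul_inv_rev x u
      _ = u * x := by rw [inv_eq_of_mul_eq_one_left hu2, inv_eq_of_mul_eq_one_left (hsq x hx)]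
  push Not at hsq
  obtain ⟨v, hv, hv2⟩ := hsq
  right
  -- involutions of `H` moving `u` are impossible once the centraliser of `u` is inside
  have hkeep : ∀ {M : Subgroup G2} {u x : G2}, M ≤ H → u * u = 1 → u ≠ 1 →
      (∀ c, c * u = u * c → c ∈ M) → x ∈ H →
      x * u * x⁻¹ * u = u * (x * u * x⁻¹) := fun {M u x} hM hu hu1 hC hx => by
    by_contra h
    exact hH (top_of_centralizer_le hu hu1 (fun c hc => hM (hC c hc)) hx h)
  -- a minimal intersection with an element of order three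
  obtain ⟨R₁, hR₁H, hR₁, -, hmin₁, v₁, hv₁, hv₁2⟩ : ∃ R₁, R₁ ≤ H ∧ IsInter H R₁ ∧ R₁ ≠ ⊥ ∧
      (∀ S, IsInter H S → R₁ ⊓ S = ⊥ ∨ R₁ ≤ S) ∧ ∃ v₁ ∈ R₁, v₁ * v₁ ≠ 1 := by
    by_contra hno
    push Not at hno
    have hall := hno R hRH hR hRne hmin
    obtain ⟨⟨u, hu⟩, hu1⟩ := Subgroup.ne_bot_iff_exists_ne_one.1 hRne
    replace hu1 : u ≠ 1 := fun e => hu1 (Subtype.ext e)
    have hu2 := hall u hu
    have hC : ∀ c, c * u = u * c → c ∈ R := centralizer_le_of_invol hB hR hmin hu hu2 hu1
    obtain ⟨g, hg, -, hgv⟩ := exists_inverting2 hv2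
    have hgm := inverting_moves hu2 hu1 hg (hkeep hRH hu2 hu1 hC hv) hv2 hgv
    have hg' : g⁻¹ = g := inv_eq_of_mul_eq_one_left hg
    have hS : IsInter H (H ⊓ H.map (MulAut.conj g).toMonoidHom) :=
      (IsInter.self H).inf ((IsInter.self H).conj g)
    have hvS : v ∈ H ⊓ H.map (MulAut.conj g).toMonoidHom := by
      refine ⟨hv, v⁻¹, inv_mem hv, ?_⟩
      show g * v⁻¹ * g⁻¹ = v
      have := congrArg (fun z => z⁻¹) hgv
      simpa [mul_assoc] using this
    obtain ⟨R', hR'S, hR', hR'ne, hmin'⟩ := exists_minimal_inter hS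
      (fun e => hcyc v hv hv2 (Subgroup.mem_bot.1 (e ▸ hvS)))
    have hR'H : R' ≤ H := hR'S.trans inf_le_left
    obtain ⟨⟨u', hu'⟩, hu'1⟩ := Subgroup.ne_bot_iff_exists_ne_one.1 hR'ne
    replace hu'1 : u' ≠ 1 := fun e => hu'1 (Subtype.ext e)
    have hu'2 := hno R' hR'H hR' hR'ne hmin' u' hu'
    have huu' : u' * u = u * u' := invol_fix hu2 hu'2 (hkeep hRH hu2 hu1 hC (hR'H hu'))
    have huS : u ∈ H ⊓ H.map (MulAut.conj g).toMonoidHom :=
      hR'S (centralizer_le_of_invol hB hR' hmin' hu' hu'2 hu'1 u huu'.symm)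
    obtain ⟨-, w, hw, hwu⟩ := huS
    have hwu' : g * w * g⁻¹ = u := hwu
    have hgu : g * u * g⁻¹ ∈ H := by
      rw [← hwu', hg', show g * (g * w * g) * g = (g * g) * w * (g * g) by group, hg, one_mul, mul_one]
      exact hw
    have hk := hkeep hRH hu2 hu1 hC hgu
    apply hgm
    set y := g * u * g⁻¹ with hy
    have hy2 : y * y = 1 := by
      rw [hy, show g * u * g⁻¹ * (g * u * g⁻¹) = g * (u * u) * g⁻¹ by group, hu2]; group
    exact invol_fix hu2 hy2 hk
  have hv₁3 := hcube v₁ (hR₁H hv₁) hv₁2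
  have hv₁1 := hcyc v₁ (hR₁H hv₁) hv₁2
  obtain ⟨gv, rfl⟩ := proj_surjective v₁
  have hvt := tr_of_cube_eq_one hv₁1 hv₁3
  have hω : ∀ w : F, w ^ 2 + w + 1 ≠ 0 := by
    intro w hw
    obtain ⟨b, hbt, hbg, hbc⟩ := exists_product_one hw hvt
    have hvs : tr gv ^ 2 ≠ 4 := ss_of_tr (by rw [hvt]; exact one_ne_zero)
    have hbR := hB.factor_mem' hR₁ hmin₁ hv₁ hv₁1 hv₁ hv₁ (c := proj (b⁻¹ * gv))
      (proj_isConj (g := gv) (h := b) (hbt.trans hvt.symm) hvs)
      (proj_isConj (g := gv) (hbg.trans hvt.symm) hvs) (by rw [← map_mul, mul_inv_cancel_left])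
    have hu2 : proj (b * gv) * proj (b * gv) = 1 := sq_eq_one_of_tr (by
      have h := tr_inv_mul b gv
      rw [hbt, hbg, hvt] at h
      linear_combination h)
    have hu1 : proj (b * gv) ≠ 1 := fun e => hbc (by
      rw [mul_eq_one_iff_eq_inv.1 (proj_eq_one2 e)]
      exact (Commute.refl gv).inv_left)
    have huR : proj (b * gv) ∈ R₁ := by rw [map_mul]; exact mul_mem hbR hv₁
    have hC := centralizer_le_of_invol hB hR₁ hmin₁ huR hu2 hu1
    obtain ⟨i, hi, -, hiv⟩ := exists_inverting2 hv₁2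
    have hiN := ti_normalizer hR₁ hmin₁ hv₁ hv₁1 (by rw [hiv]; exact inv_mem hv₁)
    have hRtop : R₁ ≠ ⊤ := fun e => hH (eq_top_iff.2 (e ▸ hR₁H))
    refine normalizer_ne_top h4 (fun e => hv₁1 (Subgroup.mem_bot.1 (e ▸ hv₁))) hRtop
      (top_of_centralizer_le hu2 hu1 (fun c hc => Subgroup.le_normalizer (hC c hc)) hiN
        (inverting_moves hu2 hu1 hi (hkeep hR₁H hu2 hu1 hC (hR₁H hv₁)) hv₁2 hiv))
  refine ⟨hω, ?_⟩
  -- involutions of `H` invert its elements of order three
  have hinv : ∀ u ∈ H, u * u = 1 → u ≠ 1 → ∀ y ∈ H, y * y ≠ 1 → u * y * u⁻¹ = y⁻¹ := by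
    intro u hu hu2 hu1 y hy hy2
    have hu' : u⁻¹ = u := inv_eq_of_mul_eq_one_left hu2
    by_cases hsq' : u * y * (u * y) = 1
    · rw [hu']; exact mul_eq_one_iff_eq_inv.1 (by rw [← hsq']; group)
    exfalso
    obtain ⟨U, rfl⟩ := proj_surjective u
    obtain ⟨V, rfl⟩ := proj_surjective y
    have hVt := tr_of_cube_eq_one (hcyc _ hy hy2) (hcube _ hy hy2)
    have hUt := tr_of_sq_eq_one hu2
    have hUVt : tr (U * V) = 1 := by
      have hm : proj U * proj V ∈ H := mul_mem hu hy
      have hc := hcube _ hm hsq'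
      rw [← map_mul] at hc hsq' hm
      exact tr_of_cube_eq_one (fun e => hsq' (by rw [← map_mul, map_mul, e, one_mul])) hc
    have hUVV : tr (U * V * V) = 1 := by
      rw [mul_assoc]
      have hVV : V * V = V⁻¹ := by
        have h := hcube _ hy hy2
        rw [← map_mul, ← map_mul] at h
        exact (inv_eq_of_mul_eq_one_left (proj_eq_one2 h)).symm
      rw [hVV, tr_mul_comm', tr_inv_mul, hVt, hUt, tr_mul_comm', hUVt, one_mul, zero_sub,
        CharTwo.neg_eq]
    have hU1 : U = 1 := mul_eq_right.1 (eq_of_tr_one hω hUVt hVt hUVV)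
    exact hu1 (by rw [hU1, map_one])
  -- elements of order three are powers of one of them
  have huniq : ∀ y ∈ H, y * y ≠ 1 → ∀ z ∈ H, z * z ≠ 1 → y * z = z * y → y = z ∨ y = z⁻¹ := by
    intro y hy hy2 z hz hz2 hcom
    by_contra h
    push Not at h
    have hm : y * z ∈ H := mul_mem hy hz
    have h1 : y * z ≠ 1 := fun e => h.2 (mul_eq_one_iff_eq_inv.1 e)
    have hc : y * z * (y * z) ≠ 1 := fun e => hy2 (by
      have := eq_one_of_centralizer hy2 (k := y * z)
        (by rw [mul_assoc, ← hcom]) e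
      exact absurd this h1)
    obtain ⟨Y, rfl⟩ := proj_surjective y
    obtain ⟨Z, rfl⟩ := proj_surjective z
    have hYt := tr_of_cube_eq_one (hcyc _ hy hy2) (hcube _ hy hy2)
    have hZt := tr_of_cube_eq_one (hcyc _ hz hz2) (hcube _ hz hz2)
    have := hcube _ hm hc
    rw [← map_mul] at this h1
    exact h.1 (by rw [eq_of_tr_one hω hYt hZt (tr_of_cube_eq_one h1 this)])
  have hnoinv : ∀ u ∈ H, u * u = 1 → u = 1 := by
    intro u hu hu2
    by_contra hu1
    set v' := proj gv with hv'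
    have hv'H : v' ∈ H := hR₁H hv₁
    have hall : ∀ y ∈ H, y * y ≠ 1 → y = v' ∨ y = v'⁻¹ := by
      intro y hy hy2
      refine huniq y hy hy2 v' hv'H hv₁2 ?_
      have hm : u * v' ∈ H := mul_mem hu hv'H
      have hv'' := hinv u hu hu2 hu1 v' hv'H hv₁2
      have hm2 : u * v' * (u * v') = 1 := by
        calc u * v' * (u * v') = u * v' * u⁻¹ * (u * u) * v' := by group
          _ = 1 := by rw [hv'', hu2, mul_one, inv_mul_cancel]
      have hm1 : u * v' ≠ 1 := fun e => hv₁2 (by
        rw [eq_inv_of_mul_eq_one_right e, inv_eq_of_mul_eq_one_left hu2, hu2])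
      have e1 := hinv _ hm hm2 hm1 y hy hy2
      rw [← hinv u hu hu2 hu1 y hy hy2] at e1
      have e2 : v' * y * v'⁻¹ = y := by
        calc v' * y * v'⁻¹ = u⁻¹ * (u * v' * y * (u * v')⁻¹) * u := by group
          _ = y := by rw [e1]; group
      exact (mul_inv_eq_iff_eq_mul.1 e2).symm
    have hcard := card_centralizer_invol2 hu2 hu1
    obtain ⟨k, hk, hk1, hku⟩ : ∃ k ∈ Subgroup.centralizer ({u} : Set G2), k ≠ 1 ∧ k ≠ u := by
      by_contra h
      push Not at h
      have hle : (Subgroup.centralizer ({u} : Set G2) : Set G2) ⊆ {1, u} := fun k hk => by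
        by_cases hk1 : k = 1
        · exact Or.inl hk1
        · exact Or.inr (h k hk hk1)
      have := Set.ncard_le_ncard hle
      rw [← Nat.card_coe_set_eq] at this
      change Nat.card (Subgroup.centralizer ({u} : Set G2)) ≤ _ at this
      rw [hcard] at this
      have h2 := Set.ncard_insert_le (1 : G2) {u}
      rw [Set.ncard_singleton] at h2
      omega
    rw [Subgroup.mem_centralizer_singleton_iff] at hk
    have hS : IsInter H (H ⊓ H.map (MulAut.conj k).toMonoidHom) :=
      (IsInter.self H).inf ((IsInter.self H).conj k)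
    have huS : u ∈ H ⊓ H.map (MulAut.conj k).toMonoidHom :=
      ⟨hu, u, hu, by show k * u * k⁻¹ = u; rw [hk, mul_inv_cancel_right]⟩
    obtain ⟨R', hR'S, hR', hR'ne, hmin'⟩ := exists_minimal_inter hS
      (fun e => hu1 (Subgroup.mem_bot.1 (e ▸ huS)))
    have hsq' : ∀ y ∈ R', y * y = 1 := by
      intro y hy
      by_contra hy2
      obtain ⟨hyH, z, hz, hzy⟩ := hR'S hy
      have hzy' : k * z * k⁻¹ = y := hzy
      have hz2 : z * z ≠ 1 := fun e => hy2 (by
        rw [← hzy', show k * z * k⁻¹ * (k * z * k⁻¹) = k * (z * z) * k⁻¹ by group, e]; group)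
      have hkv : k * v' * k⁻¹ = v' ∨ k * v' * k⁻¹ = v'⁻¹ := by
        rcases hall z hz hz2 with rfl | rfl <;> rcases hall y hyH hy2 with h | h <;>
          rw [h] at hzy'
        · exact Or.inl hzy'
        · exact Or.inr hzy'
        · right
          have := congrArg (fun z => z⁻¹) hzy'
          simpa [mul_assoc] using this
        · left
          have := congrArg (fun z => z⁻¹) hzy'
          simpa [mul_assoc] using this
      have hv'' := hinv u hu hu2 hu1 v' hv'H hv₁2
      have huv : ¬ (u * v' = v' * u) := fun e => by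
        rw [e, mul_inv_cancel_right] at hv''
        exact hv₁2 (by nth_rw 2 [hv'']; exact mul_inv_cancel v')
      rcases hkv with e | e
      · exact huv (commute_trans2 hk1 hk.symm (mul_inv_eq_iff_eq_mul.1 e))
      · have hku1 : u * k ≠ 1 := fun e' => hku (by
          rw [eq_inv_of_mul_eq_one_right e', inv_eq_of_mul_eq_one_left hu2])
        refine huv (commute_trans2 hku1 (by rw [mul_assoc, hk]) ?_)
        have h3 : u * v'⁻¹ * u⁻¹ = v' := by
          have := congrArg (fun z => z⁻¹) hv''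
          simpa [mul_assoc] using this
        calc u * k * v' = u * (k * v' * k⁻¹) * k := by group
          _ = u * v'⁻¹ * u⁻¹ * (u * k) := by rw [e]; group
          _ = v' * (u * k) := by rw [h3]
    obtain ⟨⟨w, hw⟩, hw1⟩ := Subgroup.ne_bot_iff_exists_ne_one.1 hR'ne
    replace hw1 : w ≠ 1 := fun e => hw1 (Subtype.ext e)
    have hw2 := hsq' w hw
    have hCw := centralizer_le_of_invol hB hR' hmin' hw hw2 hw1
    have hR'H : R' ≤ H := hR'S.trans inf_le_left
    obtain ⟨y, hy, hy1, hyw⟩ : ∃ y, y * w = w * y ∧ y ≠ 1 ∧ y ≠ w := by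
      by_contra h
      push Not at h
      have hle : (Subgroup.centralizer ({w} : Set G2) : Set G2) ⊆ {1, w} := fun c hc => by
        by_cases hc1 : c = 1
        · exact Or.inl hc1
        · exact Or.inr (h c (Subgroup.mem_centralizer_singleton_iff.1 hc) hc1)
      have := Set.ncard_le_ncard hle
      rw [← Nat.card_coe_set_eq] at this
      change Nat.card (Subgroup.centralizer ({w} : Set G2)) ≤ _ at this
      rw [card_centralizer_invol2 hw2 hw1] at this
      have h2 := Set.ncard_insert_le (1 : G2) {w}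
      rw [Set.ncard_singleton] at h2
      omega
    have hyH := hR'H (hCw y hy)
    have hy2 := centralizer_invol_sq hw2 hw1 hy
    have a1 := hinv w (hR'H hw) hw2 hw1 v' hv'H hv₁2
    have a2 := hinv y hyH hy2 hy1 v' hv'H hv₁2
    have hwy1 : w⁻¹ * y ≠ 1 := fun e => hyw (inv_mul_eq_one.1 e).symm
    have hc1 : w⁻¹ * y * v' = v' * (w⁻¹ * y) := by
      apply mul_inv_eq_iff_eq_mul.1
      calc w⁻¹ * y * v' * (w⁻¹ * y)⁻¹ = w⁻¹ * (y * v' * y⁻¹) * w := by group
        _ = w⁻¹ * (w * v' * w⁻¹) * w := by rw [a2, a1]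
        _ = v' := by group
    have hc2 : w * (w⁻¹ * y) = w⁻¹ * y * w := by
      rw [mul_inv_cancel_left, mul_assoc, hy, inv_mul_cancel_left]
    have hwv : w * v' = v' * w := commute_trans2 hwy1 hc2 hc1
    rw [hwv, mul_inv_cancel_right] at a1
    exact hv₁2 (by nth_rw 2 [a1]; exact mul_inv_cancel (proj gv))
  -- now `H` is cyclic of order three
  have hz : H = Subgroup.zpowers (proj gv) := by
    refine le_antisymm (fun y hy => ?_) ((Subgroup.zpowers_le).2 (hR₁H hv₁))
    by_cases hy1 : y = 1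
    · rw [hy1]; exact one_mem _
    have hy2 : y * y ≠ 1 := fun e => hy1 (hnoinv y hy e)
    by_cases h : y = (proj gv)⁻¹
    · rw [h]; exact inv_mem (Subgroup.mem_zpowers _)
    have hm : y * proj gv ∈ H := mul_mem hy (hR₁H hv₁)
    have h1 : y * proj gv ≠ 1 := fun e => h (mul_eq_one_iff_eq_inv.1 e)
    have hc := hcube _ hm fun e => h1 (hnoinv _ hm e)
    obtain ⟨Y, rfl⟩ := proj_surjective y
    rw [← map_mul] at hc h1
    rw [eq_of_tr_one hω (tr_of_cube_eq_one hy1 (hcube _ hy hy2)) hvt (tr_of_cube_eq_one h1 hc)]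
    exact Subgroup.mem_zpowers _
  rw [hz, Nat.card_zpowers]
  exact orderOf_eq_prime (p := 3) (by rw [pow_succ, pow_two]; exact hv₁3) hv₁1

end H57.PSL
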