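import Mathlib
import Cfsg.Agent.H57.PSLBinCore
import Cfsg.Agent.H39.InvolTor
import Cfsg.Agent.H39.Dickson

/-!
Binary coset actions of `PSL₂(q)`, `q` odd: only the regular one.
-/

set_option autoImplicit false
set_option linter.unusedSectionVars false

namespace H57.PSL

open Matrix H39
open scoped MatrixGroups

variable {F : Type*} [Field F] [Fintype F]

local notation "G2" => Matrix.ProjectiveSpecialLinearGroup (Fin 2) F

theorem no_unip_mem (p : ℕ) [Fact p.Prime] [CharP F p] (h4 : 4 ≤ Fintype.card F)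
    (hodd : Odd (Fintype.card F)) {H R : Subgroup G2} (hB : IsBinaryCoset H) (hR : IsInter H R)
    (hmin : ∀ S, IsInter H S → R ⊓ S = ⊥ ∨ R ≤ S) (hRtop : R ≠ ⊤) {x : G2}
    (hx : x ∈ R) (hx1 : x ≠ 1) (hxp : x ^ p = 1) : False := by
  have h2 : (2 : F) ≠ 0 := Ring.two_ne_zero fun h => by
    have := FiniteField.even_card_of_char_two h
    exact (Nat.not_even_iff_odd.2 hodd) (Nat.even_iff.2 this)
  obtain ⟨P, hP⟩ := exists_cjP_eq_transl p hx1 hxp
  set φ := cjP P with hφ
  set l : SL(2, F) := ⟨!![1, 0; 4, 1], by simp [Matrix.det_fin_two]⟩ with hl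
  have hlc : (l : Matrix (Fin 2) (Fin 2) F) = !![1, 0; 4, 1] := rfl
  set b0 : G2 := proj l with hb0
  set c0 : G2 := proj (l⁻¹ * upSL 1) with hc0
  have hprod : transl (1 : F) = b0 * c0 := by
    rw [hb0, hc0, ← map_mul, mul_inv_cancel_left]; rfl
  have hu : φ x⁻¹ = proj (upSL (-1 : F)) := by
    rw [map_inv, hP, transl, ← map_inv, eq_comm]
    congr 1
    apply eq_inv_of_mul_eq_one_left
    rw [upSL_mul, neg_add_cancel, upSL_zero]
  let D : SL(2, F) := ⟨!![0, -(2 : F)⁻¹; 2, 0], by simp [Matrix.det_fin_two, h2]⟩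
  let D' : SL(2, F) := ⟨!![1, 0; -2, 1], by simp [Matrix.det_fin_two]⟩
  have hb : IsConj (φ x⁻¹) b0 := by
    rw [hu]
    refine proj.map_isConj (isConj_iff.2 ⟨D, mul_inv_eq_iff_eq_mul.2 (Subtype.ext ?_)⟩)
    rw [Matrix.SpecialLinearGroup.coe_mul, Matrix.SpecialLinearGroup.coe_mul, hlc, coe_upSL]
    show !![0, -(2 : F)⁻¹; 2, 0] * _ = _ * !![0, -(2 : F)⁻¹; 2, 0]
    ext i j
    fin_cases i <;> fin_cases j <;> simp [Matrix.mul_apply, Fin.sum_univ_two]
    all_goals field_simp
    all_goals ring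
  have hc : IsConj (φ x⁻¹) c0 := by
    rw [hu, hc0, ← proj_neg (l⁻¹ * upSL 1)]
    refine proj.map_isConj (isConj_iff.2 ⟨D', mul_inv_eq_iff_eq_mul.2 (Subtype.ext ?_)⟩)
    rw [Matrix.SpecialLinearGroup.coe_mul, Matrix.SpecialLinearGroup.coe_mul,
      Matrix.SpecialLinearGroup.coe_neg, Matrix.SpecialLinearGroup.coe_mul,
      Matrix.SpecialLinearGroup.coe_inv, hlc, coe_upSL, coe_upSL]
    show !![1, 0; -2, 1] * _ = _ * !![(1 : F), 0; -2, 1]
    ext i j
    fin_cases i <;> fin_cases j <;>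
      simp [Matrix.adjugate_fin_two, Matrix.mul_apply, Fin.sum_univ_two] <;> ring
  have hb' : IsConj x⁻¹ (φ.symm b0) := by
    simpa using φ.symm.toMonoidHom.map_isConj hb
  have hc' : IsConj x⁻¹ (φ.symm c0) := by
    simpa using φ.symm.toMonoidHom.map_isConj hc
  have hbc : x = φ.symm b0 * φ.symm c0 := by
    rw [← map_mul, ← hprod, ← hP, MulEquiv.symm_apply_apply]
  have hbR := hB.factor_mem' hR hmin hx hx1 (inv_mem hx) (inv_mem hx) hb' hc' hbc
  set N := Subgroup.normalizer (R : Set G2) with hN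
  have hN' : N.map φ.toMonoidHom = ⊤ := by
    refine eq_top_of_transl_mem (fun s => ?_) ⟨φ.symm b0, Subgroup.le_normalizer hbR,
      φ.apply_symm_apply b0⟩ ?_
    · refine ⟨φ.symm (transl s), ti_normalizer hR hmin hx hx1 ?_, φ.apply_symm_apply _⟩
      have : φ.symm (transl s) * x * (φ.symm (transl s))⁻¹ = x := by
        apply φ.injective
        rw [map_mul, map_mul, map_inv, φ.apply_symm_apply, hP, transl_mul, add_comm,
          ← transl_mul, mul_inv_cancel_right]
      rwa [this]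
    · rw [hb0, proj_mem_borelP, hlc]
      simp only [Matrix.of_apply, Matrix.cons_val', Matrix.cons_val_zero, Matrix.cons_val_one,
        Matrix.empty_val', Matrix.cons_val_fin_one]
      rw [show (4 : F) = 2 * 2 by norm_num]
      exact mul_ne_zero h2 h2
  refine normalizer_ne_top h4 (fun e => hx1 (Subgroup.mem_bot.1 (e ▸ hx))) hRtop ?_
  rw [← hN, eq_top_iff]
  intro y _
  obtain ⟨z, hz, hzy⟩ := (hN' ▸ Subgroup.mem_top (φ y) : φ y ∈ N.map φ.toMonoidHom)
  rwa [← φ.injective (show φ z = φ y from hzy)]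

theorem eq_bot_of_binary_odd (p : ℕ) [Fact p.Prime] [CharP F p] (h7 : 7 ≤ Fintype.card F)
    (hodd : Odd (Fintype.card F)) {H : Subgroup G2} (hH : H ≠ ⊤) (hB : IsBinaryCoset H) :
    H = ⊥ := by
  by_contra hne
  obtain ⟨R, hle, hR, hRne, hmin⟩ := exists_minimal_inter (IsInter.self H) hne
  have hRtop : R ≠ ⊤ := fun e => hH (eq_top_iff.2 (e ▸ hle))
  have hsq : ∀ x ∈ R, x * x = 1 := by
    intro x hx
    by_contra hx2
    have hx1 : x ≠ 1 := fun e => hx2 (by rw [e, mul_one])
    by_cases hxp : x ^ p = 1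
    · exact no_unip_mem p (by omega) hodd hB hR hmin hRtop hx hx1 hxp
    obtain ⟨g, rfl⟩ := proj_surjective x
    have hg : tr g ^ 2 ≠ 4 := fun e => hxp ((pow_char_eq_one_iff p).2 e)
    have h0 : tr g ≠ 0 := fun e => hx2 (by
      rw [← map_mul, proj_eq_one_iff, mem_center_iff_pm]
      right
      apply Subtype.ext
      rw [Matrix.SpecialLinearGroup.coe_mul, cayley, e, zero_smul, zero_sub]
      simp)
    by_cases h1 : tr g = -1
    · rw [← proj_neg g] at hx
      refine no_ss_mem p (by omega) (by omega) hB hR hmin hRtop hx (by rw [tr_neg]; simpa) ?_ ?_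
      · rw [tr_neg, neg_sq]; exact hg
      · rw [tr_neg, h1, neg_neg]
        intro e
        have h2 : (2 : F) ≠ 0 := Ring.two_ne_zero fun h => by
          have := FiniteField.even_card_of_char_two h
          exact (Nat.not_even_iff_odd.2 hodd) (Nat.even_iff.2 this)
        exact h2 (by linear_combination e)
    · exact no_ss_mem p (by omega) (by omega) hB hR hmin hRtop hx h0 hg h1
  obtain ⟨⟨u, hu⟩, hu1⟩ := Subgroup.ne_bot_iff_exists_ne_one.1 hRne
  replace hu1 : u ≠ 1 := fun e => hu1 (Subtype.ext e)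
  have hu2 : orderOf u = 2 := orderOf_eq_prime (by rw [pow_two]; exact hsq u hu) hu1
  have hup := invol_ss p hodd hu2
  obtain ⟨g, hgN, hgT⟩ := exists_outside p hup
  have hcu := centralizer_invol p hodd hu2
  have hcomm : ∀ a ∈ R, ∀ b ∈ R, a * b = b * a := fun a ha b hb => by
    have h := hsq _ (mul_mem ha hb)
    calc a * b = (a * b)⁻¹ := (inv_eq_of_mul_eq_one_left h).symm
      _ = b⁻¹ * a⁻¹ := mul_inv_rev a b
      _ = b * a := by rw [inv_eq_of_mul_eq_one_left (hsq a ha), inv_eq_of_mul_eq_one_left (hsq b hb)]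
  have hmem : ∀ b ∈ Subgroup.normalizer (tor u : Set G2), b ∉ tor u → b ∈ R := by
    intro b hb hbT
    obtain ⟨h2, h1, -⟩ := normalizer_outside p hup hb hbT
    have hb2 : orderOf b = 2 := orderOf_eq_prime h2 h1
    have hbu : b ≠ u := fun e => hbT (e ▸ self_mem_tor u)
    have hcbu : b * u = u * b := by
      rw [← hcu, Subgroup.mem_centralizer_singleton_iff] at hb
      exact hb
    have hbb : b * b = 1 := by rw [← pow_two]; exact h2
    have hc2 : orderOf (b * u) = 2 := by
      refine orderOf_eq_prime ?_ fun e => hbu ?_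
      · rw [pow_two, mul_assoc, ← mul_assoc u, ← hcbu, mul_assoc b u u, hsq u hu, mul_one, hbb]
      · rw [mul_eq_one_iff_eq_inv.1 e, inv_eq_of_mul_eq_one_left (hsq u hu)]
    exact hB.factor_mem' hR hmin hu hu1 hu hu (invol_isConj p hu2 hb2)
      (invol_isConj p hu2 hc2) (by rw [← mul_assoc, hbb, one_mul])
  have := tor_isCyclic p hup
  obtain ⟨⟨d, hdT⟩, hd⟩ := IsCyclic.exists_generator (α := tor u)
  have hdN : g * d ∈ Subgroup.normalizer (tor u : Set G2) :=
    mul_mem hgN (Subgroup.le_normalizer hdT)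
  have hgd : g * d ∉ tor u := fun e => hgT (by
    have := mul_mem e (inv_mem hdT); rwa [mul_inv_cancel_right] at this)
  obtain ⟨hg2, -, hinv⟩ := normalizer_outside p hup hgN hgT
  have hcom := hcomm _ (hmem g hgN hgT) _ (hmem _ hdN hgd)
  have hdd : d * d = 1 := by
    have hi := hinv d hdT
    rw [mul_assoc, mul_left_cancel_iff] at hcom
    rw [hcom, mul_inv_cancel_right] at hi
    exact mul_eq_one_iff_eq_inv.2 hi
  have hord : orderOf (⟨d, hdT⟩ : tor u) ≤ 2 := Nat.le_of_dvd two_pos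
    (orderOf_dvd_of_pow_eq_one (Subtype.ext (by simpa [pow_two] using hdd)))
  rw [orderOf_eq_card_of_forall_mem_zpowers hd] at hord
  rcases (tor_trichotomy p hup).1 with e | e <;> rw [e, gcd_eq_two hodd] at hord <;> omega

end H57.PSL
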