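import Mathlib
import Cfsg.Agent.H57.PSLBinEven
import Cfsg.Agent.H57.PSLBinOdd

/-!
Binary coset actions of `PSL₂(q)`.
-/

set_option autoImplicit false
set_option linter.unusedSectionVars false
set_option linter.style.haveILetI false

namespace H57.PSL

open Matrix H39
open scoped MatrixGroups

variable {F : Type*} [Field F] [Fintype F]

local notation "G2" => Matrix.ProjectiveSpecialLinearGroup (Fin 2) F

theorem exists_sylow_of_card [CharP F 2] {H : Subgroup G2} (hH : Nat.card H = Fintype.card F) :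
    ∃ P : Sylow 2 G2, H = P := by
  haveI : Fact (Nat.Prime 2) := ⟨Nat.prime_two⟩
  have hev := H42.even_card_of_charTwo (F := F)
  obtain ⟨n, -, hn⟩ := FiniteField.card F 2
  have hfac : (Nat.card G2).factorization 2 = n := by
    have hq := Fintype.one_lt_card (α := F)
    rw [card_G2_eq, H42.even_gcd hev, Nat.div_one, Nat.factorization_mul (Nat.mul_ne_zero (by omega)
      (by omega)) (by omega), Nat.factorization_mul (by omega) (by omega)]
    rw [Nat.even_iff] at hev
    have h1 : ¬ 2 ∣ Fintype.card F - 1 := by omega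
    have h2 : ¬ 2 ∣ Fintype.card F + 1 := by omega
    simp only [Finsupp.coe_add, Pi.add_apply, Nat.factorization_eq_zero_of_not_dvd h1,
      Nat.factorization_eq_zero_of_not_dvd h2, add_zero]
    rw [hn, Nat.factorization_pow_self Nat.prime_two]
  exact ⟨Sylow.ofCard H (by rw [hH, hfac, hn]), rfl⟩

theorem centralizer_binary [CharP F 2] {u : G2} (hu : u * u = 1) (hu1 : u ≠ 1) :
    IsBinaryCoset (Subgroup.centralizer ({u} : Set G2)) := by
  refine isBinaryCoset_of_exponent_two (fun x hx => centralizer_invol_sq hu hu1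
    (Subgroup.mem_centralizer_singleton_iff.1 hx)) fun s t x y hx hy hx1 hy1 hxy z hz => ?_
  rw [Subgroup.mem_centralizer_singleton_iff] at hx hy hz ⊢
  have hzx : z * x = x * z := by
    have h := commute_trans2 hu1 hz hx.symm
    calc z * x = s * (s⁻¹ * z * s * (s⁻¹ * x * s)) * s⁻¹ := by group
      _ = s * (s⁻¹ * x * s * (s⁻¹ * z * s)) * s⁻¹ := by rw [h]
      _ = _ := by group
  have hzy := commute_trans2 hx1 hzx hxy
  refine commute_trans2 (b := t⁻¹ * y * t) (fun e => hy1 ?_) ?_ hy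
  · calc y = t * (t⁻¹ * y * t) * t⁻¹ := by group
      _ = 1 := by rw [e]; group
  · calc t⁻¹ * z * t * (t⁻¹ * y * t) = t⁻¹ * (z * y) * t := by group
      _ = t⁻¹ * (y * z) * t := by rw [hzy]
      _ = _ := by group

theorem three_binary [CharP F 2] (hω : ∀ w : F, w ^ 2 + w + 1 ≠ 0) {H : Subgroup G2}
    (hH : Nat.card H = 3) : IsBinaryCoset H := by
  haveI : Fact (Nat.Prime 3) := ⟨Nat.prime_three⟩
  have hord : ∀ x ∈ H, x * x * x = 1 := fun x hx => by
    have := congrArg Subtype.val (pow_card_eq_one' (x := (⟨x, hx⟩ : H)))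
    rw [hH, Subgroup.coe_pow, pow_succ, pow_two] at this
    exact this
  have hgen : ∀ x ∈ H, x ≠ 1 → Subgroup.zpowers x = H := fun x hx hx1 => by
    refine Subgroup.eq_of_le_of_card_ge ((Subgroup.zpowers_le).2 hx) ?_
    rw [Nat.card_zpowers, hH, orderOf_eq_prime (p := 3)
      (by rw [pow_succ, pow_two]; exact hord x hx) hx1]
  have hconj : ∀ (s x : G2), s⁻¹ * x * s ∈ H → x ≠ 1 → x * x * x = 1 := fun s x hx _ => by
    calc x * x * x = s * (s⁻¹ * x * s * (s⁻¹ * x * s) * (s⁻¹ * x * s)) * s⁻¹ := by group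
      _ = 1 := by rw [hord _ hx]; group
  refine isBinaryCoset_of_closed fun s t r x y hx hy hxy hx1 hy1 z hz => ?_
  have htx : t⁻¹ * x * t ∈ H := by
    by_cases h : x * y = 1
    · rw [eq_inv_of_mul_eq_one_left h, show t⁻¹ * y⁻¹ * t = (t⁻¹ * y * t)⁻¹ by group]
      exact inv_mem hy
    have hc := hconj r _ hxy h
    have hxc := hconj s x hx hx1
    have hyc := hconj t y hy hy1
    obtain ⟨X, rfl⟩ := proj_surjective x
    obtain ⟨Y, rfl⟩ := proj_surjective y
    rw [← map_mul] at hc h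
    rw [eq_of_tr_one hω (tr_of_cube_eq_one hx1 hxc) (tr_of_cube_eq_one hy1 hyc)
      (tr_of_cube_eq_one h hc)]
    exact hy
  have hne : s⁻¹ * x * s ≠ 1 := fun e => hx1 (by
    calc x = s * (s⁻¹ * x * s) * s⁻¹ := by group
      _ = 1 := by rw [e]; group)
  rw [← hgen _ hx hne] at hz
  obtain ⟨k, hk⟩ := Subgroup.mem_zpowers_iff.1 hz
  have h1 : (t⁻¹ * s) * (s⁻¹ * x * s) * (t⁻¹ * s)⁻¹ = t⁻¹ * x * t := by group
  have := zpow_mem htx k
  rw [← h1, conj_zpow, hk] at this
  convert this using 1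
  group

theorem omega_iff {a : ℕ} (ha : Fintype.card F = 2 ^ a) [CharP F 2] :
    (∀ w : F, w ^ 2 + w + 1 ≠ 0) ↔ Odd a := by
  classical
  have h2 := CharTwo.two_eq_zero (R := F)
  have hmod : ∀ k : ℕ, 2 ^ (2 * k) % 3 = 1 := fun k => by
    rw [pow_mul, Nat.pow_mod]; norm_num
  constructor
  · intro hω
    by_contra hodd
    obtain ⟨k, hk⟩ := (Nat.not_odd_iff_even.1 hodd).two_dvd
    have hdvd : 3 ∣ Fintype.card Fˣ := by
      rw [Fintype.card_units, ha, hk]
      have := hmod k
      omega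
    haveI : Fact (Nat.Prime 3) := ⟨Nat.prime_three⟩
    obtain ⟨w, hw⟩ := exists_prime_orderOf_dvd_card 3 hdvd
    have hw3 : (w : F) ^ 3 = 1 := by
      rw [← Units.val_pow_eq_pow_val, ← hw, pow_orderOf_eq_one, Units.val_one]
    have hw1 : (w : F) - 1 ≠ 0 := fun e => by
      rw [sub_eq_zero, Units.val_eq_one] at e
      rw [e, orderOf_one] at hw
      norm_num at hw
    exact hω w ((mul_eq_zero.1 (show ((w : F) - 1) * ((w : F) ^ 2 + w + 1) = 0 by
      linear_combination hw3)).resolve_left hw1)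
  · rintro ⟨k, hk⟩ w hw
    have hw0 : w ≠ 0 := fun e => by rw [e] at hw; simp at hw
    have hw3 : w ^ 3 = 1 := by linear_combination (w - 1) * hw
    have hw1 : w ≠ 1 := fun e => by
      rw [e] at hw
      exact one_ne_zero (α := F) (by linear_combination hw - h2)
    have hq : w ^ (Fintype.card F - 1) = 1 := FiniteField.pow_card_sub_one_eq_one w hw0
    have h3 : (Fintype.card F - 1) % 3 = 1 := by
      rw [ha, hk, pow_succ]
      have := hmod k
      omega
    rw [← Nat.div_add_mod (Fintype.card F - 1) 3, h3, pow_add, pow_mul, hw3, one_pow, one_mul,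
      pow_one] at hq
    exact hw1 hq

/-- Binary coset actions of `PSL₂(q)`, `4 ≤ q ≠ 5`. -/
theorem binary_iff (h4 : 4 ≤ Fintype.card F) (h5 : Fintype.card F ≠ 5) {H : Subgroup G2}
    (hH : H ≠ ⊤) :
    IsBinaryCoset H ↔
      (H = ⊥ ∨ ((∃ a : ℕ, Fintype.card F = 2 ^ a) ∧ ∃ P : Sylow 2 G2, H = P) ∨
        ((∃ a : ℕ, Odd a ∧ Fintype.card F = 2 ^ a) ∧ Nat.card H = 3)) := by
  obtain ⟨p, hchar⟩ := CharP.exists F
  obtain ⟨n, hp, hn⟩ := FiniteField.card F p
  haveI : Fact p.Prime := ⟨hp⟩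
  rcases hp.eq_two_or_odd' with rfl | hpodd
  · haveI : CharP F 2 := hchar
    constructor
    · intro hB
      by_cases hne : H = ⊥
      · exact Or.inl hne
      right
      rcases classify_even h4 hH hne hB with ⟨u, hu, hu1, rfl⟩ | ⟨hω, h3⟩
      · exact Or.inl ⟨⟨n, hn⟩, exists_sylow_of_card (card_centralizer_invol2 hu hu1)⟩
      · exact Or.inr ⟨⟨n, (omega_iff hn).1 hω, hn⟩, h3⟩
    · rintro (rfl | ⟨-, P, rfl⟩ | ⟨⟨a, hodd, ha⟩, h3⟩)
      · exact isBinaryCoset_bot
      · obtain ⟨u, hu⟩ : ∃ u : G2, orderOf u = 2 := by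
          refine exists_prime_orderOf_dvd_card' 2 ?_
          rw [card_G2_eq]
          exact Dvd.dvd.mul_right (Dvd.dvd.mul_right (hn ▸ dvd_pow_self 2 n.ne_zero) _) _
        have hu1 : u ≠ 1 := fun e => by rw [e, orderOf_one] at hu; norm_num at hu
        have hu2 : u * u = 1 := by rw [← pow_two]; exact ((orderOf_eq_iff two_pos).1 hu).1
        obtain ⟨Q, hQ⟩ := exists_sylow_of_card (card_centralizer_invol2 hu2 hu1)
        obtain ⟨g, hg⟩ := MulAction.exists_smul_eq G2 Q P
        have hP : (P : Subgroup G2) =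
            (Subgroup.centralizer ({u} : Set G2)).map (MulAut.conj g).toMonoidHom := by
          rw [← hg, Sylow.smul_def, hQ]; rfl
        rw [hP]
        exact (centralizer_binary hu2 hu1).map (MulAut.conj g)
      · exact three_binary ((omega_iff ha).2 hodd) h3
  · have hodd : Odd (Fintype.card F) := by rw [hn]; exact hpodd.pow
    have hno : ∀ a : ℕ, Fintype.card F ≠ 2 ^ a := fun a ha => by
      rw [ha] at hodd
      rcases Nat.eq_zero_or_pos a with rfl | ha0
      · rw [ha] at h4; norm_num at h4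
      · exact Nat.not_even_iff_odd.2 hodd (Nat.even_pow.2 ⟨even_two, ha0.ne'⟩)
    have h7 : 7 ≤ Fintype.card F := by
      obtain ⟨k, hk⟩ := hodd
      omega
    constructor
    · intro hB
      exact Or.inl (eq_bot_of_binary_odd p h7 hodd hH hB)
    · rintro (rfl | ⟨⟨a, ha⟩, -⟩ | ⟨⟨a, -, ha⟩, -⟩)
      · exact isBinaryCoset_bot
      · exact absurd ha (hno a)
      · exact absurd ha (hno a)

end H57.PSL
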