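import Cfsg.Agent.H57.SzPoints

/-!
A nilpotent cover of the Suzuki group is never minimal.
-/

set_option autoImplicit false

namespace H57

open Matrix
open scoped Pointwise

variable {F : Type*} [Field F] [Fintype F] {m : ℕ}

theorem sz_cover_smaller (hm : 1 ≤ m) (hF : Fintype.card F = 2 ^ (2 * m + 1))
    (𝓐 : Finset (Subgroup (Cfsg.Sz F m))) (hcov : ∀ g : Cfsg.Sz F m, ∃ A ∈ 𝓐, g ∈ A)
    (hnil : ∀ A ∈ 𝓐, Group.IsNilpotent ↥A) :
    ∃ 𝓑 : Finset (Subgroup (Cfsg.Sz F m)), (∀ A ∈ 𝓑, A ≠ ⊤) ∧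
      (∀ g : Cfsg.Sz F m, ∃ A ∈ 𝓑, g ∈ A) ∧ 𝓑.card < 𝓐.card := by
  classical
  haveI := Fintype.ofFinite (Cfsg.suzukiOvoid F m)
  haveI := Fintype.ofFinite {A : Subgroup (Cfsg.Sz F m) // IsTor A}
  let f : Cfsg.suzukiOvoid F m ⊕ {A : Subgroup (Cfsg.Sz F m) // IsTor A} → Subgroup (Cfsg.Sz F m) :=
    Sum.elim (fun p => MulAction.stabilizer (Cfsg.Sz F m) (p : Projectivization F (Fin 4 → F)))
      (fun A => A.1)
  refine ⟨Finset.univ.image f, ?_, ?_, ?_⟩
  · intro A hA0
    obtain ⟨i, -, rfl⟩ := Finset.mem_image.mp hA0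
    intro htop
    rcases i with ⟨p, hp⟩ | ⟨A, hA⟩
    · have hall : ∀ g : Cfsg.Sz F m, g • p = p := fun g => by
        have : g ∈ f (Sum.inl ⟨p, hp⟩) := htop ▸ Subgroup.mem_top g
        exact this
      rw [← orbit_infty hF] at hp
      obtain ⟨s, rfl⟩ := hp
      have h := hall (s * wEl hF * s⁻¹)
      simp only [mul_smul, inv_smul_smul, smul_left_cancel_iff, wEl_infty] at h
      exact ovPt_ne_infty 0 0 h
    · have h2 : 2 ∣ Nat.card (Cfsg.Sz F m) := by
        rw [card_sz hm hF]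
        exact dvd_mul_of_dvd_left (dvd_mul_of_dvd_left (dvd_pow (q_even m) two_ne_zero) _) _
      have htop' : A = ⊤ := htop
      have h3 := tor_dvd hm hF hA
      rw [htop', Subgroup.card_top] at h3
      have := h2.trans h3
      have : 2 ∣ (2 ^ (2 * m + 1)) ^ 2 := dvd_pow (q_even m) two_ne_zero
      omega
  · intro g
    by_cases hg : g = 1
    · exact ⟨f (Sum.inl ⟨_, infty_mem⟩), Finset.mem_image_of_mem f (Finset.mem_univ _),
        hg ▸ one_mem _⟩
    rcases sz_trichotomy hm hF hg with ⟨s, a, b, hs⟩ | ⟨s, k, hk⟩ | ⟨A, hA, hgA⟩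
    · refine ⟨f (Sum.inl ⟨_, sz_smul_mem s infty_mem⟩),
        Finset.mem_image_of_mem f (Finset.mem_univ _), ?_⟩
      show g • (s • Cfsg.suzukiPointInfinity F) = s • Cfsg.suzukiPointInfinity F
      rw [← inv_smul_eq_iff, ← mul_smul, ← mul_smul, hs, tEl_infty]
    · refine ⟨f (Sum.inl ⟨_, sz_smul_mem s infty_mem⟩),
        Finset.mem_image_of_mem f (Finset.mem_univ _), ?_⟩
      show g • (s • Cfsg.suzukiPointInfinity F) = s • Cfsg.suzukiPointInfinity F
      rw [← inv_smul_eq_iff, ← mul_smul, ← mul_smul, ← hk, dHom_apply, dEl_infty]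
    · exact ⟨A, Finset.mem_image.mpr ⟨Sum.inr ⟨A, hA⟩, Finset.mem_univ _, rfl⟩, hgA⟩
  -- the marked elements: no nilpotent subgroup contains two of them
  choose z hz2 hzfix hzc using fun p : Cfsg.suzukiOvoid F m => exists_point_involution hm hF p.2
  choose t ht htA using fun A : {A : Subgroup (Cfsg.Sz F m) // IsTor A} => A.2
  obtain ⟨d, hdD, hdp, hdd⟩ := exists_split_prime (m := m) hm hF
  let mark : Option (Cfsg.suzukiOvoid F m ⊕ {A : Subgroup (Cfsg.Sz F m) // IsTor A}) → Cfsg.Sz F m :=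
    fun o => o.elim d (Sum.elim z t)
  have hne : ∀ o, mark o ≠ 1 := by
    rintro (_ | p | A) h <;> simp only [mark, Option.elim, Sum.elim_inl, Sum.elim_inr] at h
    · exact hdp.ne_one (orderOf_eq_one_iff.mpr h)
    · have := hz2 p; rw [h, orderOf_one] at this; omega
    · exact torEl_ne_one (ht A) h
  have hkey : ∀ o o' c, c ≠ 1 → c ∈ Subgroup.centralizer {mark o} →
      c ∈ Subgroup.centralizer {mark o'} → o = o' := by
    have hpoint : ∀ p o' c, c ≠ 1 → c ∈ Subgroup.centralizer {z p} →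
        c ∈ Subgroup.centralizer {mark o'} → some (Sum.inl p) = o' := by
      intro p o' c hc1 hc hc'
      obtain ⟨h2, hfix, huniq⟩ := hzc p c hc hc1
      rcases o' with _ | p' | A
      · exfalso
        obtain ⟨e⟩ := centralizer_split hm hF hdp rfl hdd
        have h := Subgroup.orderOf_dvd_natCard _ hc'
        simp only [mark, Option.elim] at h
        rw [Nat.card_congr e.toEquiv, card_dSub] at h
        have := h2.trans h
        have := q_even m
        have : 1 ≤ 2 ^ (2 * m + 1) := Nat.one_le_two_pow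
        omega
      · obtain ⟨-, hfix', -⟩ := hzc p' c hc' hc1
        rw [Subtype.ext (huniq p'.1 p'.2 hfix')]
      · exfalso
        have hcA : c ∈ A.1 := (htA A).symm ▸ hc'
        have := h2.trans ((Subgroup.orderOf_dvd_natCard _ hcA).trans (tor_dvd hm hF A.2))
        have : 2 ∣ (2 ^ (2 * m + 1)) ^ 2 := dvd_pow (q_even m) two_ne_zero
        omega
    have htor : ∀ A o' c, c ≠ 1 → c ∈ Subgroup.centralizer {t A} →
        c ∈ Subgroup.centralizer {mark o'} → some (Sum.inr A) = o' := by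
      intro A o' c hc1 hc hc'
      have hcA : c ∈ A.1 := (htA A).symm ▸ hc
      have hC := tor_centralizer hm hF A.2 hcA hc1
      have hmem : mark o' ∈ A.1 := by
        rw [← hC, Subgroup.mem_centralizer_singleton_iff]
        exact (Subgroup.mem_centralizer_singleton_iff.mp hc').symm
      rcases o' with _ | p' | A'
      · exact (not_dvd_both hdp hdd
          ((Subgroup.orderOf_dvd_natCard _ hmem).trans (tor_dvd hm hF A.2))).elim
      · exfalso
        have h2 := (hz2 p' ▸ Subgroup.orderOf_dvd_natCard _ hmem).trans (tor_dvd hm hF A.2)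
        have : 2 ∣ (2 ^ (2 * m + 1)) ^ 2 := dvd_pow (q_even m) two_ne_zero
        omega
      · have h1 := tor_centralizer hm hF A.2 hmem (hne (some (Sum.inr A')))
        rw [show A = A' from Subtype.ext (h1.symm.trans (htA A').symm)]
    intro o o' c hc1 hc hc'
    rcases o with _ | p | A
    · rcases o' with _ | p' | A'
      · rfl
      · exact (hpoint p' none c hc1 hc' hc).symm
      · exact (htor A' none c hc1 hc' hc).symm
    · exact hpoint p o' c hc1 hc hc'
    · exact htor A o' c hc1 hc hc'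
  choose φ hφA hφ using fun o => hcov (mark o)
  have hinj : Function.Injective φ := by
    intro o o' h
    have hm1 := hφ o
    have hm2 := hφ o'
    rw [← h] at hm2
    haveI := hnil _ (hφA o)
    haveI : Nontrivial (φ o) := ⟨⟨⟨_, hm1⟩, 1, fun e => hne o (congrArg Subtype.val e)⟩⟩
    obtain ⟨c, hc, hc1⟩ := (Subgroup.ne_bot_iff_exists_ne_one.mp
      (Group.IsNilpotent.center_ne_bot (G := φ o))) |> fun ⟨⟨c, hc⟩, h1⟩ =>
        (⟨c, hc, fun e => h1 (Subtype.ext e)⟩ : ∃ c, c ∈ Subgroup.center (φ o) ∧ c ≠ 1)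
    have hcc : ∀ x ∈ φ o, (c : Cfsg.Sz F m) ∈ Subgroup.centralizer {x} := fun x hx =>
      Subgroup.mem_centralizer_singleton_iff.mpr
        (congrArg Subtype.val (Subgroup.mem_center_iff.mp hc ⟨x, hx⟩)).symm
    exact hkey o o' c (fun e => hc1 (Subtype.ext e)) (hcc _ hm1) (hcc _ hm2)
  calc (Finset.univ.image f).card
      ≤ Fintype.card (Cfsg.suzukiOvoid F m ⊕ {A : Subgroup (Cfsg.Sz F m) // IsTor A}) :=
        Finset.card_image_le
    _ < Fintype.card (Option (Cfsg.suzukiOvoid F m ⊕ {A : Subgroup (Cfsg.Sz F m) // IsTor A})) := by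
        rw [Fintype.card_option]; exact Nat.lt_succ_self _
    _ ≤ 𝓐.card := by
        rw [← Finset.card_univ]
        exact Finset.card_le_card_of_injOn φ (fun o _ => hφA o) hinj.injOn

end H57
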