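import Cfsg.Agent.H57.SzTorusChar
import Cfsg.Agent.H57.SzSolub
import Cfsg.Prelude.Def_DegreeGraph

/-!
The character degrees of the Suzuki group.
-/

set_option autoImplicit false
set_option linter.unusedSectionVars false

namespace H57

open Cfsg

theorem two_squares_pow {x : ℕ} : ∀ (k y : ℕ), x ^ 2 + y ^ 2 = 2 ^ (2 * k + 1) → x = 2 ^ k := by
  intro k
  induction k generalizing x with
  | zero =>
    intro y h
    norm_num at h
    have hx : x ≤ 1 := by by_contra hc; nlinarith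
    have hy : y ≤ 1 := by by_contra hc; nlinarith
    interval_cases x <;> interval_cases y <;> simp_all
  | succ k ih =>
    intro y h
    have h4 : (x ^ 2 + y ^ 2) % 4 = 0 := by
      rw [h, show 2 * (k + 1) + 1 = 2 + (2 * k + 1) by ring, pow_add]
      omega
    have hx : x % 2 = 0 ∧ y % 2 = 0 := by
      rw [Nat.add_mod, Nat.pow_mod, Nat.pow_mod y] at h4
      have := Nat.mod_lt x (show 4 > 0 by omega)
      have := Nat.mod_lt y (show 4 > 0 by omega)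
      constructor <;>
      · have hx4 : x % 2 = x % 4 % 2 := by omega
        have hy4 : y % 2 = y % 4 % 2 := by omega
        rw [hx4] at *
        interval_cases (x % 4) <;> interval_cases (y % 4) <;> omega
    obtain ⟨⟨x', rfl⟩, ⟨y', rfl⟩⟩ := And.intro (Nat.dvd_of_mod_eq_zero hx.1) (Nat.dvd_of_mod_eq_zero hx.2)
    rw [pow_succ' 2 k, ih (x := x') y' (Nat.eq_of_mul_eq_mul_left (show 0 < 4 by norm_num) (by
      rw [show 2 * (k + 1) + 1 = 2 + (2 * k + 1) by ring, pow_add] at h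
      linarith))]

/-- The counting argument. -/
theorem degree_partition {ι : Type*} [DecidableEq ι] (C : Finset ι) (n : ι → ℕ) (a₁ a₂ w₁ w₂ k : ℕ)
    (hpos : ∀ i ∈ C, 0 < n i) (hcop : Nat.Coprime a₁ a₂)
    (hw₁ : 0 < w₁) (hw₂ : 0 < w₂)
    (hq₁ : 2 ^ (2 * k + 1) < a₁ ^ 2) (hq₂ : 2 ^ (2 * k + 1) < a₂ ^ 2)
    (hbig : w₁ * a₂ ^ 2 + w₂ * a₁ ^ 2 + 2 ^ (2 * k + 1) < (a₁ * a₂) ^ 2)
    (hcard : w₁ + w₂ + 2 ≤ C.card)
    (h₁ : (C.filter fun i => ¬ a₁ ∣ n i).card ≤ w₁ + 2)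
    (h₂ : (C.filter fun i => ¬ a₂ ∣ n i).card ≤ w₂ + 2)
    (hsum : ∑ i ∈ C, n i ^ 2 = w₁ * a₂ ^ 2 + w₂ * a₁ ^ 2 + 2 ^ (2 * k + 1)) :
    (∀ i ∈ C, n i = a₁ ∨ n i = a₂ ∨ n i = 2 ^ k) ∧
      (∃ i ∈ C, n i = a₁) ∧ (∃ i ∈ C, n i = a₂) ∧ ∃ i ∈ C, n i = 2 ^ k := by
  classical
  set q := 2 ^ (2 * k + 1)
  set X := C.filter fun i => ¬ a₁ ∣ n i ∧ a₂ ∣ n i with hX
  set Y := C.filter fun i => a₁ ∣ n i ∧ ¬ a₂ ∣ n i with hY
  set Z := C.filter fun i => ¬ a₁ ∣ n i ∧ ¬ a₂ ∣ n i with hZ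
  have hnone : ∀ i ∈ C, ¬ (a₁ ∣ n i ∧ a₂ ∣ n i) := fun i hi ⟨d1, d2⟩ => by
    have h := Nat.le_of_dvd (hpos i hi) (hcop.mul_dvd_of_dvd_of_dvd d1 d2)
    have h' := Finset.single_le_sum (f := fun i => n i ^ 2) (fun j _ => Nat.zero_le _) hi
    have := Nat.pow_le_pow_left h 2
    omega
  have hcover : ∀ i ∈ C, i ∈ X ∨ i ∈ Y ∨ i ∈ Z := fun i hi => by
    by_cases d1 : a₁ ∣ n i <;> by_cases d2 : a₂ ∣ n i
    · exact absurd ⟨d1, d2⟩ (hnone i hi)
    · exact Or.inr (Or.inl (by simp [hY, hi, d1, d2]))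
    · exact Or.inl (by simp [hX, hi, d1, d2])
    · exact Or.inr (Or.inr (by simp [hZ, hi, d1, d2]))
  have hXY : Disjoint X Y := by
    rw [Finset.disjoint_left]; intro i h h'
    simp only [hX, hY, Finset.mem_filter] at h h'
    exact h.2.1 h'.2.1
  have hXZ : Disjoint X Z := by
    rw [Finset.disjoint_left]; intro i h h'
    simp only [hX, hZ, Finset.mem_filter] at h h'
    exact h'.2.2 h.2.2
  have hYZ : Disjoint Y Z := by
    rw [Finset.disjoint_left]; intro i h h'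
    simp only [hY, hZ, Finset.mem_filter] at h h'
    exact h'.2.1 h.2.1
  have hC : C = X ∪ Y ∪ Z := by
    ext i
    simp only [Finset.mem_union]
    exact ⟨fun h => by have := hcover i h; tauto, fun h => by
      rcases h with (h | h) | h <;> exact (Finset.mem_filter.mp h).1⟩
  have hdXYZ : Disjoint (X ∪ Y) Z := Finset.disjoint_union_left.mpr ⟨hXZ, hYZ⟩
  have hcC : C.card = X.card + Y.card + Z.card := by
    rw [hC, Finset.card_union_of_disjoint hdXYZ, Finset.card_union_of_disjoint hXY]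
  have hsC : ∑ i ∈ X, n i ^ 2 + ∑ i ∈ Y, n i ^ 2 + ∑ i ∈ Z, n i ^ 2 = w₁ * a₂ ^ 2 + w₂ * a₁ ^ 2 + q := by
    rw [← hsum, hC, Finset.sum_union hdXYZ, Finset.sum_union hXY]
  have hc1 : X.card + Z.card ≤ w₁ + 2 := by
    rw [← Finset.card_union_of_disjoint hXZ]
    refine le_trans (Finset.card_le_card fun i hi => ?_) h₁
    rcases Finset.mem_union.mp hi with h | h <;>
      simp only [hX, hZ, Finset.mem_filter] at h ⊢ <;> exact ⟨h.1, h.2.1⟩
  have hc2 : Y.card + Z.card ≤ w₂ + 2 := by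
    rw [← Finset.card_union_of_disjoint hYZ]
    refine le_trans (Finset.card_le_card fun i hi => ?_) h₂
    rcases Finset.mem_union.mp hi with h | h <;>
      simp only [hY, hZ, Finset.mem_filter] at h ⊢ <;> exact ⟨h.1, h.2.2⟩
  have hlow : ∀ (S : Finset ι) (a : ℕ), (∀ i ∈ S, i ∈ C ∧ a ∣ n i) →
      S.card * a ^ 2 ≤ ∑ i ∈ S, n i ^ 2 := fun S a hS => by
    rw [← smul_eq_mul, ← Finset.sum_const]
    exact Finset.sum_le_sum fun i hi =>
      Nat.pow_le_pow_left (Nat.le_of_dvd (hpos i (hS i hi).1) (hS i hi).2) 2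
  have hXd : ∀ i ∈ X, i ∈ C ∧ a₂ ∣ n i := fun i hi => by
    simp only [hX, Finset.mem_filter] at hi; exact ⟨hi.1, hi.2.2⟩
  have hYd : ∀ i ∈ Y, i ∈ C ∧ a₁ ∣ n i := fun i hi => by
    simp only [hY, Finset.mem_filter] at hi; exact ⟨hi.1, hi.2.1⟩
  have hlX := hlow X a₂ hXd
  have hlY := hlow Y a₁ hYd
  have hXw : w₁ ≤ X.card := by omega
  have hYw : w₂ ≤ Y.card := by omega
  have hXeq : X.card = w₁ := by
    by_contra hne
    have h := Nat.mul_le_mul_right (a₂ ^ 2) (show w₁ + 1 ≤ X.card by omega)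
    rw [Nat.add_mul, one_mul] at h
    have := Nat.mul_le_mul_right (a₁ ^ 2) hYw
    omega
  have hYeq : Y.card = w₂ := by
    by_contra hne
    have h := Nat.mul_le_mul_right (a₁ ^ 2) (show w₂ + 1 ≤ Y.card by omega)
    rw [Nat.add_mul, one_mul] at h
    have := Nat.mul_le_mul_right (a₂ ^ 2) hXw
    omega
  have hZ2 : Z.card = 2 := by omega
  rw [hXeq] at hlX
  rw [hYeq] at hlY
  have hexact : ∀ (S : Finset ι) (a w : ℕ), (∀ i ∈ S, i ∈ C ∧ a ∣ n i) → S.card = w →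
      ∑ i ∈ S, n i ^ 2 ≤ w * a ^ 2 + q → q < a ^ 2 → ∀ i ∈ S, n i = a := by
    intro S a w hS hw hle hqa i hi
    obtain ⟨t, ht⟩ := (hS i hi).2
    have hrest := hlow (S.erase i) a fun j hj => hS j (Finset.mem_of_mem_erase hj)
    rw [Finset.card_erase_of_mem hi, hw, Nat.sub_mul, one_mul] at hrest
    rw [← Finset.add_sum_erase _ _ hi] at hle
    have hwa : a ^ 2 ≤ w * a ^ 2 := Nat.le_mul_of_pos_left _ (hw ▸ Finset.card_pos.mpr ⟨i, hi⟩)
    by_contra hne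
    have ht2 : 2 ≤ t := by
      rcases t with _ | _ | t
      · have := hpos i (hS i hi).1; rw [ht] at this; simp at this
      · exact absurd (by rw [ht, zero_add, mul_one]) hne
      · omega
    have : 4 * a ^ 2 ≤ n i ^ 2 := by
      rw [ht, mul_pow, mul_comm]
      exact Nat.mul_le_mul_left _ (Nat.pow_le_pow_left ht2 2)
    omega
  have hXn := hexact X a₂ w₁ hXd hXeq (by omega) hq₂
  have hYn := hexact Y a₁ w₂ hYd hYeq (by omega) hq₁
  rw [Finset.sum_congr rfl fun i hi => by rw [hXn i hi], Finset.sum_congr (s₁ := Y) rfl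
    fun i hi => by rw [hYn i hi], Finset.sum_const, Finset.sum_const, hXeq, hYeq, smul_eq_mul,
    smul_eq_mul] at hsC
  obtain ⟨z₁, z₂, hz, hZeq⟩ := Finset.card_eq_two.mp hZ2
  rw [hZeq, Finset.sum_pair hz] at hsC
  have hz₁ : n z₁ = 2 ^ k := two_squares_pow k (n z₂) (show _ = q by omega)
  have hz₂ : n z₂ = 2 ^ k := two_squares_pow k (n z₁) (show _ = q by omega)
  refine ⟨fun i hi => ?_, ?_, ?_, ⟨z₁, ?_, hz₁⟩⟩
  · rcases hcover i hi with h | h | h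
    · exact Or.inr (Or.inl (hXn i h))
    · exact Or.inl (hYn i h)
    · rw [hZeq, Finset.mem_insert, Finset.mem_singleton] at h
      rcases h with rfl | rfl
      · exact Or.inr (Or.inr hz₁)
      · exact Or.inr (Or.inr hz₂)
  · obtain ⟨i, hi⟩ := Finset.card_pos.mp (show 0 < Y.card by omega)
    exact ⟨i, (hYd i hi).1, hYn i hi⟩
  · obtain ⟨i, hi⟩ := Finset.card_pos.mp (show 0 < X.card by omega)
    exact ⟨i, (hXd i hi).1, hXn i hi⟩
  · exact (Finset.mem_filter.mp (hZeq ▸ Finset.mem_insert_self z₁ {z₂} : z₁ ∈ Z)).1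

variable {F : Type*} [Field F] [Fintype F] {m : ℕ}

/-- The set of character degrees of the Suzuki group. -/
theorem sz_degrees (hm : 1 ≤ m) (hF : Fintype.card F = 2 ^ (2 * m + 1)) (q : ℕ)
    (hq : q = 2 ^ (2 * m + 1)) :
    ∀ d, d ∈ charDegrees (Cfsg.Sz F m) ↔ d = 1 ∨ d = q ^ 2 ∨ d = q ^ 2 + 1 ∨
      d = (q - 1) * (q + 2 ^ (m + 1) + 1) ∨ d = (q - 1) * (q - 2 ^ (m + 1) + 1) ∨
        d = (q - 1) * 2 ^ m := by
  classical
  haveI := Fintype.ofFinite (Cfsg.Sz F m)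
  obtain ⟨C, hdvd, hcard, hsum, ⟨h1C, hsC⟩, hout, hxi⟩ := exists_cuspidal hm hF
  obtain ⟨Ap, Am, hAp, hAm, hcp, hcm, -⟩ := tor_summary hm hF
  have hst := degree_stein hm hF
  rw [← hq] at hdvd hout hxi hst hsum hcp hcm
  have hq8 : 8 ≤ q := by
    have : 2 ^ 3 ≤ 2 ^ (2 * m + 1) := Nat.pow_le_pow_right (by norm_num) (by omega)
    omega
  have hr := r_le_q m
  have hr2 := r_sq m
  rw [← hq] at hr hr2
  choose! n hn using hdvd
  obtain ⟨h, hh, hh2⟩ : ∃ h, 2 ^ (2 * m) = h ∧ q = 2 * h := ⟨_, rfl, by rw [hq, pow_succ']⟩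
  obtain ⟨t, ht, ht2⟩ : ∃ t, 2 ^ (m - 1) = t ∧ 2 ^ (m + 1) = 4 * t := by
    refine ⟨_, rfl, ?_⟩
    rw [show m + 1 = m - 1 + 2 by omega, pow_add]; ring
  obtain ⟨h', hh'⟩ : ∃ h', h = 4 * h' := by
    refine ⟨2 ^ (2 * m - 2), ?_⟩
    rw [← hh, show 2 * m = 2 * m - 2 + 2 by omega, pow_add, Nat.add_sub_cancel]; ring
  set w₁ := 2 * h' + t with hw₁
  set w₂ := 2 * h' - t with hw₂
  have hwle : t ≤ 2 * h' := by omega
  have hcp' : Nat.card Ap = 4 * w₁ + 1 := by omega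
  have hcm' : Nat.card Am = 4 * w₂ + 1 := by omega
  have hcm5 := tor_five_le hm hF hAm
  set a₁ := q + 2 ^ (m + 1) + 1 with ha₁
  set a₂ := q - 2 ^ (m + 1) + 1 with ha₂
  clear_value w₁ w₂ a₁ a₂
  have hq1 : 1 ≤ q := by omega
  have hprod : a₁ * a₂ = q ^ 2 + 1 := by
    rw [ha₁, ha₂]
    zify [hr] at hr2 ⊢
    linear_combination (-1 : ℤ) * hr2
  have hcop : ∀ a, a ∣ q ^ 2 + 1 → Nat.Coprime a (q - 1) := fun a ha => by
    refine Nat.coprime_of_dvd fun p hp h1 h2 => ?_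
    exact not_dvd_both hp (hq ▸ h2) (hq ▸ h1.trans ha)
  have hd₁ : a₁ ∣ q ^ 2 + 1 := ⟨a₂, hprod.symm⟩
  have hd₂ : a₂ ∣ q ^ 2 + 1 := ⟨a₁, by rw [← hprod, mul_comm]⟩
  have hstne : stein hm hF ≠ H12.oneIrr _ := fun e => by
    rw [e, degree_eq_of_apply_one (n := 1) _ (by simp [H12.oneIrr])] at hst
    nlinarith
  have hstu : ∀ χ : IrrCharacter (Cfsg.Sz F m),
      H12.degree (χ : Cfsg.Sz F m → ℂ) = H12.degree (stein hm hF : Cfsg.Sz F m → ℂ) → χ = stein hm hF := by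
    intro χ hχ
    rw [hst] at hχ
    by_cases hC : χ ∈ C
    · exfalso
      have hd : q - 1 ∣ q ^ 2 := by rw [← hχ]; exact ⟨_, hn χ hC⟩
      have hd2 : q - 1 ∣ q ^ 2 - 1 := ⟨q + 1, by
        zify [hq1, Nat.one_le_pow 2 q (by omega)]; ring⟩
      have h3 := Nat.dvd_sub hd hd2
      have := Nat.one_le_pow 2 q (by omega)
      rw [show q ^ 2 - (q ^ 2 - 1) = 1 by omega, Nat.dvd_one] at h3
      omega
    · rcases hout χ hC with e | e | e
      · exfalso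
        rw [e, degree_eq_of_apply_one (n := 1) _ (by simp [H12.oneIrr])] at hχ
        nlinarith
      · exact e
      · omega
  have hbud : ∀ (A : Subgroup (Cfsg.Sz F m)) (w a : ℕ), IsTor A → Nat.card A = a → a = 4 * w + 1 →
      a ∣ q ^ 2 + 1 → (C.filter fun χ => ¬ a ∣ n χ).card ≤ w + 2 := by
    intro A w a hA hca haw hda
    subst hca
    refine torus_budget hm hF hA haw (stein hm hF) hstne ?_ hstu _ (by simp [h1C]) (by simp [hsC]) ?_
    · rw [hst]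
      intro hd
      have h1 := Nat.dvd_sub hda hd
      rw [show q ^ 2 + 1 - q ^ 2 = 1 by omega, Nat.dvd_one] at h1
      have := tor_five_le hm hF hA
      omega
    · intro χ hχ
      rw [Finset.mem_filter] at hχ
      rw [hn χ hχ.1, (hcop _ hda).dvd_mul_left]
      exact hχ.2
  have h₁ := hbud Ap w₁ a₁ hAp hcp (by omega) hd₁
  have h₂ := hbud Am w₂ a₂ hAm hcm (by omega) hd₂
  have he2 : 2 * (∑ χ ∈ C, n χ ^ 2) = q * (q ^ 2 - 1) := by
    rw [Finset.sum_congr rfl fun χ hχ => by rw [hn χ hχ, mul_pow], ← Finset.mul_sum] at hsum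
    refine Nat.eq_of_mul_eq_mul_left (show 0 < (q - 1) ^ 2 from pow_pos (by omega) 2) ?_
    rw [← hsum]; ring
  have hsum' : ∑ χ ∈ C, n χ ^ 2 = w₁ * a₂ ^ 2 + w₂ * a₁ ^ 2 + 2 ^ (2 * m + 1) := by
    rw [← hq]
    refine Nat.eq_of_mul_eq_mul_left (show 0 < 2 by norm_num) (he2.trans ?_)
    have e1 : (4 : ℤ) * w₁ = q + (2 ^ (m + 1) : ℕ) := by omega
    have e2 : (4 : ℤ) * w₂ = (q : ℤ) - (2 ^ (m + 1) : ℕ) := by omega
    have e3 : (a₂ : ℤ) = q - (2 ^ (m + 1) : ℕ) + 1 := by omega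
    have e4 : (a₁ : ℤ) = q + (2 ^ (m + 1) : ℕ) + 1 := by omega
    have e5 : ((2 ^ (m + 1) : ℕ) : ℤ) ^ 2 = 2 * q := by exact_mod_cast hr2
    generalize ((2 ^ (m + 1) : ℕ) : ℤ) = r at e1 e2 e3 e4 e5
    zify [Nat.one_le_pow 2 q (by omega)]
    refine mul_left_cancel₀ (show (2 : ℤ) ≠ 0 by norm_num) ?_
    linear_combination (-(a₂ : ℤ) ^ 2) * e1 - (a₁ : ℤ) ^ 2 * e2 -
      ((q : ℤ) + r) * (a₂ + (q - r + 1)) * e3 - ((q : ℤ) - r) * (a₁ + (q + r + 1)) * e4 +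
      (4 * (q + 1) - 2 * q) * e5
  have hCc : w₁ + w₂ + 2 ≤ C.card := by omega
  have hqsq : q < a₂ ^ 2 := by
    have h5 : (2 ^ (m + 1) : ℕ) * 2 ≤ q := by
      rw [hq, ← pow_succ]; exact Nat.pow_le_pow_right (by norm_num) (by omega)
    have hsq : (h + 1) ^ 2 ≤ a₂ ^ 2 := Nat.pow_le_pow_left (by omega) 2
    rw [add_sq, mul_one, one_pow] at hsq
    omega
  have hqsq1 : q < a₁ ^ 2 := lt_of_lt_of_le hqsq (Nat.pow_le_pow_left (by omega) 2)
  have hbig : w₁ * a₂ ^ 2 + w₂ * a₁ ^ 2 + q < (a₁ * a₂) ^ 2 := by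
    rw [hq, ← hsum', hprod]
    have h1 : 2 * (∑ χ ∈ C, n χ ^ 2) ≤ q * q ^ 2 := he2 ▸ Nat.mul_le_mul_left _ (Nat.sub_le _ _)
    have h2 : q * q ^ 2 ≤ q ^ 2 * q ^ 2 := Nat.mul_le_mul_right _ (Nat.le_self_pow (by norm_num) q)
    have h3 : (q ^ 2 + 1) ^ 2 = q ^ 2 * q ^ 2 + 2 * q ^ 2 + 1 := by ring
    rw [h3]
    omega
  rw [hq] at hbig hqsq hqsq1
  obtain ⟨hall, ⟨χ₁, hχ₁, e₁⟩, ⟨χ₂, hχ₂, e₂⟩, ⟨χ₃, hχ₃, e₃⟩⟩ :=
    degree_partition C n a₁ a₂ w₁ w₂ m (fun χ hχ => by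
      have h0 := H12.irr_degree_pos χ
      rw [hn χ hχ] at h0
      exact Nat.pos_of_mul_pos_left h0)
      (by rw [ha₁, ha₂, hq]; exact tor_coprime m) (by omega) (by omega) hqsq1 hqsq hbig hCc h₁ h₂ hsum'
  intro d
  constructor
  · rintro ⟨χ, rfl⟩
    show H12.degree (χ : Cfsg.Sz F m → ℂ) = 1 ∨ H12.degree (χ : Cfsg.Sz F m → ℂ) = _ ∨
      H12.degree (χ : Cfsg.Sz F m → ℂ) = _ ∨ H12.degree (χ : Cfsg.Sz F m → ℂ) = _ ∨
      H12.degree (χ : Cfsg.Sz F m → ℂ) = _ ∨ H12.degree (χ : Cfsg.Sz F m → ℂ) = _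
    by_cases hC : χ ∈ C
    · rw [hn χ hC]
      rcases hall χ hC with e | e | e <;> rw [e] <;> simp
    · rcases hout χ hC with e | e | e
      · left; rw [e]; exact degree_eq_of_apply_one _ (by simp [H12.oneIrr])
      · right; left; rw [e]; exact hst
      · right; right; left; exact e
  · rintro (rfl | rfl | rfl | rfl | rfl | rfl)
    · exact ⟨H12.oneIrr _, degree_eq_of_apply_one (n := 1) _ (by simp [H12.oneIrr])⟩
    · exact ⟨stein hm hF, hst⟩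
    · exact hxi
    · exact ⟨χ₁, (hn χ₁ hχ₁).trans (by rw [e₁])⟩
    · exact ⟨χ₂, (hn χ₂ hχ₂).trans (by rw [e₂])⟩
    · exact ⟨χ₃, (hn χ₃ hχ₃).trans (by rw [e₃])⟩

end H57
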