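import Cfsg.Agent.H57.SzModule

/-!
Extensions of 2-groups by the Suzuki group with the same prime graph.
-/

set_option autoImplicit false

namespace H57

open Matrix
open scoped Pointwise

variable {F : Type*} [Field F] [Fintype F] {m : ℕ}

/-- The module `(F⁴)^(n)`, written multiplicatively. -/
abbrev SzModuleGrp (F : Type*) (n : ℕ) : Type _ := Multiplicative (Fin n → Fin 4 → F)

/-- The action of a group element on `(F⁴)^(n)`. -/
def szAddAut (n : ℕ) (g : Cfsg.Sz F m) : (Fin n → Fin 4 → F) ≃+ (Fin n → Fin 4 → F) where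
  toFun v i := szMat g *ᵥ v i
  invFun v i := szMat g⁻¹ *ᵥ v i
  left_inv v := by
    funext i; simp only; rw [Matrix.mulVec_mulVec, ← map_mul, inv_mul_cancel, map_one, Matrix.one_mulVec]
  right_inv v := by
    funext i; simp only; rw [Matrix.mulVec_mulVec, ← map_mul, mul_inv_cancel, map_one, Matrix.one_mulVec]
  map_add' v w := by funext i; exact Matrix.mulVec_add _ _ _

/-- The homomorphism into the automorphisms of the module. -/
def szPhi (n : ℕ) : Cfsg.Sz F m →* MulAut (SzModuleGrp F n) where
  toFun g := AddEquiv.toMultiplicative (szAddAut n g)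
  map_one' := by
    apply MulEquiv.ext; intro v
    apply Multiplicative.toAdd.injective
    funext i
    show szMat (1 : Cfsg.Sz F m) *ᵥ v.toAdd i = v.toAdd i
    rw [map_one, Matrix.one_mulVec]
  map_mul' g h := by
    apply MulEquiv.ext; intro v
    apply Multiplicative.toAdd.injective
    funext i
    show szMat (g * h) *ᵥ v.toAdd i = szMat g *ᵥ (szMat h *ᵥ v.toAdd i)
    rw [map_mul, Matrix.mulVec_mulVec]

/-- The semidirect product. -/
abbrev SzExt (F : Type*) [Field F] [Fintype F] (m n : ℕ) : Type _ :=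
  SemidirectProduct (SzModuleGrp F n) (Cfsg.Sz F m) (szPhi n)

omit [Fintype F] in
theorem vec_add_self [CharP F 2] {n : ℕ} (v : SzModuleGrp F n) : v * v = 1 := by
  apply Multiplicative.toAdd.injective
  funext i j
  exact CharTwo.add_self_eq_zero _

theorem szExt_orderOf (hm : 1 ≤ m) (hF : Fintype.card F = 2 ^ (2 * m + 1)) {n : ℕ}
    (y : SzExt F m n) : (∃ j, orderOf y = 2 ^ j) ∨ orderOf y = orderOf y.right := by
  haveI := charTwo hF
  have hsq : ∀ x : SzExt F m n, x.right = 1 → x ^ 2 = 1 := by
    intro x hx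
    apply SemidirectProduct.ext
    · rw [sq, SemidirectProduct.mul_left, hx, map_one, MulAut.one_apply, vec_add_self]
      rfl
    · rw [sq, SemidirectProduct.mul_right, hx, mul_one]; rfl
  have hright : ∀ k : ℕ, (y ^ k).right = y.right ^ k := fun k =>
    map_pow SemidirectProduct.rightHom y k
  by_cases h2 : 2 ∣ orderOf y.right ∨ y.right = 1
  · left
    have h4 : y.right ^ 4 = 1 := by
      rcases h2 with h | h
      · exact even_el_pow_four hm hF h
      · rw [h, one_pow]
    have h8 : orderOf y ∣ 2 ^ 3 := orderOf_dvd_of_pow_eq_one (by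
      rw [show (2 : ℕ) ^ 3 = 4 * 2 by norm_num, pow_mul]
      exact hsq _ (by rw [hright, h4]))
    obtain ⟨j, -, hj⟩ := (Nat.dvd_prime_pow Nat.prime_two).mp h8
    exact ⟨j, hj⟩
  · right
    rw [not_or] at h2
    refine Nat.dvd_antisymm (orderOf_dvd_of_pow_eq_one ?_) (orderOf_map_dvd SemidirectProduct.rightHom y)
    set x := y ^ orderOf y.right with hx
    have hxr : x.right = 1 := by rw [hx, hright, pow_orderOf_eq_one]
    have hcomm : y * x = x * y := ((Commute.refl y).pow_right _).eq
    have hl := congrArg SemidirectProduct.left hcomm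
    rw [SemidirectProduct.mul_left, SemidirectProduct.mul_left, hxr, map_one, MulAut.one_apply,
      mul_comm x.left y.left, mul_right_inj] at hl
    apply SemidirectProduct.ext
    · apply Multiplicative.toAdd.injective
      funext i
      exact odd_el_fpf hm hF h2.2 h2.1 (congrFun (congrArg Multiplicative.toAdd hl) i)
    · exact hxr

theorem szExt_primeGraph (hm : 1 ≤ m) (hF : Fintype.card F = 2 ^ (2 * m + 1)) (n : ℕ) :
    (∀ r : ℕ, r.Prime → (r ∣ Nat.card (Cfsg.Sz F m) ↔ r ∣ Nat.card (SzExt F m n))) ∧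
      ∀ r s : ℕ, r.Prime → s.Prime → r ≠ s →
        ((∃ x : Cfsg.Sz F m, orderOf x = r * s) ↔ ∃ y : SzExt F m n, orderOf y = r * s) := by
  constructor
  · intro r hr
    rw [SemidirectProduct.card]
    refine ⟨fun h => dvd_mul_of_dvd_right h _, fun h => ?_⟩
    rcases hr.dvd_mul.mp h with h | h
    · rw [Nat.card_eq_fintype_card, Fintype.card_multiplicative, Fintype.card_fun, Fintype.card_fun,
        hF, Fintype.card_fin, Fintype.card_fin] at h
      have h2 := (Nat.prime_dvd_prime_iff_eq hr Nat.prime_two).mp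
        (hr.dvd_of_dvd_pow (hr.dvd_of_dvd_pow (hr.dvd_of_dvd_pow h)))
      subst h2
      rw [card_sz hm hF]
      exact dvd_mul_of_dvd_left (dvd_mul_of_dvd_left (dvd_pow (q_even m) two_ne_zero) _) _
    · exact h
  · intro r s hr hs hrs
    constructor
    · rintro ⟨x, hx⟩
      exact ⟨SemidirectProduct.inr x, (orderOf_injective _ SemidirectProduct.inr_injective x).trans hx⟩
    · rintro ⟨y, hy⟩
      rcases szExt_orderOf hm hF y with ⟨j, hj⟩ | h
      · rw [hy] at hj
        have h1 := (Nat.prime_dvd_prime_iff_eq hr Nat.prime_two).mp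
          (hr.dvd_of_dvd_pow (hj ▸ dvd_mul_right r s))
        have h2 := (Nat.prime_dvd_prime_iff_eq hs Nat.prime_two).mp
          (hs.dvd_of_dvd_pow (hj ▸ dvd_mul_left s r))
        exact absurd (h1.trans h2.symm) hrs
      · exact ⟨y.right, h ▸ hy⟩

end H57
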