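import Cfsg.Agent.H57.SzSemilinear
import Cfsg.Agent.H57.SzRep

/-!
The quadratic forms `y ↦ Tr (c θy y)` over the field of the Suzuki group.
-/

set_option autoImplicit false

namespace H57

variable {F : Type*} [Field F] [Fintype F] {m : ℕ}

/-- The absolute trace. -/
noncomputable def fTr (hF : Fintype.card F = 2 ^ (2 * m + 1)) : F →+ ZMod 2 :=
  letI := charTwo hF
  letI : Algebra (ZMod 2) F := ZMod.algebra F 2
  (Algebra.trace (ZMod 2) F).toAddMonoidHom

theorem zmod_two_cases : ∀ x : ZMod 2, x = 0 ∨ x = 1 := by decide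

theorem fTr_one (hF : Fintype.card F = 2 ^ (2 * m + 1)) : fTr (m := m) hF 1 = 1 := by
  haveI := charTwo hF
  letI : Algebra (ZMod 2) F := ZMod.algebra F 2
  have hfr : Module.finrank (ZMod 2) F = 2 * m + 1 := by
    have h := Module.card_eq_pow_finrank (K := ZMod 2) (V := F)
    rw [hF, ZMod.card] at h
    exact (Nat.pow_right_injective le_rfl h).symm
  show Algebra.trace (ZMod 2) F 1 = 1
  rw [← map_one (algebraMap (ZMod 2) F), Algebra.trace_algebraMap, hfr, nsmul_one, Nat.cast_add,
    Nat.cast_mul, Nat.cast_one, show ((2 : ℕ) : ZMod 2) = 0 from rfl, zero_mul, zero_add]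

theorem fTr_aut (hF : Fintype.card F = 2 ^ (2 * m + 1)) (σ : F ≃+* F) (x : F) :
    fTr (m := m) hF (σ x) = fTr hF x := by
  haveI := charTwo hF
  letI : Algebra (ZMod 2) F := ZMod.algebra F 2
  let e : F ≃ₐ[ZMod 2] F := AlgEquiv.ofRingEquiv (f := σ) fun r =>
    DFunLike.congr_fun (Subsingleton.elim ((σ : F →+* F).comp (algebraMap (ZMod 2) F))
      (algebraMap (ZMod 2) F)) r
  exact Algebra.trace_eq_of_algEquiv e x

theorem fTr_th (hF : Fintype.card F = 2 ^ (2 * m + 1)) (x : F) :
    fTr (m := m) hF (th m x) = fTr hF x := by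
  rw [← thEquiv_apply hF, fTr_aut]

theorem fTr_sq (hF : Fintype.card F = 2 ^ (2 * m + 1)) (x : F) :
    fTr (m := m) hF (x ^ 2) = fTr hF x := by
  rw [← th_th hF, fTr_th, fTr_th]

theorem fTr_nondeg (hF : Fintype.card F = 2 ^ (2 * m + 1)) {c : F}
    (h : ∀ x, fTr (m := m) hF (x * c) = 0) : c = 0 := by
  haveI := charTwo hF
  letI : Algebra (ZMod 2) F := ZMod.algebra F 2
  refine (traceForm_nondegenerate (ZMod 2) F).1 c fun x => ?_
  rw [Algebra.traceForm_apply, mul_comm]
  exact h x

theorem fTr_range (hF : Fintype.card F = 2 ^ (2 * m + 1)) {x : F} :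
    fTr (m := m) hF x = 0 ↔ ∃ v, v + th m v = x := by
  constructor
  · intro hx
    set R := (thHom (m := m) hF).range with hR
    have hidx : R.index = 2 := by
      have h := R.card_mul_index
      rw [hR, card_thHom_range, Nat.card_eq_fintype_card (α := F), hF, pow_succ] at h
      exact Nat.eq_of_mul_eq_mul_left (by positivity) h
    have hzero : ∀ y ∈ R, fTr hF y = 0 := by
      rintro y ⟨v, rfl⟩
      show fTr hF (v + th m v) = 0
      rw [map_add, fTr_th]
      exact CharTwo.add_self_eq_zero _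
    have h1 : (1 : F) ∉ R := fun h => one_ne_zero ((fTr_one hF).symm.trans (hzero 1 h))
    by_contra hne
    have hxR : x ∉ R := fun h => hne h
    have h2 : x + 1 ∈ R := (AddSubgroup.add_mem_iff_of_index_two hidx).mpr (iff_of_false hxR h1)
    have := hzero _ h2
    rw [map_add, hx, fTr_one, zero_add] at this
    exact one_ne_zero this
  · rintro ⟨v, rfl⟩
    rw [map_add, fTr_th]
    exact CharTwo.add_self_eq_zero _

theorem fTr_quadratic (hF : Fintype.card F = 2 ^ (2 * m + 1)) {x : F}
    (hx : fTr (m := m) hF x = 0) : ∃ z, z ^ 2 + z = x := by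
  obtain ⟨y, rfl⟩ := (fTr_range hF).mp hx
  have h2 := two_eq_zero hF
  obtain ⟨y', hy', he⟩ : ∃ y', fTr (m := m) hF y' = 0 ∧ y' + th m y' = y + th m y := by
    rcases zmod_two_cases (fTr hF y) with h | h
    · exact ⟨y, h, rfl⟩
    · refine ⟨y + 1, ?_, ?_⟩
      · rw [map_add, h, fTr_one]; rfl
      · rw [th_add hF, th_one]
        linear_combination h2
  obtain ⟨z, rfl⟩ := (fTr_range hF).mp hy'
  refine ⟨z, ?_⟩
  rw [← he, th_add hF, th_th hF]
  linear_combination (-th m z) * h2

/-- The polar form of `qT`. -/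
noncomputable def bT (hF : Fintype.card F = 2 ^ (2 * m + 1)) (c x y : F) : ZMod 2 :=
  fTr hF (c * (th m x * y + th m y * x))

/-- The quadratic form `y ↦ Tr (c θy y)`. -/
noncomputable def qT (hF : Fintype.card F = 2 ^ (2 * m + 1)) (c y : F) : ZMod 2 :=
  fTr hF (c * (th m y * y))

theorem qT_add (hF : Fintype.card F = 2 ^ (2 * m + 1)) (c x y : F) :
    qT hF c (x + y) = qT hF c x + qT hF c y + bT hF c x y := by
  simp only [qT, bT, ← map_add]
  congr 1
  rw [th_add hF]
  ring

theorem qT_zero (hF : Fintype.card F = 2 ^ (2 * m + 1)) (c : F) : qT hF c (0 : F) = 0 := by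
  simp [qT]

theorem qT_coef_add (hF : Fintype.card F = 2 ^ (2 * m + 1)) (c d y : F) :
    qT hF (c + d) y = qT hF c y + qT hF d y := by
  simp only [qT, add_mul, map_add]

theorem bT_comm (hF : Fintype.card F = 2 ^ (2 * m + 1)) (c x y : F) :
    bT hF c x y = bT hF c y x := by
  simp only [bT, add_comm]

theorem bT_add (hF : Fintype.card F = 2 ^ (2 * m + 1)) (c x y z : F) :
    bT hF c x (y + z) = bT hF c x y + bT hF c x z := by
  simp only [bT, ← map_add]
  congr 1
  rw [th_add hF]
  ring

theorem bT_add' (hF : Fintype.card F = 2 ^ (2 * m + 1)) (c x y z : F) :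
    bT hF c (x + y) z = bT hF c x z + bT hF c y z := by
  rw [bT_comm, bT_add, bT_comm hF c z, bT_comm hF c z]

theorem bT_radical (hF : Fintype.card F = 2 ^ (2 * m + 1)) {c y : F} (hc : c ≠ 0)
    (h : ∀ x, bT hF c x y = 0) : y = 0 ∨ y = c / th m c := by
  have hrad : c * y + th m c * y ^ 2 = 0 := by
    refine fTr_nondeg (m := m) hF fun z => ?_
    obtain ⟨x, rfl⟩ : ∃ x, th m x = z := (thEquiv hF).surjective z
    rw [← h x, bT, mul_add, map_add, mul_add c, map_add]
    congr 1
    · congr 1; ring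
    · rw [← fTr_th hF (c * (th m y * x)), th_mul, th_mul, th_th hF]
      congr 1; ring
  have hc' : th m c ≠ 0 := mt th_eq_zero.mp hc
  rcases eq_or_ne y 0 with h0 | h0
  · exact Or.inl h0
  · refine Or.inr ?_
    rw [eq_div_iff hc']
    apply mul_left_cancel₀ h0
    linear_combination hrad - (c * y) * two_eq_zero hF

theorem qT_radical (hF : Fintype.card F = 2 ^ (2 * m + 1)) {c : F} (hc : c ≠ 0) :
    qT (m := m) hF c (c / th m c) = 1 ∧ ∀ x, bT hF c x (c / th m c) = 0 := by
  have hc' : th m c ≠ 0 := mt th_eq_zero.mp hc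
  have hth : th m (c / th m c) = th m c / c ^ 2 := by
    rw [div_eq_mul_inv, th_mul, th_inv, th_th hF, ← div_eq_mul_inv]
  constructor
  · rw [qT, hth, ← fTr_one (m := m) hF]
    congr 1
    field_simp
  · intro x
    rw [bT, mul_add, map_add, hth, ← fTr_th hF (c * (th m c / c ^ 2 * x))]
    rw [show th m (c * (th m c / c ^ 2 * x)) = c * (th m x * (c / th m c)) by
      rw [th_mul, th_mul, div_eq_mul_inv (th m c), th_mul, th_inv, th_th hF, th_pow]
      field_simp]
    exact CharTwo.add_self_eq_zero _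

theorem bT_ne_zero (hm : 1 ≤ m) (hF : Fintype.card F = 2 ^ (2 * m + 1)) {c : F} (hc : c ≠ 0) :
    ∃ x y, bT (m := m) hF c x y ≠ 0 := by
  classical
  by_contra! h
  have hsub : (Finset.univ : Finset F) ⊆ {0, c / th m c} := fun y _ => by
    rcases bT_radical hF hc (fun x => h x y) with e | e <;> simp [e]
  have := (Finset.card_le_card hsub).trans Finset.card_le_two
  rw [Finset.card_univ, hF] at this
  have : 2 ^ 3 ≤ 2 ^ (2 * m + 1) := Nat.pow_le_pow_right (by norm_num) (by omega)
  omega

/-- For every `c` some `y` has `Q_c(y) + Tr y = 1`. -/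
theorem exists_qT_add_tr (hm : 1 ≤ m) (hF : Fintype.card F = 2 ^ (2 * m + 1)) (c : F) :
    ∃ y, qT hF c y + fTr hF y = 1 := by
  by_contra! h
  rcases eq_or_ne c 0 with rfl | hc
  · exact h 1 (by simp [qT, fTr_one])
  · obtain ⟨x, y, hxy⟩ := bT_ne_zero hm hF hc
    have h0 : ∀ z, qT hF c z + fTr hF z = 0 := fun z => (zmod_two_cases _).resolve_right (h z)
    have e := h0 (x + y)
    rw [qT_add, map_add] at e
    apply hxy
    linear_combination e - h0 x - h0 y

/-- A polar form which vanishes on a hyperplane forces `q ≤ 8`. -/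
theorem not_isotropic (hm : 2 ≤ m) (hF : Fintype.card F = 2 ^ (2 * m + 1)) {c : F} (hc : c ≠ 0)
    (l : F →+ ZMod 2) (z₀ : F) (hz₀ : l z₀ = 1)
    (h : ∀ x y, l x = 0 → l y = 0 → bT hF c x y = 0) : False := by
  classical
  let pr : F → F := fun y => if l y = 0 then y else y + z₀
  have hpr : ∀ y, l (pr y) = 0 := by
    intro y
    simp only [pr]
    split_ifs with hy
    · exact hy
    · rw [map_add, hz₀, (zmod_two_cases _).resolve_left hy]; rfl
  let φ : F → ZMod 2 × ZMod 2 := fun y => (l y, bT hF c (pr y) z₀)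
  have hfib : ∀ a ∈ (Finset.univ : Finset F).image φ,
      (Finset.univ.filter fun y => φ y = a).card ≤ 2 := by
    intro a ha
    obtain ⟨y, -, rfl⟩ := Finset.mem_image.mp ha
    refine (Finset.card_le_card (t := {y, y + c / th m c}) ?_).trans Finset.card_le_two
    intro y' hy'
    obtain ⟨-, e⟩ := Finset.mem_filter.mp hy'
    simp only [φ, Prod.mk.injEq] at e
    obtain ⟨e1, e2⟩ := e
    have hd : pr y' + pr y = y' + y := by
      simp only [pr, e1]
      split_ifs
      · rfl
      · linear_combination z₀ * two_eq_zero hF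
    have hl : l (y' + y) = 0 := by rw [map_add, e1]; exact CharTwo.add_self_eq_zero _
    have hall : ∀ x, bT hF c x (y' + y) = 0 := by
      have hz : bT hF c z₀ (y' + y) = 0 := by
        rw [← hd, bT_add, bT_comm hF c z₀, bT_comm hF c z₀, e2]
        exact CharTwo.add_self_eq_zero _
      intro x
      rcases zmod_two_cases (l x) with hx | hx
      · exact h _ _ hx hl
      · have hx' : l (x + z₀) = 0 := by rw [map_add, hx, hz₀]; rfl
        have := h _ _ hx' hl
        rwa [bT_add', hz, add_zero] at this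
    rcases bT_radical hF hc hall with e | e
    · simp [(add_eq_zero_iff hF).mp e]
    · have : y' = y + c / th m c := by rw [← e]; linear_combination (-y) * two_eq_zero hF
      simp [this]
  have hle := Finset.card_le_mul_card_image (Finset.univ : Finset F) 2 hfib
  have h4 : ((Finset.univ : Finset F).image φ).card ≤ 4 := (Finset.card_le_univ _).trans le_rfl
  rw [Finset.card_univ, hF] at hle
  have : 2 ^ 5 ≤ 2 ^ (2 * m + 1) := Nat.pow_le_pow_right (by norm_num) (by omega)
  omega

/-- In the field with `8` elements the three conjugates of a root of `x³ + x² + 1`. -/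
theorem eight_roots (hF : Fintype.card F = 2 ^ (2 * 1 + 1)) :
    ∃ w : F, w ^ 3 + w ^ 2 + 1 = 0 := by
  classical
  obtain ⟨a, ha0, ha1⟩ : ∃ a : F, a ≠ 0 ∧ a ≠ 1 := by
    have hlt : ({0, 1} : Finset F).card < Fintype.card F := by
      have := Finset.card_le_two (a := (0 : F)) (b := 1)
      rw [hF]
      omega
    obtain ⟨a, -, ha⟩ := Finset.exists_mem_notMem_of_card_lt_card
      (hlt.trans_eq Finset.card_univ.symm)
    simp at ha
    exact ⟨a, ha.1, ha.2⟩
  have h2 := two_eq_zero hF
  have h7 : a ^ 7 = 1 := by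
    have := FiniteField.pow_card_sub_one_eq_one a ha0
    rwa [hF] at this
  have e : (a + 1) * ((a ^ 3 + a + 1) * (a ^ 3 + a ^ 2 + 1)) = 0 := by
    linear_combination h7 + (1 + a + a ^ 2 + 2 * a ^ 3 + 2 * a ^ 4 + a ^ 5 + a ^ 6) * h2
  rcases mul_eq_zero.mp ((mul_eq_zero.mp e).resolve_left
    fun h => ha1 ((add_eq_zero_iff hF).mp h)) with h | h
  · refine ⟨a⁻¹, ?_⟩
    field_simp
    linear_combination h
  · exact ⟨a, h⟩

theorem eight_data (hF : Fintype.card F = 2 ^ (2 * 1 + 1)) :
    ∃ w : F, (∀ i : ℕ, fTr (m := 1) hF (w ^ 2 ^ i) = 1 ∧ qT (m := 1) hF 1 (w ^ 2 ^ i) = 0) ∧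
      th 1 w * w + th 1 (w ^ 2) * w ^ 2 + th 1 (w ^ 4) * w ^ 4 = 0 ∧ w + w ^ 2 + w ^ 4 = 1 := by
  have h2 := two_eq_zero hF
  obtain ⟨w, hw⟩ := eight_roots hF
  have hsum : w + w ^ 2 + w ^ 4 = 1 := by linear_combination (w - 1) * hw + w ^ 2 * h2
  have hTr : fTr (m := 1) hF w = 1 := by
    have e : fTr (m := 1) hF (w + w ^ 2 + w ^ 4) = fTr hF w := by
      rw [map_add, map_add, fTr_sq, show w ^ 4 = (w ^ 2) ^ 2 by ring, fTr_sq, fTr_sq]
      rw [CharTwo.add_self_eq_zero, zero_add]
    rw [hsum, fTr_one] at e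
    exact e.symm
  have hq : qT (m := 1) hF 1 w = 0 := by
    have e : th 1 w * w = w + 1 := by
      rw [th_def]
      linear_combination (w ^ 2 - w + 1) * hw - (w ^ 2 + 1) * h2
    rw [qT, one_mul, e, map_add, hTr, fTr_one]
    rfl
  refine ⟨w, fun i => ?_, ?_, hsum⟩
  · induction i with
    | zero => rw [pow_zero, pow_one]; exact ⟨hTr, hq⟩
    | succ i ih =>
      rw [pow_succ, pow_mul]
      refine ⟨(fTr_sq hF _).trans ih.1, ?_⟩
      rw [← ih.2, qT, qT, one_mul, one_mul, th_pow, ← mul_pow, fTr_sq]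
  · have h8 : ∀ x : F, x ^ 8 = x := fun x => by
      have := FiniteField.pow_card x
      rwa [hF] at this
    simp only [th_def]
    calc w ^ 2 ^ (1 + 1) * w + (w ^ 2) ^ 2 ^ (1 + 1) * w ^ 2 + (w ^ 4) ^ 2 ^ (1 + 1) * w ^ 4
        = w ^ 5 + w ^ 8 * w ^ 2 + (w ^ 8) ^ 2 * w ^ 4 := by ring
      _ = w ^ 5 + w ^ 3 + w ^ 6 := by rw [h8]; ring
      _ = w ^ 3 * (w ^ 3 + w ^ 2 + 1) := by ring
      _ = 0 := by rw [hw, mul_zero]

/-- Some `y` has `Q_c(y) = 0` and `Q_d(y) + Tr y = 1`. -/
theorem exists_pair (hm : 1 ≤ m) (hF : Fintype.card F = 2 ^ (2 * m + 1)) {c d : F} (hc : c ≠ 0)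
    (h1 : m = 1 → fTr (m := m) hF c = 1) :
    ∃ y, qT hF c y = 0 ∧ qT hF d y + fTr hF y = 1 := by
  by_cases hm1 : m = 1
  · subst hm1
    obtain ⟨k, hk⟩ := (th_mul_self_bij (m := 1) hF).2 c
    simp only at hk
    obtain ⟨w, hw, hs5, hs1⟩ := eight_data hF
    have hk0 : k ≠ 0 := fun e => hc (by rw [← hk, e, mul_zero])
    have hk0' : th 1 k ≠ 0 := mt th_eq_zero.mp hk0
    have hqc : ∀ i : ℕ, qT (m := 1) hF c (w ^ 2 ^ i / k) = 0 := fun i => by
      rw [← (hw i).2, qT, qT, div_eq_mul_inv, th_mul, th_inv, ← hk]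
      congr 1
      field_simp
    -- the three values sum to `1`
    have hsum : (qT hF d (w / k) + fTr hF (w / k)) + (qT hF d (w ^ 2 / k) + fTr hF (w ^ 2 / k)) +
        (qT hF d (w ^ 4 / k) + fTr hF (w ^ 4 / k)) = 1 := by
      have hinv : fTr (m := 1) hF (1 / k) = 1 := by
        have h7 : k ^ 7 = 1 := by
          have := FiniteField.pow_card_sub_one_eq_one k hk0
          rwa [hF] at this
        rw [← h1 rfl, ← hk, show (1 : F) / k = k ^ 6 by
          rw [div_eq_iff hk0, ← pow_succ, h7]]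
        rw [show th 1 k * k = k ^ 5 by rw [th_def]; ring, ← fTr_sq hF (k ^ 5),
          show (k ^ 5) ^ 2 = k ^ 7 * k ^ 3 by ring, h7, one_mul, ← fTr_sq hF (k ^ 3)]
        congr 1
        ring
      calc _ = fTr hF (d / (th 1 k * k) *
              (th 1 w * w + th 1 (w ^ 2) * w ^ 2 + th 1 (w ^ 4) * w ^ 4)) +
            fTr hF ((w + w ^ 2 + w ^ 4) / k) := by
              simp only [qT, div_eq_mul_inv, th_mul, th_inv, mul_inv, add_mul, mul_add, map_add]
              ring_nf
        _ = 1 := by rw [hs5, mul_zero, map_zero, zero_add, hs1, hinv]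
    by_contra! h
    have h0 : ∀ i : ℕ, qT hF d (w ^ 2 ^ i / k) + fTr hF (w ^ 2 ^ i / k) = 0 := fun i =>
      (zmod_two_cases _).resolve_right (h _ (hqc i))
    have a0 := h0 0
    have a1 := h0 1
    have a2 := h0 2
    norm_num at a0 a1 a2
    rw [a0, a1, a2] at hsum
    simp at hsum
  · have hm2 : 2 ≤ m := by omega
    by_contra! h
    obtain ⟨hr1, hr2⟩ := qT_radical (m := m) hF hc
    set r := c / th m c
    set G : F → ZMod 2 := fun y => qT hF d y + fTr hF y
    have hG0 : ∀ y, qT hF c y = 0 → G y = 0 := fun y hy =>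
      (zmod_two_cases _).resolve_right (h y hy)
    have hGadd : ∀ x y, G (x + y) = G x + G y + bT hF d x y := fun x y => by
      simp only [G, qT_add, map_add]; ring
    let l : F →+ ZMod 2 := AddMonoidHom.mk' (fun y => bT hF d y r) fun a b => bT_add' hF d a b r
    have hprod : ∀ y, G y = qT hF c y * (G r + l y) := by
      intro y
      rcases zmod_two_cases (qT hF c y) with hy | hy
      · rw [hG0 y hy, hy, zero_mul]
      · have hy' : qT hF c (y + r) = 0 := by rw [qT_add, hy, hr1, hr2, add_zero]; rfl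
        have e := hG0 _ hy'
        rw [hGadd] at e
        show G y = qT hF c y * (G r + bT hF d y r)
        rw [hy, one_mul]
        have hchar : ∀ a b c : ZMod 2, a + b + c = 0 → a = b + c := by decide
        exact hchar _ _ _ e
    by_cases hl : ∀ y, l y = 0
    · rcases zmod_two_cases (G r) with hk | hk
      · obtain ⟨y, hy⟩ := exists_qT_add_tr hm hF d
        have := hprod y
        rw [hk, hl, add_zero, mul_zero] at this
        exact one_ne_zero (hy.symm.trans this)
      · obtain ⟨y, hy⟩ := exists_qT_add_tr hm hF (d + c)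
        have := hprod y
        rw [hk, hl, add_zero, mul_one] at this
        simp only [G] at this
        rw [qT_coef_add] at hy
        have hchar : ∀ a b e : ZMod 2, a + e = b → a + b + e = 1 → False := by decide
        exact hchar _ _ _ this hy
    · push Not at hl
      obtain ⟨z, hz⟩ := hl
      have hz1 := (zmod_two_cases _).resolve_left hz
      refine not_isotropic hm2 hF hc l z hz1 fun x y hx hy => ?_
      have e1 := hGadd (x + y) z
      rw [hGadd x y, hprod (x + y + z), hprod x, hprod y, hprod z, qT_add, qT_add, bT_add',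
        bT_add', map_add, map_add, hx, hy, hz1] at e1
      have e2 := hGadd x y
      rw [hprod (x + y), hprod x, hprod y, qT_add, map_add, hx, hy] at e2
      have e3 := hGadd x z
      rw [hprod (x + z), hprod x, hprod z, qT_add, map_add, hx, hz1] at e3
      have e4 := hGadd y z
      rw [hprod (y + z), hprod y, hprod z, qT_add, map_add, hy, hz1] at e4
      have key : ∀ gr a b c' p q s u v w : ZMod 2,
          (a + b + p + c' + (q + s)) * (gr + (0 + 0 + 1)) =
              a * (gr + 0) + b * (gr + 0) + u + c' * (gr + 1) + (v + w) →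
          (a + b + p) * (gr + (0 + 0)) = a * (gr + 0) + b * (gr + 0) + u →
          (a + c' + q) * (gr + (0 + 1)) = a * (gr + 0) + c' * (gr + 1) + v →
          (b + c' + s) * (gr + (0 + 1)) = b * (gr + 0) + c' * (gr + 1) + w → p = 0 := by decide
      exact key _ _ _ _ _ _ _ _ _ _ e1 e2 e3 e4

/-- Some `u` has `Tr u = 1` and `Q_c(u) = 0`. -/
theorem exists_tr_one (hm : 1 ≤ m) (hF : Fintype.card F = 2 ^ (2 * m + 1)) {c : F} (hc : c ≠ 0) :
    ∃ u, fTr hF u = 1 ∧ qT hF c u = 0 := by
  rcases zmod_two_cases (fTr hF c) with hT | hT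
  · exact ⟨1, fTr_one hF, by rw [qT, th_one, mul_one, mul_one, hT]⟩
  · by_cases hm1 : m = 1
    · subst hm1
      obtain ⟨w, hw, hs5, -⟩ := eight_data hF
      by_contra! h
      have h0 : ∀ i : ℕ, qT hF c (w ^ 2 ^ i) = 1 := fun i =>
        (zmod_two_cases _).resolve_left (h _ (hw i).1)
      have a0 := h0 0
      have a1 := h0 1
      have a2 := h0 2
      norm_num at a0 a1 a2
      have hsum : qT hF c w + qT hF c (w ^ 2) + qT hF c (w ^ 4) = 0 := by
        simp only [qT, ← map_add, ← mul_add, hs5, mul_zero, map_zero]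
      rw [a0, a1, a2] at hsum
      exact absurd hsum (by decide)
    · by_contra! h
      refine not_isotropic (by omega) hF hc (fTr hF) 1 (fTr_one hF) fun x y hx hy => ?_
      have h0 : ∀ z, fTr hF z = 0 → qT hF c (z + 1) = 1 := fun z hz =>
        (zmod_two_cases _).resolve_left (h _ (by rw [map_add, hz, fTr_one, zero_add]))
      have e1 := h0 (x + y) (by rw [map_add, hx, hy, add_zero])
      have e2 := h0 x hx
      have e3 := h0 y hy
      have e4 := h0 0 (map_zero _)
      rw [qT_add, qT_add, bT_add'] at e1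
      rw [qT_add] at e2 e3
      rw [zero_add] at e4
      have key : ∀ a b p o r s : ZMod 2, a + b + p + o + (r + s) = 1 → a + o + r = 1 →
          b + o + s = 1 → o = 1 → p = 0 := by decide
      exact key _ _ _ _ _ _ e1 e2 e3 e4

end H57
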