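import Cfsg.Agent.H57.SzBinary
import Cfsg.Agent.H12.Linear
import Cfsg.Agent.H12.Induction
import Cfsg.Agent.H16.VChar
import Cfsg.Agent.H16.Inner
import Cfsg.Agent.H57.SzTraceForm

/-!
The principal series of the Suzuki group and the remaining (cuspidal) characters.
-/

set_option autoImplicit false
set_option linter.unusedSectionVars false

namespace H57

open Cfsg
open scoped ComplexConjugate

variable {F : Type*} [Field F] [Fintype F] {m : ℕ}

theorem tEl_one_zero_not_conj (hm : 1 ≤ m) (hF : Fintype.card F = 2 ^ (2 * m + 1)) :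
    ¬ IsConj (tEl (m := m) hF 1 0) (tEl hF 1 1) := by
  intro h
  obtain ⟨s, hs⟩ := isConj_iff.mp h
  have hfix : s • Cfsg.suzukiPointInfinity F = Cfsg.suzukiPointInfinity F :=
    tSub_ti hF (tEl_mem_tSub hF 1 1)
      (fun e => one_ne_zero (tEl_inj hF (e.trans (tEl_zero hF).symm)).1)
      ⟨1, 0, by rw [← hs]; group⟩
  obtain ⟨a, b, k, rfl⟩ := fix_infty hm hF s hfix
  have e : tEl hF a b * dEl hF k * tEl hF 1 0 * (tEl hF a b * dEl hF k)⁻¹ =
      tEl hF a b * tEl hF (k : F) 0 * (tEl hF a b)⁻¹ := by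
    rw [mul_assoc (tEl hF a b), dEl_tEl, mul_zero, mul_one, mul_inv_rev]
    group
  have hc := tSub_commutator_value hF a b (k : F) 0
  rw [commutatorElement_def] at hc
  have e2 : tEl hF a b * tEl hF (k : F) 0 * (tEl hF a b)⁻¹ =
      tEl hF 0 (th m a * k + th m (k : F) * a) * tEl hF (k : F) 0 := by
    rw [← hc, inv_mul_cancel_right]
  rw [e, e2, tEl_mul, th_zero, zero_mul, add_zero, add_zero, zero_add] at hs
  obtain ⟨h1, h2⟩ := tEl_inj hF hs
  rw [h1, th_one, one_mul, mul_one] at h2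
  have h3 : fTr (m := m) hF 1 = 0 := (fTr_range hF).mpr ⟨a, by rw [add_comm]; exact h2⟩
  rw [fTr_one] at h3
  exact one_ne_zero h3

/-- At least `q + 3` conjugacy classes. -/
theorem card_classes_ge (hm : 1 ≤ m) (hF : Fintype.card F = 2 ^ (2 * m + 1)) :
    2 ^ (2 * m + 1) + 3 ≤ Nat.card (ConjClasses (Cfsg.Sz F m)) := by
  classical
  choose g hg using fun t : Fˣ => exists_mtr (m := m) hF (t : F) t.ne_zero
  let uel : Fin 4 → Cfsg.Sz F m := ![1, tEl hF 0 1, tEl hF 1 0, tEl hF 1 1]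
  have h0 : ∀ i, mtr (uel i) = 0 := fun i => by
    fin_cases i
    · show mtr (1 : Cfsg.Sz F m) = 0
      rw [← tEl_zero hF, mtr_tEl]
    all_goals exact mtr_tEl hF _ _
  have hne : ∀ a b : F, (a ≠ 0 ∨ b ≠ 0) → tEl (m := m) hF a b ≠ 1 := fun a b h e => by
    obtain ⟨rfl, rfl⟩ := tEl_inj hF (e.trans (tEl_zero hF).symm)
    exact h.elim (· rfl) (· rfl)
  have hord : ∀ i, orderOf (uel i) = (![1, 2, 4, 4] : Fin 4 → ℕ) i := fun i => by
    fin_cases i
    · exact orderOf_one
    · exact orderOf_tEl_zero hF one_ne_zero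
    · exact orderOf_tEl_four hF one_ne_zero
    · exact orderOf_tEl_four hF one_ne_zero
  have hu : ∀ i j, IsConj (uel i) (uel j) → i = j := fun i j h => by
    have ho : orderOf (uel i) = orderOf (uel j) := by
      obtain ⟨c, hc⟩ := isConj_iff.mp h
      rw [← hc, orderOf_conj]
    rw [hord, hord] at ho
    fin_cases i <;> fin_cases j <;> first
      | rfl
      | (exfalso; simp at ho; done)
      | exact absurd h (tEl_one_zero_not_conj hm hF)
      | exact absurd h.symm (tEl_one_zero_not_conj hm hF)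
  have hinj : Function.Injective
      (Sum.elim (fun i => ConjClasses.mk (uel i)) (fun t => ConjClasses.mk (g t))) := by
    rintro (i | t) (j | u) h <;> simp only [Sum.elim_inl, Sum.elim_inr] at h <;>
      replace h := ConjClasses.mk_eq_mk_iff_isConj.mp h
    · rw [hu i j h]
    · have := mtr_isConj h
      rw [h0, (hg u).1] at this
      exact absurd this.symm u.ne_zero
    · have := mtr_isConj h
      rw [h0, (hg t).1] at this
      exact absurd this t.ne_zero
    · have := mtr_isConj h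
      rw [(hg t).1, (hg u).1] at this
      rw [Units.ext this]
  have h := Nat.card_le_card_of_injective _ hinj
  rw [Nat.card_sum, Nat.card_units, Nat.card_eq_fintype_card (α := Fin 4),
    Nat.card_eq_fintype_card (α := F), hF, Fintype.card_fin] at h
  have := Nat.one_le_two_pow (n := 2 * m + 1)
  omega

section Borel

/-- Decidable equality on the field, for `Fintype Fˣ`. -/
noncomputable local instance : DecidableEq F := Classical.decEq F

/-- The stabiliser of the point at infinity. -/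
noncomputable abbrev borel (F : Type*) [Field F] [Fintype F] (m : ℕ) : Subgroup (Cfsg.Sz F m) :=
  MulAction.stabilizer (Cfsg.Sz F m) (Cfsg.suzukiPointInfinity F)

theorem tEl_dEl_mem_borel (hF : Fintype.card F = 2 ^ (2 * m + 1)) (a b : F) (k : Fˣ) :
    tEl hF a b * dEl hF k ∈ borel F m := by
  rw [MulAction.mem_stabilizer_iff, mul_smul, dEl_infty, tEl_infty]

/-- Coordinates on the Borel subgroup. -/
noncomputable def borelCoord (hm : 1 ≤ m) (hF : Fintype.card F = 2 ^ (2 * m + 1)) :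
    (F × F) × Fˣ ≃ borel F m :=
  Equiv.ofBijective (fun p => ⟨tEl hF p.1.1 p.1.2 * dEl hF p.2, tEl_dEl_mem_borel hF _ _ _⟩) (by
    constructor
    · rintro ⟨⟨a, b⟩, k⟩ ⟨⟨c, d⟩, l⟩ h
      have h' : tEl hF a b * dEl hF k = tEl hF c d * dEl hF l := congrArg Subtype.val h
      have := congrArg (fun g : Cfsg.Sz F m => g • ovPt m (0 : F) 0) h'
      simp only [mul_smul, dEl_ovPt_zero, tEl_ovPt_zero] at this
      obtain ⟨rfl, rfl⟩ := ovPt_inj this
      obtain rfl : k = l := dHom_injective hF (mul_left_cancel h')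
      rfl
    · rintro ⟨g, hg⟩
      obtain ⟨a, b, k, rfl⟩ := fix_infty hm hF g hg
      exact ⟨((a, b), k), rfl⟩)

theorem borelCoord_coe (hm : 1 ≤ m) (hF : Fintype.card F = 2 ^ (2 * m + 1)) (a b : F) (k : Fˣ) :
    (borelCoord hm hF ((a, b), k) : Cfsg.Sz F m) = tEl hF a b * dEl hF k := rfl

theorem borelCoord_coe' (hm : 1 ≤ m) (hF : Fintype.card F = 2 ^ (2 * m + 1)) (p : F × F) (k : Fˣ) :
    (borelCoord hm hF (p, k) : Cfsg.Sz F m) = tEl hF p.1 p.2 * dEl hF k := rfl

/-- The projection of the Borel subgroup onto the torus. -/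
noncomputable def borelPr (hm : 1 ≤ m) (hF : Fintype.card F = 2 ^ (2 * m + 1)) :
    borel F m →* Fˣ :=
  MonoidHom.mk' (fun b => ((borelCoord hm hF).symm b).2) fun x y => by
    obtain ⟨⟨⟨a, b⟩, k⟩, rfl⟩ := (borelCoord hm hF).surjective x
    obtain ⟨⟨⟨c, d⟩, l⟩, rfl⟩ := (borelCoord hm hF).surjective y
    simp only [Equiv.symm_apply_apply]
    have e : borelCoord hm hF ((a, b), k) * borelCoord hm hF ((c, d), l) = borelCoord hm hF
        ((a + (k : F) * c, b + th m (k : F) * k * d + th m a * ((k : F) * c)), k * l) := by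
      apply Subtype.ext
      rw [Subgroup.coe_mul, borelCoord_coe, borelCoord_coe, borelCoord_coe, ← tEl_mul, ← dEl_mul,
        mul_assoc, ← mul_assoc (dEl hF k), dEl_tEl]
      group
    rw [e, Equiv.symm_apply_apply]

theorem borelPr_coord (hm : 1 ≤ m) (hF : Fintype.card F = 2 ^ (2 * m + 1)) (a b : F) (k : Fˣ) :
    borelPr hm hF (borelCoord hm hF ((a, b), k)) = k := by
  show ((borelCoord hm hF).symm (borelCoord hm hF ((a, b), k))).2 = k
  rw [Equiv.symm_apply_apply]

theorem borelPr_conj (hm : 1 ≤ m) (hF : Fintype.card F = 2 ^ (2 * m + 1)) (s b : borel F m) :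
    borelPr hm hF (s⁻¹ * b * s) = borelPr hm hF b := by
  rw [map_mul, map_mul, map_inv, mul_right_comm, inv_mul_cancel, one_mul]

/-- A linear character of the torus, inflated to the Borel subgroup. -/
noncomputable def borelChar (hm : 1 ≤ m) (hF : Fintype.card F = 2 ^ (2 * m + 1)) (l : Fˣ →* ℂˣ) :
    borel F m →* ℂˣ :=
  l.comp (borelPr hm hF)

/-- The principal series. -/
noncomputable def prin [Fintype (Cfsg.Sz F m)] (hm : 1 ≤ m) (hF : Fintype.card F = 2 ^ (2 * m + 1))
    (l : Fˣ →* ℂˣ) : Cfsg.Sz F m → ℂ :=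
  indFun (borel F m) (fun b => (borelChar hm hF l b : ℂ))

theorem card_borel_ne (hm : 1 ≤ m) (hF : Fintype.card F = 2 ^ (2 * m + 1)) :
    (Nat.card (borel F m) : ℂ) ≠ 0 := Nat.cast_ne_zero.mpr Nat.card_pos.ne'

theorem wEl_inv' (hF : Fintype.card F = 2 ^ (2 * m + 1)) : (wEl (m := m) hF)⁻¹ = wEl hF :=
  inv_eq_of_mul_eq_one_right (wEl_mul_self hF)

variable [Fintype (Cfsg.Sz F m)]

theorem card_filter_borel :
    open scoped Classical in
    (Finset.univ.filter fun x : Cfsg.Sz F m => x ∈ borel F m).card = Nat.card (borel F m) := by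
  classical
  rw [← Fintype.card_subtype, Nat.card_eq_fintype_card]

theorem prin_one (hm : 1 ≤ m) (hF : Fintype.card F = 2 ^ (2 * m + 1)) (l : Fˣ →* ℂˣ) :
    prin hm hF l 1 = ((2 : ℂ) ^ (2 * m + 1)) ^ 2 + 1 := by
  classical
  rw [prin, H12.indFun_one, map_one, Units.val_one, mul_one]
  have h := (borel F m).card_mul_index
  rw [card_stab_infty hm hF, card_sz hm hF] at h
  have hpos : 0 < (2 ^ (2 * m + 1)) ^ 2 * (2 ^ (2 * m + 1) - 1) := by
    rw [← card_stab_infty hm hF]; exact Nat.card_pos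
  have e : (borel F m).index = (2 ^ (2 * m + 1)) ^ 2 + 1 :=
    Nat.eq_of_mul_eq_mul_left hpos (by rw [h]; ring)
  rw [e]
  push_cast
  rfl

theorem dEl_fixed_pt (hF : Fintype.card F = 2 ^ (2 * m + 1)) {k : Fˣ} (hk : k ≠ 1)
    {p : Projectivization F (Fin 4 → F)} (hp : p ∈ Cfsg.suzukiOvoid F m)
    (h : dEl hF k • p = p) :
    p = Cfsg.suzukiPointInfinity F ∨ p = ovPt m (0 : F) 0 := by
  rcases mem_ovoid.mp hp with rfl | ⟨x, y, rfl⟩
  · exact Or.inl rfl
  right
  rw [dEl_ovPt] at h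
  obtain ⟨h1, h2⟩ := ovPt_inj h
  have hk' : (k : F) ≠ 1 := fun e => hk (Units.ext e)
  have hx : x = 0 := by
    by_contra hx
    exact hk' (mul_eq_right₀ hx |>.mp h1)
  have hy : y = 0 := by
    by_contra hy
    exact hk' (th_mul_self_eq_one hF (mul_eq_right₀ hy |>.mp h2))
  rw [hx, hy]

theorem prin_dEl (hm : 1 ≤ m) (hF : Fintype.card F = 2 ^ (2 * m + 1)) (l : Fˣ →* ℂˣ) {k : Fˣ}
    (hk : k ≠ 1) : prin hm hF l (dEl hF k) = (l k : ℂ) + (l k⁻¹ : ℂ) := by
  classical
  have hval : ∀ x : Cfsg.Sz F m,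
      extendByZero (borel F m) (fun b => (borelChar hm hF l b : ℂ)) (x⁻¹ * dEl hF k * x) =
        (if x ∈ borel F m then (l k : ℂ) else 0) +
          (if wEl hF * x ∈ borel F m then (l k⁻¹ : ℂ) else 0) := by
    intro x
    have key : ∀ (y : Cfsg.Sz F m) (hy : y ∈ borel F m) (j : Fˣ),
        extendByZero (borel F m) (fun b => (borelChar hm hF l b : ℂ)) (y⁻¹ * dEl hF j * y) =
          (l j : ℂ) := by
      intro y hy j
      have hD : dEl hF j ∈ borel F m := dEl_infty hF j
      rw [H12.extendByZero_mk _ _ (mul_mem (mul_mem (inv_mem hy) hD) hy)]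
      have e : (⟨_, mul_mem (mul_mem (inv_mem hy) hD) hy⟩ : borel F m) =
          (⟨y, hy⟩ : borel F m)⁻¹ * ⟨dEl hF j, hD⟩ * ⟨y, hy⟩ := rfl
      show ((borelChar hm hF l _ : ℂˣ) : ℂ) = _
      rw [e, borelChar, MonoidHom.comp_apply, borelPr_conj]
      have e2 : (⟨dEl hF j, hD⟩ : borel F m) = borelCoord hm hF ((0, 0), j) :=
        Subtype.ext (by rw [borelCoord_coe, tEl_zero, one_mul])
      rw [e2, borelPr_coord]
    by_cases h1 : x ∈ borel F m
    · have h2 : wEl hF * x ∉ borel F m := fun h => wEl_moves hF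
        (MulAction.mem_stabilizer_iff.mp ((mul_mem_cancel_right h1).mp h))
      rw [if_pos h1, if_neg h2, add_zero, key x h1]
    rw [if_neg h1, zero_add]
    by_cases h2 : wEl hF * x ∈ borel F m
    · rw [if_pos h2, ← key _ h2 k⁻¹]
      congr 1
      rw [← wEl_dEl, mul_inv_rev, wEl_inv']
      simp only [← mul_assoc]
      rw [mul_assoc x⁻¹ (wEl hF) (wEl hF), wEl_mul_self, mul_one, mul_assoc (x⁻¹ * dEl hF k),
        wEl_mul_self, mul_one]
    · rw [if_neg h2, H12.extendByZero_of_notMem]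
      intro hm'
      rw [MulAction.mem_stabilizer_iff, mul_smul, mul_smul, inv_smul_eq_iff] at hm'
      rcases dEl_fixed_pt hF hk (sz_smul_mem x infty_mem) hm' with h | h
      · exact h1 h
      · exact h2 (by rw [MulAction.mem_stabilizer_iff, mul_smul, h, wEl_ovPt_zero])
  have hcard2 : (Finset.univ.filter fun x : Cfsg.Sz F m => wEl hF * x ∈ borel F m).card =
      Nat.card (borel F m) := by
    rw [← card_filter_borel]
    exact Finset.card_equiv (Equiv.mulLeft (wEl hF)) fun x => by simp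
  rw [prin, H12.indFun_apply]
  simp only [hval, Finset.sum_add_distrib, ← Finset.sum_filter, Finset.sum_const, nsmul_eq_mul]
  rw [card_filter_borel, hcard2, ← mul_add, ← mul_assoc, inv_mul_cancel₀ (card_borel_ne hm hF),
    one_mul]

theorem prin_tEl (hm : 1 ≤ m) (hF : Fintype.card F = 2 ^ (2 * m + 1)) (l : Fˣ →* ℂˣ) {a b : F}
    (h : tEl (m := m) hF a b ≠ 1) : prin hm hF l (tEl hF a b) = 1 := by
  classical
  have hval : ∀ x : Cfsg.Sz F m,
      extendByZero (borel F m) (fun b => (borelChar hm hF l b : ℂ)) (x⁻¹ * tEl hF a b * x) =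
        (if x ∈ borel F m then (1 : ℂ) else 0) := by
    intro x
    have hT : tEl hF a b ∈ borel F m := tEl_infty hF a b
    by_cases h1 : x ∈ borel F m
    · rw [if_pos h1, H12.extendByZero_mk _ _ (mul_mem (mul_mem (inv_mem h1) hT) h1)]
      have e : (⟨_, mul_mem (mul_mem (inv_mem h1) hT) h1⟩ : borel F m) =
          (⟨x, h1⟩ : borel F m)⁻¹ * borelCoord hm hF ((a, b), 1) * ⟨x, h1⟩ :=
        Subtype.ext (by simp [borelCoord_coe, dEl_one])
      show ((borelChar hm hF l _ : ℂˣ) : ℂ) = _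
      rw [e, borelChar, MonoidHom.comp_apply, borelPr_conj, borelPr_coord, map_one, Units.val_one]
    · rw [if_neg h1, H12.extendByZero_of_notMem]
      intro hm'
      rw [MulAction.mem_stabilizer_iff, mul_smul, mul_smul, inv_smul_eq_iff] at hm'
      exact h1 (tEl_unique_fixed hF h (sz_smul_mem x infty_mem) hm')
  rw [prin, H12.indFun_apply]
  simp only [hval, ← Finset.sum_filter, Finset.sum_const, nsmul_eq_mul, mul_one]
  rw [card_filter_borel, inv_mul_cancel₀ (card_borel_ne hm hF)]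

theorem sum_tors (hm : 1 ≤ m) (hF : Fintype.card F = 2 ^ (2 * m + 1)) (f : borel F m → ℂ)
    [Fintype (borel F m)] :
    ∑ x, f x = ∑ k : Fˣ, ∑ p : F × F, f (borelCoord hm hF (p, k)) := by
  classical
  rw [← Finset.sum_comm, ← Fintype.sum_prod_type']
  exact (Fintype.sum_equiv (borelCoord hm hF) _ _ fun p => rfl).symm

theorem classFun_coord (hm : 1 ≤ m) (hF : Fintype.card F = 2 ^ (2 * m + 1)) {χ : Cfsg.Sz F m → ℂ}
    (hχ : IsClassFunction _ χ) {k : Fˣ} (hk : k ≠ 1) (a b : F) :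
    χ (tEl hF a b * dEl hF k) = χ (dEl hF k) := by
  obtain ⟨c, d, h⟩ := exists_conj_diag (m := m) hF a b hk
  rw [← hχ (tEl hF a b * dEl hF k) (tEl hF c d), h]

theorem prin_inner (hm : 1 ≤ m) (hF : Fintype.card F = 2 ^ (2 * m + 1)) (l μ : Fˣ →* ℂˣ) :
    classInner (prin hm hF l) (prin hm hF μ) =
      classInner (fun k => (l k : ℂ)) (fun k => (μ k : ℂ)) +
        classInner (fun k => (l k : ℂ)) (fun k => (μ⁻¹ k : ℂ)) := by
  classical
  have hcf : IsClassFunction _ (prin hm hF μ) := H12.indFun_isClassFunction _ _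
  rw [prin, H12.classInner_indFun _ _ (by exact hcf), H12.classInner_def, H12.classInner_def,
    H12.classInner_def, sum_tors hm hF, ← mul_add, ← Finset.sum_add_distrib]
  have hq : ((Fintype.card (F × F) : ℕ) : ℂ) ≠ 0 := Nat.cast_ne_zero.mpr Fintype.card_ne_zero
  have hinner : ∀ k : Fˣ, ∑ p : F × F, conj (prin hm hF μ (borelCoord hm hF (p, k))) =
      (Fintype.card (F × F) : ℂ) * (conj (μ k : ℂ) + conj ((μ⁻¹ k : ℂˣ) : ℂ)) := by
    intro k
    rcases eq_or_ne k 1 with rfl | hk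
    · have e : ∀ p : F × F, conj (prin hm hF μ (borelCoord hm hF (p, 1))) =
          if p = 0 then ((2 : ℂ) ^ (2 * m + 1)) ^ 2 + 1 else 1 := by
        rintro ⟨a, b⟩
        rw [borelCoord_coe, dEl_one, mul_one]
        split_ifs with h
        · simp only [Prod.mk_eq_zero] at h
          obtain ⟨rfl, rfl⟩ := h
          rw [tEl_zero, prin_one]
          simp [map_ofNat]
        · rw [prin_tEl hm hF μ (fun e => h (by
            obtain ⟨rfl, rfl⟩ := tEl_inj hF (e.trans (tEl_zero hF).symm)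
            rfl)), map_one]
      simp only [e, Finset.sum_ite, Finset.filter_eq', Finset.mem_univ, if_true,
        Finset.card_singleton, Nat.cast_one, one_mul, Finset.sum_const, nsmul_eq_mul, mul_one, map_one, Units.val_one]
      rw [Finset.filter_ne', Finset.card_erase_of_mem (Finset.mem_univ _), Finset.card_univ,
        Nat.cast_sub Fintype.card_pos]
      have : ((Fintype.card (F × F) : ℕ) : ℂ) = ((2 : ℂ) ^ (2 * m + 1)) ^ 2 := by
        rw [Fintype.card_prod, hF]; push_cast; ring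
      rw [this]
      push_cast
      ring
    · simp only [borelCoord_coe', classFun_coord hm hF hcf hk, Finset.sum_const, Finset.card_univ,
        nsmul_eq_mul, prin_dEl hm hF μ hk, map_add, MonoidHom.inv_apply, map_inv]
  have hB : (Nat.card (borel F m) : ℂ) = (Fintype.card (F × F) : ℂ) * (Nat.card Fˣ : ℂ) := by
    rw [← Nat.card_congr (borelCoord hm hF), Nat.card_prod, Nat.card_eq_fintype_card (α := F × F)]
    push_cast
    rfl
  have hne : (Nat.card Fˣ : ℂ) ≠ 0 := Nat.cast_ne_zero.mpr Nat.card_pos.ne'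
  rw [hB, Finset.mul_sum, Finset.mul_sum]
  refine Finset.sum_congr rfl fun k _ => ?_
  have e : ∀ p : F × F, (borelChar hm hF l (borelCoord hm hF (p, k)) : ℂ) = (l k : ℂ) := fun p => by
    rw [borelChar, MonoidHom.comp_apply, borelPr_coord]
  simp only [e, ← Finset.mul_sum, hinner]
  generalize (l k : ℂ) = x
  generalize conj (μ k : ℂ) = y
  generalize conj ((μ⁻¹ k : ℂˣ) : ℂ) = z
  generalize (Fintype.card (F × F) : ℂ) = Q at hq ⊢
  generalize (Nat.card Fˣ : ℂ) = M at hne ⊢
  field_simp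

theorem inner_lin [DecidableEq (Fˣ →* ℂˣ)] (l μ : Fˣ →* ℂˣ) :
    classInner (fun k => (l k : ℂ)) (fun k => (μ k : ℂ)) = if l = μ then 1 else 0 := by
  by_cases h : l = μ
  · subst h
    rw [if_pos rfl]
    exact H12.classInner_irr_self (H12.linIrr l)
  · rw [if_neg h]
    exact H12.classInner_irr_ne (χ := H12.linIrr l) (ψ := H12.linIrr μ)
      (fun e => h (H12.linIrr_injective e))

theorem prin_isCharacter (hm : 1 ≤ m) (hF : Fintype.card F = 2 ^ (2 * m + 1)) (l : Fˣ →* ℂˣ) :
    IsCharacter _ (prin hm hF l) :=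
  H12.IsCharacter.indFun (H12.isCharacter_monoidHom (borelChar hm hF l))

theorem units_sq_surjective (hF : Fintype.card F = 2 ^ (2 * m + 1)) (k : Fˣ) :
    ∃ j : Fˣ, j ^ 2 = k := by
  refine ⟨k ^ 2 ^ (2 * m), Units.ext ?_⟩
  rw [← pow_mul, ← pow_succ, Units.val_pow_eq_pow_val, ← hF, FiniteField.pow_card]

theorem lin_inv_ne (hF : Fintype.card F = 2 ^ (2 * m + 1)) {l : Fˣ →* ℂˣ} (hl : l ≠ 1) :
    l⁻¹ ≠ l := fun h => hl (MonoidHom.ext fun k => by
  obtain ⟨j, rfl⟩ := units_sq_surjective hF k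
  have := congrArg (fun f : Fˣ →* ℂˣ => f j) h
  simp only [MonoidHom.inv_apply] at this
  rw [map_pow, MonoidHom.one_apply, sq, ← eq_inv_iff_mul_eq_one, this])

theorem lin_inv_ne_one {l : Fˣ →* ℂˣ} (hl : l ≠ 1) : l⁻¹ ≠ 1 := fun h =>
  hl (MonoidHom.ext fun k => by simpa using DFunLike.congr_fun h k)

theorem prin_irr (hm : 1 ≤ m) (hF : Fintype.card F = 2 ^ (2 * m + 1)) {l : Fˣ →* ℂˣ}
    (hl : l ≠ 1) : IsIrrCharacter _ (prin hm hF l) := by
  classical
  refine H12.isIrrCharacter_of_classInner_self_eq_one (prin_isCharacter hm hF l) ?_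
  rw [prin_inner, inner_lin, inner_lin, if_pos rfl, if_neg (lin_inv_ne hF hl).symm, add_zero]

theorem prin_sub_one_irr (hm : 1 ≤ m) (hF : Fintype.card F = 2 ^ (2 * m + 1)) :
    IsIrrCharacter _ (prin hm hF 1 - fun _ => (1 : ℂ)) := by
  classical
  set θ := prin hm hF 1 - fun _ => (1 : ℂ)
  have hg : IsGeneralizedCharacter _ θ :=
    ⟨_, _, prin_isCharacter hm hF 1, H12.isCharacter_one, rfl⟩
  have h1 : classInner (prin hm hF 1) (fun _ => (1 : ℂ)) = 1 := by
    rw [prin, H12.classInner_indFun _ _ (fun _ _ => rfl), H12.classInner_def]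
    simp [borelChar]
    exact inv_mul_cancel₀ (Nat.cast_ne_zero.mpr
      (Fintype.card_pos_iff.mpr ⟨⟨1, one_smul _ _⟩⟩).ne')
  have h2 : classInner (fun _ : Cfsg.Sz F m => (1 : ℂ)) (fun _ => 1) = 1 :=
    H16.ci_irr_self H12.isIrrCharacter_one
  have hn : classInner θ θ = 1 := by
    rw [H12.classInner_sub_left, H12.classInner_sub_right, H12.classInner_sub_right,
      ← H12.conj_classInner (prin hm hF 1) (fun _ => (1 : ℂ)), h1, h2, prin_inner, inner_lin,
      inner_lin, if_pos rfl, if_pos (by ext; simp), map_one]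
    ring
  refine (H16.norm_one hg hn).resolve_right fun h => ?_
  obtain ⟨d, hd⟩ := H12.IsCharacter.apply_one (H12.isCharacter_of_isIrrCharacter h)
  simp only [θ, Pi.neg_apply, Pi.sub_apply, prin_one, add_sub_cancel_right] at hd
  have : (((2 ^ (2 * m + 1)) ^ 2 + d : ℕ) : ℂ) = 0 := by
    push_cast
    linear_combination -hd
  have := Nat.cast_eq_zero.mp this
  have : 0 < (2 ^ (2 * m + 1)) ^ 2 := by positivity
  omega

/-- The Steinberg character. -/
noncomputable def stein (hm : 1 ≤ m) (hF : Fintype.card F = 2 ^ (2 * m + 1)) :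
    IrrCharacter (Cfsg.Sz F m) := ⟨_, prin_sub_one_irr hm hF⟩

theorem degree_eq_of_apply_one {G : Type*} [Group G] (χ : IrrCharacter G) {n : ℕ}
    (h : (χ : G → ℂ) 1 = n) : H12.degree (χ : G → ℂ) = n := by
  rw [H12.irr_apply_one] at h
  exact_mod_cast h

theorem degree_stein (hm : 1 ≤ m) (hF : Fintype.card F = 2 ^ (2 * m + 1)) :
    H12.degree (stein hm hF : Cfsg.Sz F m → ℂ) = (2 ^ (2 * m + 1)) ^ 2 := by
  refine degree_eq_of_apply_one _ ?_
  show prin hm hF 1 1 - (1 : ℂ) = _
  rw [prin_one]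
  push_cast
  ring

/-- An irreducible character vanishing on the nontrivial split torus has degree divisible by
`q - 1`. -/
theorem torus_dvd_degree (hF : Fintype.card F = 2 ^ (2 * m + 1)) (χ : IrrCharacter (Cfsg.Sz F m))
    (h : ∀ k : Fˣ, k ≠ 1 → (χ : Cfsg.Sz F m → ℂ) (dEl hF k) = 0) :
    2 ^ (2 * m + 1) - 1 ∣ H12.degree (χ : Cfsg.Sz F m → ℂ) := by
  classical
  obtain ⟨n, hn⟩ := H12.IsCharacter.classInner_nat
    (H12.IsCharacter.comp (H12.isCharacter_irr χ) (dHom (m := m) hF))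
    (H12.isCharacter_one (G := Fˣ))
  refine ⟨n, ?_⟩
  rw [H12.classInner_def, Finset.sum_eq_single (1 : Fˣ) (fun k _ hk => by simp [h k hk]) (by simp),
    Function.comp_apply, map_one, H12.irr_apply_one, map_one, mul_one,
    inv_mul_eq_iff_eq_mul₀ (Nat.cast_ne_zero.mpr Nat.card_pos.ne'), Nat.card_units,
    Nat.card_eq_fintype_card, hF] at hn
  exact_mod_cast hn

/-- Characters outside the principal series vanish on the split torus. -/
theorem cusp_vanish (hm : 1 ≤ m) (hF : Fintype.card F = 2 ^ (2 * m + 1))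
    (χ : IrrCharacter (Cfsg.Sz F m)) (hχ : ∀ l, classInner (prin hm hF l) χ = 0) {k : Fˣ}
    (hk : k ≠ 1) : (χ : Cfsg.Sz F m → ℂ) (dEl hF k) = 0 := by
  classical
  let g : Fˣ → ℂ := fun j => ∑ p : F × F, (χ : Cfsg.Sz F m → ℂ) (borelCoord hm hF (p, j))
  have hg : g = 0 := by
    refine H12.eq_zero_of_classInner_irr_eq_zero (fun a b => by rw [mul_inv_cancel_comm]) ?_
    intro φ
    obtain ⟨l, hl⟩ := H12.exists_monoidHom_of_apply_one_eq_one (H12.isCharacter_irr φ)
      (H12.irr_apply_one_of_comm mul_comm φ)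
    have h := hχ l
    rw [prin, H12.classInner_indFun _ _ (H12.irr_isClassFunction χ), H12.classInner_def, sum_tors hm hF,
      mul_eq_zero, or_iff_right (inv_ne_zero (card_borel_ne hm hF))] at h
    have e : ∀ (j : Fˣ) (p : F × F), (borelChar hm hF l (borelCoord hm hF (p, j)) : ℂ) = (l j : ℂ) :=
      fun j p => by rw [borelChar, MonoidHom.comp_apply, borelPr_coord]
    simp only [e, ← Finset.mul_sum, ← map_sum] at h
    have h' := congrArg conj h
    simp only [map_sum, map_mul, Complex.conj_conj, map_zero] at h'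
    have hfun : (φ : Fˣ → ℂ) = fun j => (l j : ℂ) := hl.symm
    rw [H12.classInner_def, hfun]
    simp only [g, mul_comm _ (conj (l _ : ℂ))]
    rw [h', mul_zero]
  have h := congrFun hg k
  simp only [g, borelCoord_coe', classFun_coord hm hF (H12.irr_isClassFunction χ) hk,
    Finset.sum_const, Finset.card_univ, nsmul_eq_mul, Pi.zero_apply, mul_eq_zero] at h
  exact h.resolve_left (Nat.cast_ne_zero.mpr Fintype.card_ne_zero)

theorem card_lin (hF : Fintype.card F = 2 ^ (2 * m + 1)) :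
    Nat.card (Fˣ →* ℂˣ) = 2 ^ (2 * m + 1) - 1 := by
  rw [H12.card_monoidHom_units,
    show (commutator Fˣ).index = Nat.card (Abelianization Fˣ) from rfl,
    ← Nat.card_congr Abelianization.equivOfComm.toEquiv, Nat.card_units, Nat.card_eq_fintype_card, hF]

/-- The characters of the principal series and the cuspidal rest. -/
theorem exists_cuspidal (hm : 1 ≤ m) (hF : Fintype.card F = 2 ^ (2 * m + 1)) :
    ∃ C : Finset (IrrCharacter (Cfsg.Sz F m)),
      (∀ χ ∈ C, 2 ^ (2 * m + 1) - 1 ∣ H12.degree (χ : Cfsg.Sz F m → ℂ)) ∧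
      2 ^ (2 * m) + 2 ≤ C.card ∧
      2 * ∑ χ ∈ C, H12.degree (χ : Cfsg.Sz F m → ℂ) ^ 2 =
        (2 ^ (2 * m + 1) - 1) ^ 2 * (2 ^ (2 * m + 1) * ((2 ^ (2 * m + 1)) ^ 2 - 1)) ∧
      (H12.oneIrr (Cfsg.Sz F m) ∉ C ∧ stein hm hF ∉ C) ∧
      (∀ χ ∉ C, χ = H12.oneIrr (Cfsg.Sz F m) ∨ χ = stein hm hF ∨
        H12.degree (χ : Cfsg.Sz F m → ℂ) = (2 ^ (2 * m + 1)) ^ 2 + 1) ∧
      ∃ χ : IrrCharacter (Cfsg.Sz F m),
        H12.degree (χ : Cfsg.Sz F m → ℂ) = (2 ^ (2 * m + 1)) ^ 2 + 1 := by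
  classical
  haveI : Finite (Fˣ →* ℂˣ) := Nat.finite_of_card_ne_zero (by
    rw [H12.card_monoidHom_units]; exact Subgroup.index_ne_zero_of_finite)
  haveI := Fintype.ofFinite (Fˣ →* ℂˣ)
  set S : Finset (Fˣ →* ℂˣ) := Finset.univ.erase 1 with hS
  let ξ : {l // l ∈ S} → IrrCharacter (Cfsg.Sz F m) := fun l =>
    ⟨_, prin_irr hm hF (Finset.ne_of_mem_erase l.2)⟩
  set P := (Finset.univ : Finset {l // l ∈ S}).image ξ with hP
  have hdegP : ∀ χ ∈ P, H12.degree (χ : Cfsg.Sz F m → ℂ) = (2 ^ (2 * m + 1)) ^ 2 + 1 := by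
    intro χ hχ
    obtain ⟨l, -, rfl⟩ := Finset.mem_image.mp hχ
    refine degree_eq_of_apply_one _ ?_
    show prin hm hF l.1 1 = _
    rw [prin_one]
    push_cast
    rfl
  have hfib : ∀ χ ∈ P, ((Finset.univ : Finset {l // l ∈ S}).filter fun l => ξ l = χ).card = 2 := by
    intro χ hχ
    obtain ⟨l, -, rfl⟩ := Finset.mem_image.mp hχ
    have hl1 : l.1 ≠ 1 := Finset.ne_of_mem_erase l.2
    have hl' : (l.1)⁻¹ ∈ S := Finset.mem_erase.mpr ⟨lin_inv_ne_one hl1, Finset.mem_univ _⟩
    rw [Finset.card_eq_two]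
    refine ⟨l, ⟨_, hl'⟩, fun e => lin_inv_ne hF hl1 (congrArg Subtype.val e).symm, ?_⟩
    ext j
    simp only [Finset.mem_filter, Finset.mem_univ, true_and, Finset.mem_insert,
      Finset.mem_singleton]
    constructor
    · intro e
      have h := prin_inner hm hF j.1 l.1
      have e' : prin hm hF j.1 = prin hm hF l.1 := congrArg Subtype.val e
      rw [e', H16.ci_irr_self (prin_irr hm hF hl1), inner_lin, inner_lin] at h
      by_cases h1 : j.1 = l.1
      · exact Or.inl (Subtype.ext h1)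
      · by_cases h2 : j.1 = (l.1)⁻¹
        · exact Or.inr (Subtype.ext h2)
        · rw [if_neg h1, if_neg h2, add_zero] at h
          exact absurd h one_ne_zero
    · rintro (rfl | rfl)
      · rfl
      · apply Subtype.ext
        show prin hm hF (l.1)⁻¹ = prin hm hF l.1
        have hil : (l.1)⁻¹ ≠ 1 := lin_inv_ne_one hl1
        have h := prin_inner hm hF (l.1)⁻¹ l.1
        rw [inner_lin, inner_lin, if_neg (lin_inv_ne hF hl1), if_pos rfl, zero_add] at h
        by_contra hne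
        rw [H16.ci_irr_ne (prin_irr hm hF hil) (prin_irr hm hF hl1) hne] at h
        exact zero_ne_one h
  have hcard : 2 * P.card = 2 ^ (2 * m + 1) - 2 := by
    have h := Finset.card_eq_sum_card_image ξ Finset.univ
    rw [← hP, Finset.sum_congr rfl hfib, Finset.sum_const, smul_eq_mul, Finset.card_univ,
      Fintype.card_coe, hS, Finset.card_erase_of_mem (Finset.mem_univ _), Finset.card_univ,
      ← Nat.card_eq_fintype_card, card_lin hF] at h
    omega
  have hq : 8 ≤ 2 ^ (2 * m + 1) := by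
    have : 2 ^ 3 ≤ 2 ^ (2 * m + 1) := Nat.pow_le_pow_right (by norm_num) (by omega)
    omega
  have hone : H12.degree (H12.oneIrr (Cfsg.Sz F m) : Cfsg.Sz F m → ℂ) = 1 :=
    degree_eq_of_apply_one _ (by simp [H12.oneIrr])
  have hst := degree_stein hm hF
  set N := insert (H12.oneIrr (Cfsg.Sz F m)) (insert (stein hm hF) P) with hN
  have h64 : 64 ≤ (2 ^ (2 * m + 1)) ^ 2 := by
    calc 64 = 8 ^ 2 := by norm_num
      _ ≤ _ := Nat.pow_le_pow_left hq 2
  have hn1 : stein hm hF ∉ P := fun h => by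
    have := hdegP _ h
    omega
  have hn0 : H12.oneIrr (Cfsg.Sz F m) ∉ insert (stein hm hF) P := fun h => by
    rcases Finset.mem_insert.mp h with h | h
    · rw [← h, hone] at hst
      omega
    · have := hdegP _ h
      omega
  refine ⟨Finset.univ \ N, fun χ hχ => ?_, ?_, ?_, ⟨by simp [hN], by simp [hN]⟩, fun χ hχ => ?_, ?_⟩
  · have hχN : χ ∉ N := (Finset.mem_sdiff.mp hχ).2
    simp only [hN, Finset.mem_insert, not_or] at hχN
    refine torus_dvd_degree hF χ fun k hk => cusp_vanish hm hF χ (fun l => ?_) hk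
    by_cases hl : l = 1
    · subst hl
      have h1 : classInner ((stein hm hF : Cfsg.Sz F m → ℂ)) χ = 0 :=
        H12.classInner_irr_ne (Ne.symm hχN.2.1)
      have h2 : classInner ((H12.oneIrr (Cfsg.Sz F m) : Cfsg.Sz F m → ℂ)) χ = 0 :=
        H12.classInner_irr_ne (Ne.symm hχN.1)
      have e : prin hm hF 1 = (stein hm hF : Cfsg.Sz F m → ℂ) + (H12.oneIrr (Cfsg.Sz F m) : Cfsg.Sz F m → ℂ) := by
        funext g
        show _ = (prin hm hF 1 g - 1) + 1
        ring
      rw [e, H12.classInner_add_left, h1, h2, add_zero]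
    · refine H16.ci_irr_ne (prin_irr hm hF hl) χ.2 fun e => hχN.2.2 ?_
      exact Finset.mem_image.mpr ⟨⟨l, Finset.mem_erase.mpr ⟨hl, Finset.mem_univ _⟩⟩,
        Finset.mem_univ _, Subtype.ext e⟩
  · rw [Finset.card_univ_sdiff, hN, Finset.card_insert_of_notMem hn0,
      Finset.card_insert_of_notMem hn1, ← Nat.card_eq_fintype_card, H12.card_irrCharacter]
    have := card_classes_ge hm hF
    rw [pow_succ] at this hcard
    omega
  · have h := H12.sum_degree_sq_nat (G := Cfsg.Sz F m)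
    rw [← Finset.sum_sdiff (Finset.subset_univ N), card_sz hm hF, hN,
      Finset.sum_insert hn0, Finset.sum_insert hn1,
      Finset.sum_congr (s₁ := P) rfl fun χ hχ => by rw [hdegP χ hχ], Finset.sum_const, smul_eq_mul, hone,
      hst, ← hN] at h
    generalize ∑ χ ∈ Finset.univ \ N, H12.degree (χ : Cfsg.Sz F m → ℂ) ^ 2 = S' at h ⊢
    generalize 2 ^ (2 * m + 1) = q at h hcard hq h64 ⊢
    have h1 : 1 ≤ q := by omega
    have h2 : 1 ≤ q ^ 2 := by omega
    zify [h1, h2, show 2 ≤ q by omega] at h hcard ⊢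
    linear_combination 2 * h - (↑q ^ 2 + 1) ^ 2 * hcard
  · have hχN : χ ∈ N := by simpa using hχ
    simp only [hN, Finset.mem_insert] at hχN
    exact hχN.imp_right (fun h => h.imp_right (hdegP χ))
  · obtain ⟨χ, hχ⟩ := Finset.card_pos.mp (show 0 < P.card by omega)
    exact ⟨χ, hdegP χ hχ⟩

end Borel

end H57
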