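import Cfsg.Agent.H57.SzTwo
import Cfsg.Agent.H57.SzSemilinear

/-!
Automorphisms of the Sylow `2`-subgroup `{T(a,b)}` of a Suzuki group.
-/

set_option autoImplicit false

namespace H57

variable {F : Type*} [Field F] [Fintype F] {m : ℕ}

/-- Coordinates on the unipotent subgroup. -/
noncomputable def tCoord (hF : Fintype.card F = 2 ^ (2 * m + 1)) : F × F ≃ tSub (m := m) hF :=
  Equiv.ofBijective (fun p => ⟨tEl hF p.1 p.2, tEl_mem_tSub hF _ _⟩) (by
    constructor
    · rintro ⟨a, b⟩ ⟨c, d⟩ h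
      obtain ⟨rfl, rfl⟩ := tEl_inj hF (congrArg Subtype.val h)
      rfl
    · rintro ⟨_, a, b, rfl⟩
      exact ⟨(a, b), rfl⟩)

theorem coe_tCoord (hF : Fintype.card F = 2 ^ (2 * m + 1)) (a b : F) :
    (tCoord (m := m) hF (a, b) : Cfsg.Sz F m) = tEl hF a b := rfl

theorem tCoord_mul (hF : Fintype.card F = 2 ^ (2 * m + 1)) (a b c d : F) :
    tCoord (m := m) hF (a, b) * tCoord hF (c, d) = tCoord hF (a + c, b + d + th m a * c) :=
  Subtype.ext (tEl_mul hF a b c d)

theorem tCoord_zero (hF : Fintype.card F = 2 ^ (2 * m + 1)) :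
    tCoord (m := m) hF (0, 0) = 1 := Subtype.ext (tEl_zero hF)

theorem tCoord_mem_center (hm : 1 ≤ m) (hF : Fintype.card F = 2 ^ (2 * m + 1)) (a b : F) :
    tCoord (m := m) hF (a, b) ∈ Subgroup.center (tSub (m := m) hF) ↔ a = 0 := by
  rw [center_tSub hm hF]
  refine ⟨fun ⟨d, hd⟩ => (tEl_inj hF ((coe_tCoord hF a b).symm.trans hd)).1, ?_⟩
  rintro rfl
  exact ⟨b, coe_tCoord hF 0 b⟩

/-- The map on coordinates of a semilinear automorphism of the unipotent subgroup. -/
def sylMap (m : ℕ) (p : Fˣ × (F ≃+* F) × (F →+ F)) (x : F × F) : F × F :=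
  ((p.1 : F) * p.2.1 x.1, th m (p.1 : F) * (p.1 : F) * p.2.1 x.2 + p.2.2 x.1)

omit [Fintype F] in
theorem sylMap_injective (p : Fˣ × (F ≃+* F) × (F →+ F)) : Function.Injective (sylMap m p) := by
  obtain ⟨k, σ, h⟩ := p
  rintro ⟨a, b⟩ ⟨c, d⟩ e
  simp only [sylMap, Prod.mk.injEq] at e
  obtain ⟨e1, e2⟩ := e
  obtain rfl : a = c := σ.injective (mul_left_cancel₀ k.ne_zero e1)
  rw [σ.injective (mul_left_cancel₀ (mul_ne_zero (mt th_eq_zero.mp k.ne_zero) k.ne_zero)
    (add_right_cancel e2))]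

/-- The automorphism `T(a,b) ↦ T(k σ a, θk k σ b + h a)`. -/
noncomputable def sylAut (hF : Fintype.card F = 2 ^ (2 * m + 1))
    (p : Fˣ × (F ≃+* F) × (F →+ F)) : MulAut (tSub (m := m) hF) where
  toEquiv := ((tCoord hF).symm.trans (Equiv.ofBijective _ (Finite.injective_iff_bijective.mp
    (sylMap_injective (m := m) p)))).trans (tCoord hF)
  map_mul' := by
    intro x y
    obtain ⟨⟨a, b⟩, rfl⟩ := (tCoord hF).surjective x
    obtain ⟨⟨c, d⟩, rfl⟩ := (tCoord hF).surjective y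
    simp only [Equiv.toFun_as_coe, Equiv.trans_apply, Equiv.symm_apply_apply, tCoord_mul,
      Equiv.ofBijective_apply, sylMap, map_add, map_mul, th_mul, galAut_commute_th]
    congr 2 <;> ring

theorem sylAut_apply (hF : Fintype.card F = 2 ^ (2 * m + 1)) (k : Fˣ) (σ : F ≃+* F) (h : F →+ F)
    (a b : F) : sylAut (m := m) hF (k, σ, h) (tCoord hF (a, b)) =
      tCoord hF ((k : F) * σ a, th m (k : F) * k * σ b + h a) := by
  show tCoord hF (sylMap m (k, σ, h) ((tCoord hF).symm (tCoord hF (a, b)))) = _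
  rw [Equiv.symm_apply_apply]
  rfl

theorem exists_sylAut (hm : 1 ≤ m) (hF : Fintype.card F = 2 ^ (2 * m + 1))
    (ψ : MulAut (tSub (m := m) hF)) : ∃ p, sylAut hF p = ψ := by
  set u := tCoord (m := m) hF
  let L : F → F := fun a => (u.symm (ψ (u (a, 0)))).1
  let h0 : F → F := fun a => (u.symm (ψ (u (a, 0)))).2
  let M : F → F := fun b => (u.symm (ψ (u (0, b)))).2
  have hA : ∀ a, ψ (u (a, 0)) = u (L a, h0 a) := fun a => (u.apply_symm_apply _).symm
  have hB : ∀ b, ψ (u (0, b)) = u (0, M b) := by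
    intro b
    obtain ⟨⟨z, w⟩, hzw⟩ := u.surjective (ψ (u (0, b)))
    have hz : z = 0 := by
      rw [← tCoord_mem_center hm hF z w, hzw, Subgroup.mem_center_iff]
      intro g
      obtain ⟨g, rfl⟩ := ψ.surjective g
      rw [← map_mul, ← map_mul, Subgroup.mem_center_iff.mp ((tCoord_mem_center hm hF 0 b).mpr rfl) g]
    subst hz
    have : M b = w := by simp only [M, ← hzw, u.symm_apply_apply]
    rw [this, hzw]
  have hval : ∀ a b, ψ (u (a, b)) = u (L a, h0 a + M b) := by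
    intro a b
    have e : u (a, b) = u (a, 0) * u (0, b) := by simp [u, tCoord_mul]
    rw [e, map_mul, hA, hB]
    simp [u, tCoord_mul]
  have hMadd : ∀ b d, M (b + d) = M b + M d := by
    intro b d
    have e : ψ (u (0, b + d)) = ψ (u (0, b)) * ψ (u (0, d)) := by
      rw [← map_mul]; simp [u, tCoord_mul]
    rw [hB, hB, hB, tCoord_mul] at e
    simpa using u.injective e
  have hpair : ∀ a c, L (a + c) = L a + L c ∧
      h0 (a + c) + M (th m a * c) = h0 a + h0 c + th m (L a) * L c := by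
    intro a c
    have e : ψ (u (a + c, th m a * c)) = ψ (u (a, 0)) * ψ (u (c, 0)) := by
      rw [← map_mul]; simp [u, tCoord_mul]
    rw [hval, hA, hA, tCoord_mul] at e
    simpa using u.injective e
  have h00 : h0 0 = 0 := by
    have : ψ (u (0, 0)) = u (0, 0) := by rw [tCoord_zero, map_one]
    simp only [h0, this, u.symm_apply_apply]
  have hsq : ∀ x, M (th m x * x) = th m (L x) * L x := by
    intro x
    have e := (hpair x x).2
    rw [add_self_zero hF, add_self_zero hF, h00] at e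
    simpa using e
  obtain ⟨k, σ, hk⟩ := additive_semilinear hm hF (AddMonoidHom.mk' L fun a c => (hpair a c).1)
    (AddMonoidHom.mk' M hMadd) hsq
  simp only [AddMonoidHom.mk'_apply] at hk
  have hk0 : k ≠ 0 := by
    rintro rfl
    obtain ⟨g, hg⟩ := ψ.surjective (u (1, 0))
    obtain ⟨⟨a, b⟩, rfl⟩ := u.surjective g
    rw [hval, hk, zero_mul] at hg
    exact zero_ne_one (congrArg Prod.fst (u.injective hg))
  have hM : ∀ b, M b = th m k * k * σ b := by
    intro b
    obtain ⟨x, rfl⟩ := (th_mul_self_bij (m := m) hF).2 b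
    simp only
    rw [hsq, hk, th_mul, map_mul, galAut_commute_th]
    ring
  refine ⟨(Units.mk0 k hk0, σ, AddMonoidHom.mk' h0 fun a c => ?_), MulEquiv.ext fun g => ?_⟩
  · have e := (hpair a c).2
    rw [hM, hk, hk, map_mul, galAut_commute_th, th_mul] at e
    linear_combination e
  · obtain ⟨⟨a, b⟩, rfl⟩ := u.surjective g
    rw [hval, sylAut_apply, hk, hM, Units.val_mk0, AddMonoidHom.mk'_apply, add_comm (h0 a)]

theorem sylAut_injective (hF : Fintype.card F = 2 ^ (2 * m + 1)) :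
    Function.Injective (sylAut (m := m) hF) := by
  rintro ⟨k, σ, h⟩ ⟨l, τ, h'⟩ e
  have e' : ∀ a b : F, ((k : F) * σ a, th m (k : F) * k * σ b + h a) =
      ((l : F) * τ a, th m (l : F) * l * τ b + h' a) := fun a b =>
    (tCoord (m := m) hF).injective (by
      rw [← sylAut_apply, ← sylAut_apply, e])
  obtain rfl : k = l := Units.ext (by simpa using congrArg Prod.fst (e' 1 0))
  obtain rfl : σ = τ := RingEquiv.ext fun x => by simpa using congrArg Prod.fst (e' x 0)
  obtain rfl : h = h' := AddMonoidHom.ext fun x => by simpa using congrArg Prod.snd (e' x 0)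
  rfl

theorem card_aut_tSub (hm : 1 ≤ m) (hF : Fintype.card F = 2 ^ (2 * m + 1)) :
    Nat.card (MulAut (tSub (m := m) hF)) =
      2 ^ ((2 * m + 1) ^ 2) * ((2 * m + 1) * (2 ^ (2 * m + 1) - 1)) := by
  rw [← Nat.card_eq_of_bijective _ ⟨sylAut_injective hF, exists_sylAut hm hF⟩, Nat.card_prod,
    Nat.card_prod, card_field_aut hF, card_additive hF, Nat.card_units, Nat.card_eq_fintype_card, hF]
  ring

theorem mem_center_apply {G : Type*} [Group G] (φ : MulAut G) {x : G}
    (hx : x ∈ Subgroup.center G) : φ x ∈ Subgroup.center G := by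
  rw [Subgroup.mem_center_iff] at hx ⊢
  intro g
  obtain ⟨g, rfl⟩ := φ.surjective g
  rw [← map_mul, ← map_mul, hx]

/-- The automorphisms trivial modulo the centre. -/
def centralAuts (G : Type*) [Group G] : Subgroup (MulAut G) where
  carrier := {ψ | ∀ g, g⁻¹ * ψ g ∈ Subgroup.center G}
  one_mem' g := by simp
  mul_mem' {φ ψ} hφ hψ g := by
    have e : g⁻¹ * (φ * ψ) g = g⁻¹ * φ g * φ (g⁻¹ * ψ g) := by
      simp [MulAut.mul_apply, mul_assoc]
    rw [e]
    exact Subgroup.mul_mem _ (hφ g) (mem_center_apply φ (hψ g))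
  inv_mem' {φ} hφ g := by
    have e : g⁻¹ * φ⁻¹ g = ((φ⁻¹ g)⁻¹ * φ (φ⁻¹ g))⁻¹ := by
      simp [MulAut.apply_inv_self]
    rw [e]
    exact Subgroup.inv_mem _ (hφ _)

theorem centralAuts_normal (G : Type*) [Group G] : (centralAuts G).Normal := by
  refine ⟨fun φ hφ χ g => ?_⟩
  have e : g⁻¹ * (χ * φ * χ⁻¹) g = χ ((χ⁻¹ g)⁻¹ * φ (χ⁻¹ g)) := by
    simp [MulAut.mul_apply, MulAut.apply_inv_self]
  rw [e]
  exact mem_center_apply χ (hφ _)

theorem mem_centralAuts_iff (hm : 1 ≤ m) (hF : Fintype.card F = 2 ^ (2 * m + 1))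
    (ψ : MulAut (tSub (m := m) hF)) :
    ψ ∈ centralAuts _ ↔ ∃ h : F →+ F, sylAut hF (1, RingEquiv.refl F, h) = ψ := by
  constructor
  · intro hψ
    obtain ⟨⟨k, σ, h⟩, rfl⟩ := exists_sylAut hm hF ψ
    have ha : ∀ a : F, (k : F) * σ a = a := by
      intro a
      have e := hψ (tCoord hF (a, 0))
      have e2 : (tCoord (m := m) hF (a, 0))⁻¹ = tCoord hF (a, th m a * a) :=
        Subtype.ext (by rw [InvMemClass.coe_inv, coe_tCoord, coe_tCoord, tEl_inv, zero_add])
      rw [sylAut_apply, e2, tCoord_mul, tCoord_mem_center hm hF] at e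
      exact ((add_eq_zero_iff hF).mp e).symm
    have hk : k = 1 := Units.ext (by simpa using ha 1)
    subst hk
    obtain rfl : σ = RingEquiv.refl F := RingEquiv.ext fun x => by simpa using ha x
    exact ⟨h, rfl⟩
  · rintro ⟨h, rfl⟩ g
    obtain ⟨⟨a, b⟩, rfl⟩ := (tCoord hF).surjective g
    have e2 : (tCoord (m := m) hF (a, b))⁻¹ = tCoord hF (a, b + th m a * a) :=
      Subtype.ext (by rw [InvMemClass.coe_inv, coe_tCoord, coe_tCoord, tEl_inv])
    rw [sylAut_apply, e2, tCoord_mul, tCoord_mem_center hm hF]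
    simp [add_self_zero hF]

theorem card_centralAuts (hm : 1 ≤ m) (hF : Fintype.card F = 2 ^ (2 * m + 1)) :
    Nat.card (centralAuts (tSub (m := m) hF)) = 2 ^ ((2 * m + 1) ^ 2) := by
  rw [← card_additive hF]
  symm
  refine Nat.card_eq_of_bijective
    (fun h : F →+ F => (⟨sylAut hF (1, RingEquiv.refl F, h),
      (mem_centralAuts_iff hm hF _).mpr ⟨h, rfl⟩⟩ : centralAuts (tSub (m := m) hF))) ⟨?_, ?_⟩
  · intro h h' e
    simpa using sylAut_injective hF (congrArg Subtype.val e)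
  · rintro ⟨ψ, hψ⟩
    obtain ⟨h, rfl⟩ := (mem_centralAuts_iff hm hF _).mp hψ
    exact ⟨h, rfl⟩

theorem sylAut_central_apply (hF : Fintype.card F = 2 ^ (2 * m + 1)) (h : F →+ F) (a b : F) :
    sylAut (m := m) hF (1, RingEquiv.refl F, h) (tCoord hF (a, b)) = tCoord hF (a, b + h a) := by
  rw [sylAut_apply, Units.val_one, th_one, one_mul, one_mul, RingEquiv.refl_apply,
    RingEquiv.refl_apply, one_mul]

theorem sylAut_central_mul (hF : Fintype.card F = 2 ^ (2 * m + 1)) (h h' : F →+ F) :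
    sylAut (m := m) hF (1, RingEquiv.refl F, h) * sylAut hF (1, RingEquiv.refl F, h') =
      sylAut hF (1, RingEquiv.refl F, h + h') := by
  apply MulEquiv.ext
  intro g
  obtain ⟨p, hp⟩ := (tCoord hF).surjective g
  obtain ⟨a, b⟩ := p
  rw [← hp, MulAut.mul_apply, sylAut_central_apply, sylAut_central_apply, sylAut_central_apply,
    AddMonoidHom.add_apply, add_assoc, add_comm (h' a)]

theorem centralAuts_elementary (hm : 1 ≤ m) (hF : Fintype.card F = 2 ^ (2 * m + 1)) :
    (∀ φ ∈ centralAuts (tSub (m := m) hF), ∀ ψ ∈ centralAuts (tSub (m := m) hF),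
      φ * ψ = ψ * φ) ∧ ∀ φ ∈ centralAuts (tSub (m := m) hF), φ ^ 2 = 1 := by
  constructor
  · intro φ hφ ψ hψ
    obtain ⟨h, rfl⟩ := (mem_centralAuts_iff hm hF φ).mp hφ
    obtain ⟨h', rfl⟩ := (mem_centralAuts_iff hm hF ψ).mp hψ
    rw [sylAut_central_mul, sylAut_central_mul, add_comm h h']
  · intro φ hφ
    obtain ⟨h, rfl⟩ := (mem_centralAuts_iff hm hF φ).mp hφ
    have e : h + h = 0 := AddMonoidHom.ext fun x => add_self_zero hF (h x)
    rw [sq, sylAut_central_mul, e]
    apply MulEquiv.ext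
    intro g
    obtain ⟨p, hp⟩ := (tCoord hF).surjective g
    obtain ⟨a, b⟩ := p
    rw [← hp, sylAut_central_apply, AddMonoidHom.zero_apply, add_zero, MulAut.one_apply]

theorem normal_sylow_eq_core {G : Type*} [Group G] [Finite G] {p : ℕ} [Fact p.Prime]
    (K : Subgroup G) [K.Normal] (hK : IsPGroup p K) (hi : ¬ p ∣ K.index) :
    sSup {N : Subgroup G | N.Normal ∧ IsPGroup p N} = K := by
  refine le_antisymm (sSup_le ?_) (le_sSup ⟨inferInstance, hK⟩)
  rintro N ⟨-, hN⟩ x hx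
  rw [← QuotientGroup.eq_one_iff]
  obtain ⟨k, hk⟩ := hN ⟨x, hx⟩
  have hxk : x ^ p ^ k = 1 := by simpa using congrArg Subtype.val hk
  rw [← orderOf_eq_one_iff]
  have h1 : orderOf (x : G ⧸ K) ∣ p ^ k :=
    orderOf_dvd_of_pow_eq_one (by rw [← QuotientGroup.mk_pow, hxk, QuotientGroup.mk_one])
  have h2 : orderOf (x : G ⧸ K) ∣ K.index := orderOf_dvd_natCard _
  exact Nat.eq_one_of_dvd_coprimes
    (((Fact.out : p.Prime).coprime_iff_not_dvd.mpr hi).pow_left k) h1 h2

end H57
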