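import Cfsg.Agent.H57.SzPrincipal
import Cfsg.Agent.H13.TICoeff

/-!
The budget of a torus: how many irreducible characters may have degree prime to its order.
-/

set_option autoImplicit false
set_option linter.unusedSectionVars false

namespace H57

open Cfsg
open scoped ComplexConjugate

variable {F : Type*} [Field F] [Fintype F] {m : ℕ}

theorem tor_hyp (hm : 1 ≤ m) (hF : Fintype.card F = 2 ^ (2 * m + 1))
    {A : Subgroup (Cfsg.Sz F m)} (hA : IsTor A) : H13.TI.Hyp A where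
  ti g x hx hx1 h := mem_normalizer_of_map_eq (tor_ti hm hF hA hA hx hx1 h)
  cent g x hx hx1 h :=
    (tor_centralizer hm hF hA hx hx1).le (Subgroup.mem_centralizer_singleton_iff.mpr h)

theorem tor_comm (hm : 1 ≤ m) (hF : Fintype.card F = 2 ^ (2 * m + 1))
    {A : Subgroup (Cfsg.Sz F m)} (hA : IsTor A) (x y : A) : x * y = y * x :=
  Subtype.ext (comm_of_cyclic (utor_comm hm hF (Or.inr hA)) x.2 y.2)

theorem card_torus_lin (hm : 1 ≤ m) (hF : Fintype.card F = 2 ^ (2 * m + 1))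
    {A : Subgroup (Cfsg.Sz F m)} (hA : IsTor A) : (commutator A).index = Nat.card A := by
  letI : CommGroup A := { (inferInstance : Group A) with mul_comm := tor_comm hm hF hA }
  exact (Nat.card_congr (Abelianization.equivOfComm (H := A)).toEquiv).symm

theorem tor_relIndex (hm : 1 ≤ m) (hF : Fintype.card F = 2 ^ (2 * m + 1))
    {A : Subgroup (Cfsg.Sz F m)} (hA : IsTor A) :
    A.relIndex (Subgroup.normalizer (A : Set (Cfsg.Sz F m))) = 4 :=
  normIdx_tor hm hF hA

variable [Fintype (Cfsg.Sz F m)]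

/-- The degree is the sum of the multiplicities of the linear characters. -/
theorem sum_coef {A : Subgroup (Cfsg.Sz F m)} [Fintype (A →* ℂˣ)] (hc : ∀ x y : A, x * y = y * x)
    (χ : IrrCharacter (Cfsg.Sz F m)) :
    ∑ θ : A →* ℂˣ, (H13.TI.coef χ θ : ℝ) = H12.degree (χ : Cfsg.Sz F m → ℂ) := by
  classical
  haveI := Fintype.ofFinite A
  have hbij : Function.Bijective (H12.linIrr (G := A)) := by
    refine ⟨H12.linIrr_injective, fun φ => ?_⟩
    obtain ⟨l, hl⟩ := H12.exists_monoidHom_of_apply_one_eq_one (H12.isCharacter_irr φ)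
      (H12.irr_apply_one_of_comm hc φ)
    exact ⟨l, Subtype.ext hl⟩
  have h := H12.classFunction_apply_eq_sum
    (H12.isClassFunction_res (H12.irr_isClassFunction χ) A) (1 : A)
  rw [← (Equiv.ofBijective _ hbij).sum_comp] at h
  have e : ∀ θ : A →* ℂˣ, classInner (fun x : A => (χ : Cfsg.Sz F m → ℂ) x)
      ((Equiv.ofBijective _ hbij θ : IrrCharacter A) : A → ℂ) *
      ((Equiv.ofBijective _ hbij θ : IrrCharacter A) : A → ℂ) 1 = (H13.TI.coef χ θ : ℂ) := fun θ => by
    show classInner _ (H13.TI.lf θ) * H13.TI.lf θ 1 = _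
    rw [H13.TI.coef_res, H13.TI.lf_one_apply, mul_one]
  rw [Finset.sum_congr rfl fun θ _ => e θ] at h
  simp only [OneMemClass.coe_one, H12.irr_apply_one] at h
  exact_mod_cast h.symm

theorem cut_bound {ι : Type*} [Fintype ι] (c : ι → ℕ) (s : Finset ι)
    (hs : ∀ i ∈ s, ∀ j ∉ s, c i ≠ c j) :
    (s.card : ℝ) * ((Fintype.card ι : ℝ) - s.card) ≤
      (Fintype.card ι : ℝ) * ∑ i, (c i : ℝ) ^ 2 - (∑ i, (c i : ℝ)) ^ 2 := by
  classical
  have hpair : ∀ t : Finset ι, ∀ u : Finset ι, (∀ i ∈ t, ∀ j ∈ u, c i ≠ c j) →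
      (t.card : ℝ) * u.card ≤ ∑ i ∈ t, ∑ j ∈ u, ((c i : ℝ) - c j) ^ 2 := by
    intro t u h
    calc (t.card : ℝ) * u.card = ∑ _i ∈ t, ∑ _j ∈ u, (1 : ℝ) := by simp
      _ ≤ _ := Finset.sum_le_sum fun i hi => Finset.sum_le_sum fun j hj => by
        have hne : (c i : ℤ) - c j ≠ 0 := sub_ne_zero.mpr (by exact_mod_cast h i hi j hj)
        have h1 : (1 : ℤ) ≤ ((c i : ℤ) - c j) ^ 2 := by
          have := pow_two_pos_of_ne_zero hne
          omega
        exact_mod_cast h1
  have h1 := hpair s sᶜ fun i hi j hj => hs i hi j (Finset.mem_compl.mp hj)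
  have h2 := hpair sᶜ s fun i hi j hj => (hs j hj i (Finset.mem_compl.mp hi)).symm
  have hle : ∀ (t : Finset ι), ∑ i ∈ t, ∑ j ∈ tᶜ, ((c i : ℝ) - c j) ^ 2 ≤
      ∑ i ∈ t, ∑ j, ((c i : ℝ) - c j) ^ 2 := fun t => Finset.sum_le_sum fun i _ =>
    Finset.sum_le_sum_of_subset_of_nonneg (Finset.subset_univ _) fun j _ _ => sq_nonneg _
  have h3 := hle s
  have h4 := hle sᶜ
  rw [compl_compl] at h4
  have h5 := Finset.sum_add_sum_compl s fun i => ∑ j, ((c i : ℝ) - c j) ^ 2
  have h6 : ∑ i, ∑ j, ((c i : ℝ) - c j) ^ 2 =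
      2 * ((Fintype.card ι : ℝ) * ∑ i, (c i : ℝ) ^ 2 - (∑ i, (c i : ℝ)) ^ 2) := by
    simp only [sub_sq, Finset.sum_add_distrib, Finset.sum_sub_distrib, Finset.sum_const,
      Finset.card_univ, nsmul_eq_mul, ← Finset.mul_sum, ← Finset.sum_mul, sq (∑ i, (c i : ℝ))]
    ring
  have hc : ((sᶜ.card : ℕ) : ℝ) = (Fintype.card ι : ℝ) - s.card := by
    rw [Finset.card_compl, Nat.cast_sub (Finset.card_le_univ s)]
  rw [hc] at h1 h2
  linarith

/-- The total of the torus budget. -/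
theorem sum_sqSum (hm : 1 ≤ m) (hF : Fintype.card F = 2 ^ (2 * m + 1))
    {A : Subgroup (Cfsg.Sz F m)} (hA : IsTor A) :
    ∑ χ : IrrCharacter (Cfsg.Sz F m), H13.TI.sqSum A χ = (Nat.card A : ℝ) - 1 := by
  classical
  have hcol : ∀ u : A, u ≠ 1 →
      ∑ χ : IrrCharacter (Cfsg.Sz F m), Complex.normSq ((χ : Cfsg.Sz F m → ℂ) u) = Nat.card A := by
    intro u hu
    have h := H12.column_orthogonality (u : Cfsg.Sz F m) u
    rw [if_pos (IsConj.refl _), tor_centralizer hm hF hA u.2 (fun e => hu (Subtype.ext e))] at h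
    simp only [Complex.mul_conj] at h
    exact_mod_cast h
  simp only [H13.TI.sqSum]
  rw [← Finset.mul_sum, Finset.sum_comm,
    Finset.sum_congr rfl (g := fun u : A => if u = 1 then (0 : ℝ) else Nat.card A) fun u _ => by
      by_cases hu : u = 1
      · simp [hu]
      · simp [hu, hcol u hu]]
  rw [Finset.sum_ite, Finset.sum_const_zero, zero_add, Finset.sum_const, nsmul_eq_mul,
    Finset.filter_ne', Finset.card_erase_of_mem (Finset.mem_univ _), Finset.card_univ,
    ← Nat.card_eq_fintype_card, Nat.cast_sub Nat.card_pos, Nat.cast_one]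
  field_simp

/-- At most `w + 4` irreducible characters have degree not divisible by the order `4w + 1` of the
torus, provided no degree `q²` occurs twice. -/
theorem torus_budget (hm : 1 ≤ m) (hF : Fintype.card F = 2 ^ (2 * m + 1))
    {A : Subgroup (Cfsg.Sz F m)} (hA : IsTor A) {w : ℕ} (ha : Nat.card A = 4 * w + 1)
    (st : IrrCharacter (Cfsg.Sz F m)) (hst : st ≠ H12.oneIrr _)
    (hstd : ¬ Nat.card A ∣ H12.degree (st : Cfsg.Sz F m → ℂ))
    (hstu : ∀ χ : IrrCharacter (Cfsg.Sz F m),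
      H12.degree (χ : Cfsg.Sz F m → ℂ) = H12.degree (st : Cfsg.Sz F m → ℂ) → χ = st)
    (s : Finset (IrrCharacter (Cfsg.Sz F m))) (h1s : H12.oneIrr _ ∉ s) (h2s : st ∉ s)
    (hs : ∀ χ ∈ s, ¬ Nat.card A ∣ H12.degree (χ : Cfsg.Sz F m → ℂ)) :
    s.card ≤ w + 2 := by
  classical
  have hHyp := tor_hyp hm hF hA
  haveI : Finite (A →* ℂˣ) := Nat.finite_of_card_ne_zero (by
    rw [H12.card_monoidHom_units]; exact Subgroup.index_ne_zero_of_finite)
  haveI := Fintype.ofFinite (A →* ℂˣ)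
  have hv : Fintype.card (A →* ℂˣ) = Nat.card A := by
    rw [← Nat.card_eq_fintype_card, H12.card_monoidHom_units, card_torus_lin hm hF hA]
  have ha5 := tor_five_le hm hF hA
  set a : ℝ := (Nat.card A : ℝ) with hadef
  have hapos : 0 < a := by rw [hadef]; exact_mod_cast Nat.card_pos
  let Q : IrrCharacter (Cfsg.Sz F m) → ℝ := fun χ =>
    a * ∑ θ : A →* ℂˣ, (H13.TI.coef χ θ : ℝ) ^ 2 - (∑ θ : A →* ℂˣ, (H13.TI.coef χ θ : ℝ)) ^ 2
  have hQle : ∀ χ, Q χ ≤ a * H13.TI.sqSum A χ := by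
    intro χ
    have h : ∑ θ : A →* ℂˣ, (H13.TI.coef χ θ : ℝ) ^ 2 - (∑ θ : A →* ℂˣ, (H13.TI.coef χ θ : ℝ)) ^ 2 /
        (Fintype.card (A →* ℂˣ) : ℝ) ≤ H13.TI.sqSum A χ := H13.TI.variance_le χ
    rw [hv, sub_le_iff_le_add] at h
    have h' := mul_le_mul_of_nonneg_left h hapos.le
    rw [mul_add, mul_div_cancel₀ _ hapos.ne'] at h'
    simp only [Q]
    linarith
  have hcut : ∀ χ (θ₀ : A →* ℂˣ),
      ((Finset.univ.filter fun θ : A →* ℂˣ => H13.TI.coef χ θ = H13.TI.coef χ θ₀).card : ℝ) *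
        (a - (Finset.univ.filter fun θ : A →* ℂˣ => H13.TI.coef χ θ = H13.TI.coef χ θ₀).card) ≤ Q χ := by
    intro χ θ₀
    have h := cut_bound (fun θ : A →* ℂˣ => H13.TI.coef χ θ)
      (Finset.univ.filter fun θ : A →* ℂˣ => H13.TI.coef χ θ = H13.TI.coef χ θ₀) (fun i hi j hj => by
        simp only [Finset.mem_filter, Finset.mem_univ, true_and] at hi hj
        exact fun e => hj (e ▸ hi))
    rw [hv] at h
    exact h
  have hnv : ∀ χ : IrrCharacter (Cfsg.Sz F m), ¬ Nat.card A ∣ H12.degree (χ : Cfsg.Sz F m → ℂ) →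
      a - 1 ≤ Q χ := by
    intro χ hχ
    set P := Finset.univ.filter fun θ : A →* ℂˣ => H13.TI.coef χ θ = H13.TI.coef χ 1
    have hP1 : 1 ≤ P.card := Finset.card_pos.mpr ⟨1, Finset.mem_filter.mpr ⟨Finset.mem_univ _, rfl⟩⟩
    have hP2 : P.card + 1 ≤ Nat.card A := by
      by_contra hc
      apply hχ
      have hPu : P = Finset.univ := Finset.eq_univ_of_card _ (by
        have := Finset.card_le_univ P
        rw [hv] at this ⊢
        omega)
      have h := sum_coef (tor_comm hm hF hA) χ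
      rw [Finset.sum_congr rfl (g := fun _ => (H13.TI.coef χ (1 : A →* ℂˣ) : ℝ)) fun θ _ => by
        have : θ ∈ P := hPu ▸ Finset.mem_univ θ
        simp only [P, Finset.mem_filter] at this
        rw [this.2], Finset.sum_const, Finset.card_univ, hv, nsmul_eq_mul] at h
      exact ⟨H13.TI.coef χ (1 : A →* ℂˣ), by exact_mod_cast h.symm⟩
    have h := hcut χ 1
    have h1 : (1 : ℝ) ≤ P.card := by exact_mod_cast hP1
    have h2 : (P.card : ℝ) + 1 ≤ a := by rw [hadef]; exact_mod_cast hP2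
    nlinarith
  have hQ0 : ∀ χ, 0 ≤ Q χ := fun χ => by
    have h := cut_bound (fun θ : A →* ℂˣ => H13.TI.coef χ θ) ∅ (fun i hi => absurd hi (Finset.notMem_empty i))
    rw [hv, Finset.card_empty, Nat.cast_zero, zero_mul] at h
    exact h
  have htot : ∑ χ, Q χ ≤ a * (a - 1) := by
    refine (Finset.sum_le_sum fun χ _ => hQle χ).trans ?_
    rw [← Finset.mul_sum, sum_sqSum hm hF hA]
  set S := insert (H12.oneIrr (Cfsg.Sz F m)) (insert st s) with hS
  have hScard : S.card = s.card + 2 := by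
    rw [hS, Finset.card_insert_of_notMem (by
      simp only [Finset.mem_insert, not_or]
      exact ⟨hst.symm, h1s⟩), Finset.card_insert_of_notMem h2s]
  have hSQ : ∀ χ ∈ S, a - 1 ≤ Q χ := by
    intro χ hχ
    apply hnv
    simp only [hS, Finset.mem_insert] at hχ
    rcases hχ with rfl | rfl | hχ
    · rw [degree_eq_of_apply_one (n := 1) _ (by simp [H12.oneIrr]), Nat.dvd_one]
      omega
    · exact hstd
    · exact hs χ hχ
  rcases Nat.lt_or_ge w 2 with hw | hw
  · have h : (S.card : ℝ) * (a - 1) ≤ a * (a - 1) := by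
      refine le_trans ?_ htot
      rw [← nsmul_eq_mul, ← Finset.sum_const]
      exact (Finset.sum_le_sum hSQ).trans
        (Finset.sum_le_sum_of_subset_of_nonneg (Finset.subset_univ _) fun χ _ _ => hQ0 χ)
    have ha1 : 0 < a - 1 := by
      rw [hadef, sub_pos]; exact_mod_cast (show 1 < Nat.card A by omega)
    have h' := le_of_mul_le_mul_right h ha1
    rw [hadef] at h'
    have : S.card ≤ Nat.card A := by exact_mod_cast h'
    omega
  -- the exceptional characters
  obtain ⟨Fm⟩ := H13.TI.exists_family hHyp (by rw [card_torus_lin hm hF hA]; omega)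
  have hFw : Fm.w = w := by
    have h := Fm.card_eq
    rw [card_torus_lin hm hF hA, tor_relIndex hm hF hA, ha] at h
    omega
  have hsep : ∀ i, ∃ j, H13.TI.coef (Fm.mu i) (Fm.rep i) ≠ H13.TI.coef (Fm.mu i) (Fm.rep j) := by
    intro i
    obtain ⟨j, hj⟩ : ∃ j, j ≠ i := by
      haveI : Nontrivial (Fin Fm.w) := Fin.nontrivial_iff_two_le.mpr (by omega)
      exact exists_ne i
    refine ⟨j, fun e => ?_⟩
    have h := H13.TI.coef_diff Fm (Fm.mu i) i j
    rw [e, sub_self, if_pos rfl, if_neg (fun e => hj (Fm.mu_inj e).symm), sub_zero, mul_one] at h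
    exact H13.TI.Family.eps_ne_zero Fm h.symm
  have horb : ∀ (χ : IrrCharacter (Cfsg.Sz F m)) (i : Fin Fm.w) (v : ℕ),
      H13.TI.coef χ (Fm.rep i) = v →
        4 ≤ (Finset.univ.filter fun θ : A →* ℂˣ => H13.TI.coef χ θ = v).card := by
    intro χ i v hv'
    refine ((tor_relIndex hm hF hA).symm.trans (H13.TI.card_orbit hHyp (Fm.rep_ne i)).symm).trans_le ?_
    rw [Nat.card_eq_fintype_card, Fintype.card_subtype]
    refine Finset.card_le_card fun θ hθ => ?_
    simp only [Finset.mem_filter, Finset.mem_univ, true_and] at hθ ⊢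
    rw [← hv', H13.TI.coef_rel χ hθ]
  have hFQ : ∀ i, 4 * (a - 4) ≤ Q (Fm.mu i) := by
    intro i
    obtain ⟨j, hj⟩ := hsep i
    set P := Finset.univ.filter fun θ : A →* ℂˣ =>
      H13.TI.coef (Fm.mu i) θ = H13.TI.coef (Fm.mu i) (Fm.rep i) with hP
    have hk1 : 4 ≤ P.card := horb _ i _ rfl
    have hk2 : P.card + 4 ≤ Nat.card A := by
      have h4 := horb (Fm.mu i) j _ rfl
      rw [← hv, ← Finset.card_univ]
      refine le_trans (Nat.add_le_add_left h4 _) ?_
      rw [← Finset.card_union_of_disjoint]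
      · exact Finset.card_le_univ _
      · rw [Finset.disjoint_left]
        intro θ h1 h2
        simp only [hP, Finset.mem_filter] at h1 h2
        exact hj (h1.2.symm.trans h2.2)
    have h := hcut (Fm.mu i) (Fm.rep i)
    have h1 : (4 : ℝ) ≤ P.card := by exact_mod_cast hk1
    have h2 : (P.card : ℝ) + 4 ≤ a := by rw [hadef]; exact_mod_cast hk2
    nlinarith
  set E := (Finset.univ : Finset (Fin Fm.w)).image Fm.mu with hE
  have hEcard : E.card = w := by
    rw [hE, Finset.card_image_of_injective _ Fm.mu_inj, Finset.card_univ, Fintype.card_fin, hFw]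
  have hEdeg : ∀ i j, H12.degree (Fm.mu i : Cfsg.Sz F m → ℂ) = H12.degree (Fm.mu j : Cfsg.Sz F m → ℂ) := by
    intro i j
    have h := congrFun (Fm.diff i j) 1
    simp only [Pi.sub_apply, Pi.smul_apply, smul_eq_mul, H13.TI.ind_one_apply, sub_self] at h
    rw [eq_comm, mul_eq_zero, or_iff_right (H13.TI.Family.eps_ne_zero Fm), sub_eq_zero,
      H12.irr_apply_one, H12.irr_apply_one] at h
    exact_mod_cast h
  have hone : H12.oneIrr (Cfsg.Sz F m) ∉ E := by
    intro h
    obtain ⟨i, -, hi⟩ := Finset.mem_image.mp h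
    obtain ⟨j, hj⟩ := hsep i
    apply hj
    haveI := Fintype.ofFinite A
    have hc : ∀ θ : A →* ℂˣ, θ ≠ 1 → H13.TI.coef (H12.oneIrr (Cfsg.Sz F m)) θ = 0 := by
      intro θ hθ
      have h := H13.TI.coef_res (H := A) (H12.oneIrr (Cfsg.Sz F m)) θ
      rw [show (fun h : A => (H12.oneIrr (Cfsg.Sz F m) : Cfsg.Sz F m → ℂ) h) =
        H13.TI.lf (1 : A →* ℂˣ) from funext fun _ => by simp [H12.oneIrr, H13.TI.lf],
        H13.TI.lf_inner, if_neg hθ.symm] at h
      exact_mod_cast h.symm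
    rw [hi, hc _ (Fm.rep_ne i), hc _ (Fm.rep_ne j)]
  have hste : st ∉ E := by
    intro h
    obtain ⟨i, -, hi⟩ := Finset.mem_image.mp h
    haveI : Nontrivial (Fin Fm.w) := Fin.nontrivial_iff_two_le.mpr (by omega)
    obtain ⟨j, hj⟩ := exists_ne i
    refine hj (Fm.mu_inj ?_)
    rw [hi]
    exact hstu _ (by rw [hEdeg j i, hi])
  have h : ((S \ E).card : ℝ) * (a - 1) + (w : ℝ) * (4 * (a - 4)) ≤ a * (a - 1) := by
    refine le_trans ?_ htot
    calc ((S \ E).card : ℝ) * (a - 1) + (w : ℝ) * (4 * (a - 4))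
        ≤ ∑ χ ∈ S \ E, Q χ + ∑ χ ∈ E, Q χ := by
          refine add_le_add ?_ ?_
          · rw [← nsmul_eq_mul, ← Finset.sum_const]
            exact Finset.sum_le_sum fun χ hχ => hSQ χ (Finset.mem_sdiff.mp hχ).1
          · rw [← hEcard, ← nsmul_eq_mul, ← Finset.sum_const]
            refine Finset.sum_le_sum fun χ hχ => ?_
            obtain ⟨i, -, rfl⟩ := Finset.mem_image.mp hχ
            exact hFQ i
      _ = ∑ χ ∈ (S \ E) ∪ E, Q χ := (Finset.sum_union Finset.sdiff_disjoint).symm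
      _ ≤ _ := Finset.sum_le_sum_of_subset_of_nonneg (Finset.subset_univ _) fun χ _ _ => hQ0 χ
  have hk : (S \ E).card ≤ 4 := by
    rw [hadef, ha] at h
    push_cast at h
    have h' : (((S \ E).card : ℝ) - 4) * (4 * w) ≤ 0 := by nlinarith
    by_contra hc
    have : (5 : ℝ) ≤ (S \ E).card := by exact_mod_cast not_le.mp hc
    have : (2 : ℝ) ≤ w := by exact_mod_cast hw
    nlinarith
  have := Finset.card_sdiff_add_card S E
  have := Finset.card_union_le (S \ E) E
  have := Finset.card_le_card (Finset.subset_union_left (s₁ := S) (s₂ := E))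
  omega

end H57
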