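import Cfsg.Agent.H57.SzSylow
import Cfsg.Agent.H57.SzForm
import Cfsg.Agent.H57.FreeBlocks

/-!
No law holds in large Suzuki groups: a degree argument on the blocks `W T`.
-/

set_option autoImplicit false

namespace H57

open Matrix Polynomial

variable {F : Type*} [Field F] [Fintype F] {m : ℕ}

/-- The coefficients `a`, `b + θ a a`, `θ a`, `b` of `T(x,0) ^ j`, as polynomials. -/
noncomputable def powCoef (F : Type*) [Field F] (m j : ℕ) : Fin 4 → F[X] :=
  if j = 1 then ![X, X ^ (2 ^ (m + 1) + 1), X ^ 2 ^ (m + 1), 0]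
  else if j = 2 then ![0, X ^ (2 ^ (m + 1) + 1), 0, X ^ (2 ^ (m + 1) + 1)]
  else ![X, 0, X ^ 2 ^ (m + 1), X ^ (2 ^ (m + 1) + 1)]

/-- The vector obtained from `v` by applying `T ^ j` and the antidiagonal. -/
noncomputable def polyStep (m j : ℕ) (v : Fin 4 → F[X]) : Fin 4 → F[X] :=
  ![v 3, v 2 + powCoef F m j 0 * v 3, v 1 + powCoef F m j 2 * v 2 + powCoef F m j 3 * v 3,
    v 0 + powCoef F m j 0 * v 1 + powCoef F m j 1 * v 2 + X ^ (2 ^ (m + 1) + 2) * v 3]

/-- The image of the last basis vector under a product of blocks. -/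
noncomputable def polyVec (F : Type*) [Field F] (m : ℕ) (js : List ℕ) : Fin 4 → F[X] :=
  js.foldr (polyStep m) ![0, 0, 0, 1]

omit [Fintype F] in
theorem powCoef_deg (j : ℕ) (i : Fin 4) : (powCoef F m j i).natDegree ≤ 2 ^ (m + 1) + 1 := by
  unfold powCoef
  split_ifs <;> fin_cases i <;> simp

omit [Fintype F] in
theorem polyVec_deg (js : List ℕ) :
    (polyVec F m js 3 ≠ 0 ∧ (polyVec F m js 3).natDegree = js.length * (2 ^ (m + 1) + 2)) ∧
      ∀ i, (polyVec F m js i).natDegree ≤ js.length * (2 ^ (m + 1) + 2) := by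
  induction js with
  | nil =>
    refine ⟨⟨by simp [polyVec], by simp [polyVec]⟩, fun i => ?_⟩
    fin_cases i <;> simp [polyVec]
  | cons j js ih =>
    obtain ⟨⟨hne, hd⟩, hle⟩ := ih
    show (polyStep m j (polyVec F m js) 3 ≠ 0 ∧ _) ∧ _
    have hv : polyVec F m (j :: js) = polyStep m j (polyVec F m js) := rfl
    rw [hv]
    set v := polyVec F m js
    set D := js.length * (2 ^ (m + 1) + 2)
    set N := 2 ^ (m + 1)
    have hlen : (j :: js).length * (N + 2) = D + (N + 2) := by
      rw [List.length_cons, add_mul, one_mul]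
    rw [hlen]
    have hN' : ∀ j k, (powCoef F m j k).natDegree ≤ N + 1 := powCoef_deg
    have hNpos : 0 < N := Nat.two_pow_pos _
    have hstep : polyStep m j v 3 =
        v 0 + powCoef F m j 0 * v 1 + powCoef F m j 1 * v 2 + X ^ (N + 2) * v 3 := rfl
    clear_value N D
    have hmul : ∀ k i, (powCoef F m j k * v i).natDegree ≤ D + (N + 1) := fun k i =>
      Polynomial.natDegree_mul_le.trans (by have h1 := hN' j k; have := hle i; omega)
    have htop : (X ^ (N + 2) * v 3).natDegree = D + (N + 2) := by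
      rw [Polynomial.natDegree_mul (pow_ne_zero _ X_ne_zero) hne, natDegree_X_pow, hd, add_comm]
    have hrest : (v 0 + powCoef F m j 0 * v 1 + powCoef F m j 1 * v 2).natDegree ≤ D + (N + 1) :=
      (natDegree_add_le _ _).trans (max_le ((natDegree_add_le _ _).trans
        (max_le ((hle 0).trans (by omega)) (hmul 0 1))) (hmul 1 2))
    have h3 : (polyStep m j v 3).natDegree = D + (N + 2) := by
      rw [hstep]
      rw [natDegree_add_eq_right_of_natDegree_lt (by omega), htop]
    refine ⟨⟨fun h => by rw [h, natDegree_zero] at h3; omega, h3⟩, fun i => ?_⟩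
    fin_cases i
    · exact (hle 3).trans (by omega)
    · show (v 2 + powCoef F m j 0 * v 3).natDegree ≤ _
      exact (natDegree_add_le _ _).trans (max_le ((hle 2).trans (by omega)) ((hmul 0 3).trans (by omega)))
    · show (v 1 + powCoef F m j 2 * v 2 + powCoef F m j 3 * v 3).natDegree ≤ _
      exact (natDegree_add_le _ _).trans (max_le ((natDegree_add_le _ _).trans
        (max_le ((hle 1).trans (by omega)) ((hmul 2 2).trans (by omega)))) ((hmul 3 3).trans (by omega)))
    · exact h3.le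

theorem tEl_pow_cases (hF : Fintype.card F = 2 ^ (2 * m + 1)) (t : F) :
    tEl hF t 0 ^ 2 = tEl hF 0 (th m t * t) ∧ tEl hF t 0 ^ 3 = tEl hF t (th m t * t) := by
  refine ⟨tEl_sq hF t 0, ?_⟩
  rw [pow_succ, tEl_sq, tEl_mul, th_zero, zero_mul, zero_add, add_zero, add_zero]

theorem blocks_eval (hF : Fintype.card F = 2 ^ (2 * m + 1)) (t : F) :
    ∀ js : List ℕ, (∀ j ∈ js, j = 1 ∨ j = 2 ∨ j = 3) →
      ((blocks (tEl hF t 0) (wEl hF) js).1.1 *ᵥ ![0, 0, 0, 1]) =
        fun i => (polyVec F m js i).eval t := by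
  have h2 := two_eq_zero hF
  intro js
  induction js with
  | nil =>
    intro _
    show (1 : Matrix (Fin 4) (Fin 4) F) *ᵥ ![0, 0, 0, 1] = _
    rw [Matrix.one_mulVec]
    funext i
    fin_cases i <;> simp [polyVec]
  | cons j js ih =>
    intro hjs
    have hm1 : blocks (tEl hF t 0) (wEl hF) (j :: js) =
        wEl hF * (tEl hF t 0 ^ j * blocks (tEl hF t 0) (wEl hF) js) := by
      simp [blocks, mul_assoc]
    rw [hm1]
    show (Cfsg.suzukiForm F * ((tEl hF t 0 ^ j).1.1 * (blocks (tEl hF t 0) (wEl hF) js).1.1)) *ᵥ _ = _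
    rw [← Matrix.mulVec_mulVec, ← Matrix.mulVec_mulVec, ih fun k hk => hjs k (List.mem_cons_of_mem _ hk)]
    obtain ⟨h2', h3'⟩ := tEl_pow_cases hF t
    rcases hjs j List.mem_cons_self with rfl | rfl | rfl
    · rw [pow_one]
      show Cfsg.suzukiForm F *ᵥ (tMat m t 0 *ᵥ _) = _
      rw [tMat_mulVec, form_mulVec]
      funext i
      fin_cases i <;>
        simp [polyVec, polyStep, powCoef, th_def, oF, pow_succ] <;>
        first | ring1 | (left; ring1)
    · rw [h2']
      show Cfsg.suzukiForm F *ᵥ (tMat m 0 (th m t * t) *ᵥ _) = _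
      rw [tMat_mulVec, form_mulVec]
      have e : oF m 0 (th m t * t) = th m t * t ^ 2 := by
        simp only [oF, th_mul, th_th hF, zero_mul, th_zero, zero_add]
        ring
      rw [e]
      funext i
      fin_cases i <;>
        simp [polyVec, polyStep, powCoef, th_def, pow_succ] <;>
        first | ring1 | (left; ring1)
    · rw [h3']
      show Cfsg.suzukiForm F *ᵥ (tMat m t (th m t * t) *ᵥ _) = _
      rw [tMat_mulVec, form_mulVec]
      have e : oF m t (th m t * t) = th m t * t ^ 2 := by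
        simp only [oF, th_mul, th_th hF]
        linear_combination (th m t * t ^ 2) * h2
      rw [e]
      funext i
      fin_cases i <;>
        simp [polyVec, polyStep, powCoef, th_def, add_self_zero hF, pow_succ] <;>
        first | ring1 | (left; ring1)

theorem blocks_nontrivial (hF : Fintype.card F = 2 ^ (2 * m + 1)) {js : List ℕ} (hne : js ≠ [])
    (hjs : ∀ j ∈ js, j = 1 ∨ j = 2 ∨ j = 3) (hlen : js.length + 2 ≤ m) (c : ℕ) :
    ∃ t : F, tEl hF t 0 ^ c * blocks (tEl hF t 0) (wEl hF) js ≠ 1 := by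
  by_contra hcon
  push Not at hcon
  obtain ⟨⟨-, hdeg⟩, -⟩ := polyVec_deg (F := F) (m := m) js
  have hpos : 0 < js.length := List.length_pos_iff.mpr hne
  have hall : ∀ t : F, (polyVec F m js 3 - 1).eval t = 0 := by
    intro t
    obtain ⟨a, b, hab⟩ : ∃ a b, tEl hF t 0 ^ c = tEl hF a b :=
      (tSub (m := m) hF).pow_mem (tEl_mem_tSub hF t 0) c
    have h := congrArg (fun g : Cfsg.Sz F m => (g.1.1 *ᵥ ![0, 0, 0, 1]) 3) (hcon t)
    rw [hab] at h
    have e : (tEl hF a b * blocks (tEl hF t 0) (wEl hF) js).1.1 *ᵥ ![0, 0, 0, 1] =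
        tMat m a b *ᵥ ((blocks (tEl hF t 0) (wEl hF) js).1.1 *ᵥ ![0, 0, 0, 1]) := by
      rw [Matrix.mulVec_mulVec]; rfl
    rw [e, blocks_eval hF t js hjs, tMat_mulVec] at h
    simp at h
    simp [h]
  have hN : js.length * (2 ^ (m + 1) + 2) < Fintype.card F := by
    obtain ⟨k, rfl⟩ : ∃ k, m = k + 1 := ⟨m - 1, by omega⟩
    have h1 : js.length < 2 ^ k := lt_of_lt_of_le Nat.lt_two_pow_self (Nat.pow_le_pow_right (by norm_num) (by omega))
    rw [hF, show 2 * (k + 1) + 1 = k + (k + 1 + 2) by ring]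
    have h2 : 2 ^ (k + 1 + 1) + 2 ≤ 2 ^ (k + 1 + 2) := by
      have : 2 ≤ 2 ^ (k + 1 + 1) := Nat.le_self_pow (by omega) 2
      rw [show k + 1 + 2 = k + 1 + 1 + 1 by ring, pow_succ]; omega
    calc js.length * (2 ^ (k + 1 + 1) + 2) ≤ js.length * 2 ^ (k + 1 + 2) := Nat.mul_le_mul_left _ h2
      _ < 2 ^ k * 2 ^ (k + 1 + 2) := Nat.mul_lt_mul_of_pos_right h1 (by positivity)
      _ = _ := (pow_add 2 k _).symm
  have hsub : (polyVec F m js 3 - 1).natDegree = js.length * (2 ^ (m + 1) + 2) := by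
    rw [← hdeg, ← map_one C, natDegree_sub_C]
  have hz := Polynomial.eq_zero_of_natDegree_lt_card_of_eval_eq_zero (polyVec F m js 3 - 1)
    (f := id) Function.injective_id hall (by rw [hsub]; exact hN)
  rw [hz, natDegree_zero] at hsub
  have : 0 < js.length * (2 ^ (m + 1) + 2) := Nat.mul_pos hpos (by positivity)
  omega

end H57
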